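import Cfsg.Agent.H55.PSpInduced
import Cfsg.Agent.H55.GaloisCard
import Cfsg.Agent.H47.Symp

/-!
Multipliers in `GSp_{2m}` and Galois descent for conformal symplectic matrices.
-/

namespace H55

namespace Psp

open Matrix
open H48 (sf sf_self sf_swap lagr upperSp)

variable {m : ℕ} {F : Type*} [Field F]

local notation "V" => (Fin m ⊕ Fin m → F)
local notation "ee" => fun i => (Pi.single i (1 : F) : Fin m ⊕ Fin m → F)

theorem sf_pair (o : Fin m) : sf (Pi.single (Sum.inr o) (1 : F) : V) (Pi.single (Sum.inl o) 1) = 1 := by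
  rw [H48.sf_apply, Finset.sum_eq_single o]
  · simp
  · intro j _ hj; simp [Pi.single_apply, hj]
  · simp

theorem sf_map_hom {K : Type*} [Field K] (f : K →+* F) (u v : Fin m ⊕ Fin m → K) :
    sf (fun i => f (u i)) (fun i => f (v i)) = f (sf u v) := by
  simp [H48.sf_apply]

/-- A matrix scaling the form on basis vectors scales it everywhere. -/
theorem sf_scale_of_basis {A : Mt m F} {c : F}
    (h : ∀ i j, sf (A *ᵥ ee i) (A *ᵥ ee j) = c * sf (ee i) (ee j)) (u v : V) :
    sf (A *ᵥ u) (A *ᵥ v) = c * sf u v := by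
  have e : (sf (l := Fin m) (F := F)).compl₁₂ A.mulVecLin A.mulVecLin = c • sf := by
    refine LinearMap.ext_basis (Pi.basisFun F _) (Pi.basisFun F _) fun i j => ?_
    simpa using h i j
  exact LinearMap.congr_fun (LinearMap.congr_fun e u) v

theorem mult_unique (hm : 1 ≤ m) {g : GG m F} {c d : Fˣ}
    (hc : ∀ u v : V, sf ((g : Mt m F) *ᵥ u) ((g : Mt m F) *ᵥ v) = (c : F) * sf u v)
    (hd : ∀ u v : V, sf ((g : Mt m F) *ᵥ u) ((g : Mt m F) *ᵥ v) = (d : F) * sf u v) : c = d := by
  have h := (hc _ _).symm.trans (hd (Pi.single (Sum.inr ⟨0, hm⟩) 1) (Pi.single (Sum.inl ⟨0, hm⟩) 1))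
  rw [sf_pair, mul_one, mul_one] at h
  exact Units.ext h

/-- The multiplier of a conformal symplectic matrix. -/
noncomputable def mult (hm : 1 ≤ m) : Cfsg.GSp m F →* Fˣ where
  toFun g := (mem_GSp.1 g.2).choose
  map_one' := mult_unique hm (g := (1 : GG m F)) (mem_GSp.1 (1 : Cfsg.GSp m F).2).choose_spec
    (fun u v => by simp)
  map_mul' g h := by
    refine mult_unique hm (mem_GSp.1 (g * h).2).choose_spec fun u v => ?_
    rw [Subgroup.coe_mul, Units.val_mul, ← mulVec_mulVec, ← mulVec_mulVec,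
      (mem_GSp.1 g.2).choose_spec, (mem_GSp.1 h.2).choose_spec, Units.val_mul, mul_assoc]

theorem mult_spec (hm : 1 ≤ m) (g : Cfsg.GSp m F) (u v : V) :
    sf (((g : GG m F) : Mt m F) *ᵥ u) (((g : GG m F) : Mt m F) *ᵥ v) = (mult hm g : F) * sf u v :=
  (mem_GSp.1 g.2).choose_spec u v

theorem mult_eq (hm : 1 ≤ m) {g : Cfsg.GSp m F} {c : Fˣ}
    (hc : ∀ u v : V, sf (((g : GG m F) : Mt m F) *ᵥ u) (((g : GG m F) : Mt m F) *ᵥ v) = (c : F) * sf u v) :
    mult hm g = c :=
  mult_unique hm (mult_spec hm g) hc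

theorem scalar_mem_GSp (c : Fˣ) : GeneralLinearGroup.scalar (Fin m ⊕ Fin m) c ∈ Cfsg.GSp m F := by
  refine mem_GSp.2 ⟨c * c, fun u v => ?_⟩
  simp [← smul_one_eq_diagonal, smul_mulVec, mul_assoc]

/-- The scalar matrices inside `GSp`. -/
def scG (c : Fˣ) : Cfsg.GSp m F := ⟨_, scalar_mem_GSp c⟩

theorem mult_scG (hm : 1 ≤ m) (c : Fˣ) : mult hm (scG c) = c * c :=
  mult_eq hm fun u v => by simp [scG, ← smul_one_eq_diagonal, smul_mulVec, mul_assoc]

theorem exists_mult (hm : 1 ≤ m) (c : Fˣ) :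
    ∃ g : Cfsg.GSp m F, mult hm g = c ∧ ∀ σ : F ≃+* F, σ c = c →
      Matrix.GeneralLinearGroup.map σ.toRingHom (g : GG m F) = (g : GG m F) := by
  let D : (Fin m ⊕ Fin m) → F := Sum.elim (fun _ => (c : F)) (fun _ => 1)
  have hD : (diagonal D).det ≠ 0 := by
    rw [det_diagonal]
    exact Finset.prod_ne_zero_iff.2 fun i _ => by rcases i with i | i <;> simp [D]
  let g : GG m F := GeneralLinearGroup.mkOfDetNeZero _ hD
  have hg : ∀ u v : V, sf ((g : Mt m F) *ᵥ u) ((g : Mt m F) *ᵥ v) = (c : F) * sf u v := by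
    intro u v
    show sf (diagonal D *ᵥ u) (diagonal D *ᵥ v) = _
    rw [H48.sf_apply, H48.sf_apply, Finset.mul_sum]
    refine Finset.sum_congr rfl fun i _ => ?_
    simp only [mulVec_diagonal, D, Sum.elim_inl, Sum.elim_inr]
    ring
  refine ⟨⟨g, mem_GSp.2 ⟨c, hg⟩⟩, mult_eq hm hg, fun σ hσ => Units.ext ?_⟩
  show (diagonal D).map σ = diagonal D
  rw [diagonal_map (map_zero σ)]
  congr 1
  funext i
  rcases i with i | i <;> simp [D, hσ]

theorem mult_mapGSp (hm : 1 ≤ m) (σ : F ≃+* F) (g : Cfsg.GSp m F) :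
    mult hm (mapGSp σ g) = Units.map (σ : F →+* F).toMonoidHom (mult hm g) := by
  refine mult_eq hm fun u v => ?_
  have hu : u = fun i => σ (σ.symm (u i)) := by simp
  have hv : v = fun i => σ (σ.symm (v i)) := by simp
  show sf (((g : GG m F) : Mt m F).map σ *ᵥ u) (((g : GG m F) : Mt m F).map σ *ᵥ v) =
    σ (mult hm g) * sf u v
  rw [hu, hv, ← map_mulVec, ← map_mulVec, map_sf, map_sf, mult_spec hm, map_mul]

theorem twProd_mem (σ : F ≃+* F) (g : Cfsg.GSp m F) (k : ℕ) :
    ∃ G : Cfsg.GSp m F, (G : GG m F) = twProd σ (g : GG m F) k := by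
  induction k with
  | zero => exact ⟨1, rfl⟩
  | succ k ih =>
    obtain ⟨G, hG⟩ := ih
    refine ⟨g * mapGSp σ G, ?_⟩
    rw [twProd_succ, ← hG]
    rfl

theorem mult_twProd (hm : 1 ≤ m) (σ : F ≃+* F) (g : Cfsg.GSp m F) :
    ∀ (k : ℕ) (G : Cfsg.GSp m F), (G : GG m F) = twProd σ (g : GG m F) k →
      mult hm G = ∏ i ∈ Finset.range k,
        Units.map ((σ ^ i : F ≃+* F) : F →+* F).toMonoidHom (mult hm g) := by
  intro k
  induction k with
  | zero =>
    intro G hG
    rw [show G = 1 from Subtype.ext hG, map_one, Finset.prod_range_zero]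
  | succ k ih =>
    intro G hG
    obtain ⟨G', hG'⟩ := twProd_mem σ g k
    have e : G = g * mapGSp σ G' := Subtype.ext (by rw [hG, twProd_succ, ← hG']; rfl)
    rw [e, map_mul, mult_mapGSp, ih G' hG', map_prod, Finset.prod_range_succ', mul_comm]
    congr 1
    refine Finset.prod_congr rfl fun i _ => ?_
    rw [pow_succ']
    rfl

/-- Hilbert 90 for the conformal symplectic group. -/
theorem hilbert90_GSp (hm : 1 ≤ m) (σ : F ≃+* F) (hσ : 0 < orderOf σ) {g : Cfsg.GSp m F}
    (hg : twProd σ (g : GG m F) (orderOf σ) = 1) :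
    ∃ k : Cfsg.GSp m F, g = k * (mapGSp σ k)⁻¹ := by
  have hN : normUnits σ (mult hm g) = 1 := by
    have := mult_twProd hm σ g (orderOf σ) 1 hg.symm
    rw [map_one] at this
    exact this.symm
  obtain ⟨w, hw⟩ := hilbert90_units σ hσ hN
  obtain ⟨k, hk⟩ := hilbert90_GL σ hσ hg
  have hgk : ∀ u : V, ((g : GG m F) : Mt m F) *ᵥ ((k : Mt m F).map σ *ᵥ u) = (k : Mt m F) *ᵥ u := by
    intro u
    have : (g : GG m F) * mapGLι σ k = k := by rw [hk, inv_mul_cancel_right]
    rw [mulVec_mulVec, ← coe_mapGLι, ← Units.val_mul, this]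
  set B : V → V → F := fun u v => (w : F)⁻¹ * sf ((k : Mt m F) *ᵥ u) ((k : Mt m F) *ᵥ v) with hB
  have hBσ : ∀ u v : V, B (fun i => σ (u i)) (fun i => σ (v i)) = σ (B u v) := by
    intro u v
    simp only [hB]
    conv_lhs => rw [← hgk, ← hgk (fun i => σ (v i)), mult_spec hm, ← map_mulVec, ← map_mulVec, map_sf, hw]
    rw [map_mul, map_inv₀]
    have h1 : σ (w : F) ≠ 0 := by simp
    push_cast [Units.coe_map, Units.val_inv_eq_inv_val]
    show (w : F)⁻¹ * ((w : F) * (σ (w : F))⁻¹ * _) = _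
    field_simp
  let K := fixF σ
  let ι' : (Fin m ⊕ Fin m → K) → V := fun u i => (u i : F)
  have hmem : ∀ u v : Fin m ⊕ Fin m → K, B (ι' u) (ι' v) ∈ K := by
    intro u v
    show σ (B (ι' u) (ι' v)) = B (ι' u) (ι' v)
    rw [← hBσ]
    congr 1
    · funext i; exact (u i).2
    · funext i; exact (v i).2
  let fK : (Fin m ⊕ Fin m → K) → (Fin m ⊕ Fin m → K) → K := fun u v => ⟨_, hmem u v⟩
  have hadd : ∀ u v, ι' (u + v) = ι' u + ι' v := fun u v => funext fun i => rfl
  have hsmul : ∀ (c : K) u, ι' (c • u) = (c : F) • ι' u := fun c u => funext fun i => rfl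
  have hfK : Cfsg.Geo.IsSymplecticForm fK := by
    refine { bilinear := ⟨?_, ?_, ?_, ?_⟩, skew := ?_, alternating := ?_, nondegenerate := ?_ }
    · intro u u' v; exact Subtype.ext (by simp [fK, hB, hadd, mulVec_add, mul_add])
    · intro c u v; exact Subtype.ext (by simp [fK, hB, hsmul, mulVec_smul]; ring)
    · intro u v v'; exact Subtype.ext (by simp [fK, hB, hadd, mulVec_add, mul_add])
    · intro c u v; exact Subtype.ext (by simp [fK, hB, hsmul, mulVec_smul]; ring)
    · intro u v; exact Subtype.ext (by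
        simp only [fK, hB, NegMemClass.coe_neg]
        rw [sf_swap ((k : Mt m F) *ᵥ ι' v)]; ring)
    · intro u; exact Subtype.ext (by simp [fK, hB])
    · intro u hu
      have key : ∃ j : Fin m ⊕ Fin m, B (ι' u) (Pi.single j 1) ≠ 0 := by
        by_contra hne
        push Not at hne
        have hlin : (sf ((k : Mt m F) *ᵥ ι' u)).comp (k : Mt m F).mulVecLin = 0 := by
          refine (Pi.basisFun F _).ext fun j => ?_
          have := hne j
          simp only [hB, mul_eq_zero, inv_eq_zero, Units.ne_zero, false_or] at this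
          simpa using this
        have h0 : (k : Mt m F) *ᵥ ι' u = 0 := by
          refine H48.eq_zero_of_sf fun z => ?_
          have := LinearMap.congr_fun hlin (((k⁻¹ : GG m F) : Mt m F) *ᵥ z)
          simp only [LinearMap.comp_apply, mulVecLin_apply, gl_mulVec_inv, LinearMap.zero_apply] at this
          exact this
        apply hu
        funext i
        have h1 : ι' u = 0 := by rw [← gl_inv_mulVec k (ι' u), h0, mulVec_zero]
        exact Subtype.ext (congrFun h1 i)
      obtain ⟨j, hj⟩ := key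
      have hsingle : ι' (Pi.single j 1) = Pi.single j 1 := by
        funext i
        by_cases h : i = j
        · subst h; simp [ι']
        · simp [ι', h]
      have hne : (fK u (Pi.single j 1)) ≠ 0 := fun h => hj (by
        have := congrArg Subtype.val h
        simpa [fK, hsingle] using this)
      refine ⟨⟨Pi.single j 1, fun h => hne (Subtype.ext ?_)⟩, ⟨Pi.single j 1, hne⟩⟩
      have := congrArg Subtype.val h
      simp only [fK, hB] at this ⊢
      rw [sf_swap ((k : Mt m F) *ᵥ ι' (Pi.single j 1))]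
      simp only [ZeroMemClass.coe_zero] at this ⊢
      simp [this]
  obtain ⟨ψ, hψ⟩ := H47.exists_symp_coords (m := m) (by simp; omega) hfK
  let PK : GL (Fin m ⊕ Fin m) K :=
    Matrix.GeneralLinearGroup.toLin.symm (LinearMap.GeneralLinearGroup.ofLinearEquiv ψ.symm)
  let P : GG m F := Matrix.GeneralLinearGroup.map K.subtype PK
  have hPK : ∀ u, (PK : Matrix (Fin m ⊕ Fin m) (Fin m ⊕ Fin m) K) *ᵥ u = ψ.symm u := by
    intro u
    have h1 : (PK : Matrix (Fin m ⊕ Fin m) (Fin m ⊕ Fin m) K) = LinearMap.toMatrix' ψ.symm.toLinearMap :=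
      rfl
    rw [h1, LinearMap.toMatrix'_mulVec]
    rfl
  have hPσ : mapGLι σ P = P := by
    apply Units.ext
    ext i j
    exact ((PK : Matrix (Fin m ⊕ Fin m) (Fin m ⊕ Fin m) K) i j).2
  have hPb : ∀ i, (P : Mt m F) *ᵥ ee i = ι' (ψ.symm (Pi.single i 1)) := by
    intro i
    funext r
    rw [← hPK, mulVec_single_one]
    simp [ι', P, mulVec_single_one]
  have hkP : (k * P : GG m F) ∈ Cfsg.GSp m F := by
    refine mem_GSp.2 ⟨w, sf_scale_of_basis fun i j => ?_⟩
    rw [Units.val_mul, ← mulVec_mulVec, ← mulVec_mulVec, hPb, hPb]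
    have h1 := congrArg Subtype.val (hψ (ψ.symm (Pi.single i 1)) (ψ.symm (Pi.single j 1)))
    rw [ψ.apply_symm_apply, ψ.apply_symm_apply] at h1
    simp only [fK, hB] at h1
    have h2 : ((Cfsg.sympForm m K (Pi.single i 1) (Pi.single j 1) : K) : F) = sf (ee i) (ee j) := by
      rw [H48.sympForm_eq_sf]
      rw [show ((sf (Pi.single i (1 : K) : Fin m ⊕ Fin m → K) (Pi.single j 1) : K) : F) =
        K.subtype (sf (Pi.single i (1 : K)) (Pi.single j 1)) from rfl, ← sf_map_hom]
      have h3 : ∀ t, (fun r => K.subtype ((Pi.single t (1 : K) : Fin m ⊕ Fin m → K) r)) = ee t := by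
        intro t
        funext r
        by_cases hr : r = t
        · subst hr; simp
        · simp [hr]
      rw [h3, h3]
    rw [h2] at h1
    rw [h1, ← mul_assoc, mul_inv_cancel₀ w.ne_zero, one_mul]
  refine ⟨⟨_, hkP⟩, Subtype.ext ?_⟩
  rw [Subgroup.coe_mul, Subgroup.coe_inv, coe_mapGSp]
  show (g : GG m F) = k * P * (mapGLι σ (k * P))⁻¹
  rw [map_mul, hPσ, _root_.mul_inv_rev, mul_assoc, mul_inv_cancel_left, hk]

/-- Conformal symplectic matrices over a subfield. -/
theorem GSp_map_mem (hm : 1 ≤ m) {K : Type*} [Field K] (f : K →+* F) (g : Cfsg.GSp m K) :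
    Matrix.GeneralLinearGroup.map f (g : GG m K) ∈ Cfsg.GSp m F := by
  refine mem_GSp.2 ⟨Units.map f.toMonoidHom (mult hm g), sf_scale_of_basis fun i j => ?_⟩
  have h : ∀ i, (Matrix.GeneralLinearGroup.map f (g : GG m K) : Mt m F) *ᵥ ee i =
      fun r => f ((((g : GG m K) : Mt m K) *ᵥ (Pi.single i 1)) r) := by
    intro i
    funext r
    simp [mulVec_single_one]
  have h' : ∀ i, (ee i) = fun r => f ((Pi.single i (1 : K) : Fin m ⊕ Fin m → K) r) := by
    intro i
    funext r
    simp [Pi.single_apply, apply_ite f]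
  rw [h, h, sf_map_hom, mult_spec hm, h' i, h' j, sf_map_hom, map_mul]
  rfl

/-- Extension of scalars. -/
noncomputable def baseGSp (hm : 1 ≤ m) {K : Type*} [Field K] (f : K →+* F) :
    Cfsg.GSp m K →* Cfsg.GSp m F :=
  ((Matrix.GeneralLinearGroup.map f).comp (Cfsg.GSp m K).subtype).codRestrict _ (GSp_map_mem hm f)

theorem coe_baseGSp (hm : 1 ≤ m) {K : Type*} [Field K] (f : K →+* F) (g : Cfsg.GSp m K) :
    ((baseGSp hm f g : Cfsg.GSp m F) : GG m F) = Matrix.GeneralLinearGroup.map f (g : GG m K) := rfl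

theorem fixed_mem_range (hm : 1 ≤ m) {σ : F ≃+* F} {K : Type*} [Field K] (e : K ≃+* fixF σ)
    {h : Cfsg.GSp m F} (hh : mapGLι σ (h : GG m F) = h) :
    h ∈ (baseGSp hm ((fixF σ).subtype.comp e.toRingHom) (m := m)).range := by
  set f := (fixF σ).subtype.comp e.toRingHom
  have hinj : Function.Injective f := f.injective
  have hlift : ∀ G : GG m F, mapGLι σ G = G → ∃ A : Mt m K, A.map f = (G : Mt m F) := by
    intro G hG
    refine ⟨Matrix.of fun i j => e.symm ⟨(G : Mt m F) i j, ?_⟩, ?_⟩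
    · have h1 : ((G : GG m F) : Mt m F).map σ = (G : Mt m F) := by rw [← coe_mapGLι, hG]
      exact congrFun (congrFun h1 i) j
    · ext i j
      simp [f]
  obtain ⟨A, hA⟩ := hlift _ hh
  obtain ⟨A', hA'⟩ := hlift (h : GG m F)⁻¹ (by rw [map_inv, hh])
  have inj : Function.Injective fun M : Mt m K => M.map f := Matrix.map_injective hinj
  let G : GG m K := ⟨A, A', inj (by
      show (A * A').map f = (1 : Mt m K).map f
      rw [Matrix.map_mul, hA, hA', Matrix.map_one _ (map_zero f) (map_one f), ← Units.val_mul,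
        mul_inv_cancel, Units.val_one]), inj (by
      show (A' * A).map f = (1 : Mt m K).map f
      rw [Matrix.map_mul, hA, hA', Matrix.map_one _ (map_zero f) (map_one f), ← Units.val_mul,
        inv_mul_cancel, Units.val_one])⟩
  have hG : G ∈ Cfsg.GSp m K := by
    let o : Fin m := ⟨0, hm⟩
    set a : Fin m ⊕ Fin m → K := Pi.single (Sum.inr o) 1
    set b : Fin m ⊕ Fin m → K := Pi.single (Sum.inl o) 1
    have hmv : ∀ u : Fin m ⊕ Fin m → K, (fun i => f ((A *ᵥ u) i)) =
        ((h : GG m F) : Mt m F) *ᵥ fun i => f (u i) := by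
      intro u
      funext i
      rw [← hA]
      simp [mulVec, dotProduct]
    have key : ∀ u v : Fin m ⊕ Fin m → K, f (sf (A *ᵥ u) (A *ᵥ v)) = (mult hm h : F) * f (sf u v) := by
      intro u v
      rw [← sf_map_hom f, hmv, hmv, mult_spec hm, sf_map_hom]
    have h1 : f (sf (A *ᵥ a) (A *ᵥ b)) = (mult hm h : F) := by
      rw [key, sf_pair, map_one, mul_one]
    have h0 : sf (A *ᵥ a) (A *ᵥ b) ≠ 0 := fun e0 => by
      rw [e0, map_zero] at h1
      exact (mult hm h).ne_zero h1.symm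
    refine mem_GSp.2 ⟨Units.mk0 _ h0, fun u v => hinj ?_⟩
    show f (sf (A *ᵥ u) (A *ᵥ v)) = f (sf (A *ᵥ a) (A *ᵥ b) * sf u v)
    rw [key, map_mul, h1]
  exact ⟨⟨G, hG⟩, Subtype.ext (Units.ext hA)⟩

end Psp

end H55
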