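import Cfsg.Agent.H55.PSpAut
import Cfsg.Agent.H55.PSpGalois
import Cfsg.Agent.H55.SplitCount
import Cfsg.Agent.H55.PSLField

/-!
Field automorphisms of `PSp_{2m}` of prime order: normal form, centralizers, classes.
-/

namespace H55

namespace Psp

open Matrix
open H48 (sf sf_self sf_swap lagr upperSp)

variable {m : ℕ} {F : Type*} [Field F]

local notation "V" => (Fin m ⊕ Fin m → F)
local notation "T" => H48.tv (l := Fin m) (F := F)

theorem scalar_comm' (c : Fˣ) (g : GG m F) :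
    GeneralLinearGroup.scalar (Fin m ⊕ Fin m) c * g = g * GeneralLinearGroup.scalar (Fin m ⊕ Fin m) c := by
  apply Units.ext
  simp [← smul_one_eq_diagonal]

theorem scalar_inj' (hm : 1 ≤ m) :
    Function.Injective (GeneralLinearGroup.scalar (Fin m ⊕ Fin m) : Fˣ → GG m F) := by
  intro a b h
  have h1 : ((GeneralLinearGroup.scalar (Fin m ⊕ Fin m) a : GG m F) : Mt m F) =
      ((GeneralLinearGroup.scalar (Fin m ⊕ Fin m) b : GG m F) : Mt m F) := by rw [h]
  have := congrFun (congrFun h1 (Sum.inl ⟨0, hm⟩)) (Sum.inl ⟨0, hm⟩)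
  simp at this
  exact Units.ext this

theorem mapGL_scalar' (σ : F ≃+* F) (c : Fˣ) :
    mapGLι σ (GeneralLinearGroup.scalar (Fin m ⊕ Fin m) c) =
      GeneralLinearGroup.scalar (Fin m ⊕ Fin m) (Units.map (σ : F →+* F).toMonoidHom c) :=
  Matrix.GeneralLinearGroup.map_scalar _ _

theorem conjPs_scG (c : Fˣ) : conjPs (scG c : Cfsg.GSp m F) = 1 := by
  apply MulEquiv.ext
  intro x
  obtain ⟨s, rfl⟩ := psmk_surjective x
  rw [conjPs_psmk, MulAut.one_apply]
  congr 1
  apply Subtype.ext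
  rw [coe_conjSp]
  show ((GeneralLinearGroup.scalar (Fin m ⊕ Fin m) c : GG m F) : Mt m F) * (s : Mt m F) *
    (((GeneralLinearGroup.scalar (Fin m ⊕ Fin m) c)⁻¹ : GG m F) : Mt m F) = (s : Mt m F)
  rw [GeneralLinearGroup.coe_scalar, (Matrix.scalar_commute (c : F) (fun r => mul_comm _ r) (s : Mt m F)).eq,
    ← GeneralLinearGroup.coe_scalar, mul_assoc, ← Units.val_mul, mul_inv_cancel, Units.val_one, mul_one]

/-- `Sp` inside `GSp`. -/
noncomputable def toGSp : SpG m F →* Cfsg.GSp m F where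
  toFun s := ⟨GeneralLinearGroup.mk'' (s : Mt m F) (Ne.isUnit (by
      rw [H47.symplectic_det_one]; exact one_ne_zero)),
    mem_GSp.2 ⟨1, fun u v => by
      rw [Units.val_one, one_mul]
      exact H48.mem_symplectic_iff.1 s.2 u v⟩⟩
  map_one' := Subtype.ext (Units.ext rfl)
  map_mul' s t := Subtype.ext (Units.ext rfl)

theorem conjPs_toGSp (s : SpG m F) : conjPs (toGSp s) = MulAut.conj (psmk s) := by
  apply MulEquiv.ext
  intro x
  obtain ⟨t, rfl⟩ := psmk_surjective x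
  rw [conjPs_psmk, MulAut.conj_apply, ← map_inv, ← map_mul, ← map_mul]
  congr 1
  apply Subtype.ext
  have h : (((toGSp s : Cfsg.GSp m F) : GG m F)⁻¹ : GG m F) = ((toGSp s⁻¹ : Cfsg.GSp m F) : GG m F) := by
    rw [map_inv]; rfl
  rw [coe_conjSp, h]
  rfl

theorem Inn_le : Cfsg.Inn (Cfsg.PSp m F) ≤ (conjPs (m := m) (F := F)).range := by
  rintro _ ⟨x, rfl⟩
  obtain ⟨s, rfl⟩ := psmk_surjective x
  exact ⟨toGSp s, conjPs_toGSp s⟩

theorem Inn_eq (hm : 1 ≤ m) :
    Cfsg.Inn (Cfsg.PSp m F) =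
      ((powMonoidHom 2 : Fˣ →* Fˣ).range.comap (mult (F := F) hm)).map conjPs := by
  apply le_antisymm
  · rintro _ ⟨x, rfl⟩
    obtain ⟨s, rfl⟩ := psmk_surjective x
    refine ⟨toGSp s, ?_, conjPs_toGSp s⟩
    refine ⟨1, ?_⟩
    rw [powMonoidHom_apply, one_pow, eq_comm]
    exact mult_eq hm fun u v => by
      rw [Units.val_one, one_mul]
      exact H48.mem_symplectic_iff.1 s.2 u v
  · rintro _ ⟨g, ⟨w, hw⟩, rfl⟩
    set g' : Cfsg.GSp m F := scG w⁻¹ * g
    have h1 : mult hm g' = 1 := by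
      rw [map_mul, mult_scG, ← hw, powMonoidHom_apply, sq, mul_mul_mul_comm, inv_mul_cancel, one_mul]
    have hs : ((g' : GG m F) : Mt m F) ∈ SpG m F := by
      rw [H48.mem_symplectic_iff]
      intro u v
      rw [mult_spec hm, h1, Units.val_one, one_mul]
    refine ⟨psmk ⟨_, hs⟩, ?_⟩
    rw [← conjPs_toGSp, show toGSp ⟨_, hs⟩ = g' from Subtype.ext (Units.ext rfl), map_mul,
      conjPs_scG, one_mul]

/-! ### Characteristic two -/

variable [Fintype F]

theorem keepsTv_conj_field {p : ℕ} [Fact p.Prime] [CharP F p] (hm : 2 ≤ m) (hp : p = 2)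
    (α : MulAut (Cfsg.PSp m F)) (σ : F ≃+* F) : KeepsTv (α⁻¹ * fieldPs σ * α) := by
  intro v c hv hc
  have h := isGood_ptv (p := p) (by omega : 1 ≤ m) hv hc
  obtain ⟨g, hg⟩ := exists_conj_centralizes (p := p) (x := α (ptv v c)) (by rw [clSize_map]; exact h.2.1)
  obtain ⟨y, hy⟩ := psmk_surjective (g * α (ptv v c) * g⁻¹)
  rw [← hy] at hg
  obtain ⟨B, hB, hyB⟩ := exists_shape_of_centralizes (by omega) hg
  let o : Fin m := ⟨0, by omega⟩
  let o₁ : Fin m := ⟨1, by omega⟩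
  subst hp
  obtain ⟨s, t, hs, ht, hsa, hsb⟩ : ∃ s t : F, s ≠ 0 ∧ t ≠ 0 ∧
      s * s * B.1 o o = σ (B.1 o o) ∧ s * t * B.1 o o₁ = σ (B.1 o o₁) := by
    obtain ⟨s, hs, hsa⟩ : ∃ s : F, s ≠ 0 ∧ s * s * B.1 o o = σ (B.1 o o) := by
      by_cases ha : B.1 o o = 0
      · exact ⟨1, one_ne_zero, by simp [ha]⟩
      · obtain ⟨s, hs⟩ := FiniteField.isSquare_of_char_two (F := F) (CharP.ringChar_of_prime_eq_zero Nat.prime_two (CharP.cast_eq_zero F 2)) (σ (B.1 o o) / B.1 o o)
        refine ⟨s, fun h0 => ?_, by rw [← hs, div_mul_cancel₀ _ ha]⟩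
        rw [h0, mul_zero, div_eq_zero_iff] at hs
        simp [ha] at hs
    by_cases hb : B.1 o o₁ = 0
    · exact ⟨s, 1, hs, one_ne_zero, hsa, by simp [hb]⟩
    · exact ⟨s, σ (B.1 o o₁) / (s * B.1 o o₁), hs, by simp [hs, hb], hsa, by field_simp⟩
  let d : Fin m → F := Function.update (Function.update (fun _ => 1) o₁ t) o s
  have hd : ∀ i, d i ≠ 0 := by
    intro i
    simp only [d, Function.update_apply]
    split_ifs <;> simp [hs, ht]
  let u : GL (Fin m) F := GeneralLinearGroup.mkOfDetNeZero (diagonal d) (by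
    rw [det_diagonal]; exact Finset.prod_ne_zero_iff.2 fun i _ => hd i)
  have hconj : fieldSp σ (upperSp B) = diagSp u * upperSp B * (diagSp u)⁻¹ := by
    rw [diagSp_mul_upperSp, mul_inv_cancel_right]
    apply Subtype.ext
    rw [coe_fieldSp, coe_upperSp, coe_upperSp, fromBlocks_map, Matrix.map_zero _ (map_zero σ),
      Matrix.map_one _ (map_zero σ) (map_one σ)]
    congr 1
    ext i j
    show σ (B.1 i j) = (diagonal d * B.1 * (diagonal d)ᵀ) i j
    rw [diagonal_transpose, mul_diagonal, diagonal_mul]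
    have hd0 : d o = s := by simp [d]
    have hd1 : d o₁ = t := by simp [d, o, o₁, Fin.ext_iff]
    by_cases e00 : ((i : ℕ), (j : ℕ)) = (0, 0)
    · rw [show i = o from Fin.ext (Prod.mk.inj e00).1, show j = o from Fin.ext (Prod.mk.inj e00).2,
        hd0, ← hsa]
      ring
    by_cases e01 : ((i : ℕ), (j : ℕ)) = (0, 1)
    · rw [show i = o from Fin.ext (Prod.mk.inj e01).1, show j = o₁ from Fin.ext (Prod.mk.inj e01).2,
        hd0, hd1, ← hsb]
      ring
    by_cases e10 : ((i : ℕ), (j : ℕ)) = (1, 0)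
    · rw [show i = o₁ from Fin.ext (Prod.mk.inj e10).1, show j = o from Fin.ext (Prod.mk.inj e10).2,
        B.2.apply o o₁, hd0, hd1, ← hsb]
      ring
    simp [hB i j e00 (Or.inr ⟨e01, e10⟩)]
  have key : α (ptv v c) = g⁻¹ * psmk (upperSp B) * g := by
    rw [← hyB, hy]; group
  obtain ⟨k, hk⟩ : ∃ k, fieldPs σ (α (ptv v c)) = k * α (ptv v c) * k⁻¹ := by
    refine ⟨fieldPs σ g⁻¹ * psmk (diagSp u) * g, ?_⟩
    rw [key, map_mul, map_mul, fieldPs_psmk, hconj, map_mul, map_mul, map_inv, map_inv]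
    group
  obtain ⟨z, hz⟩ := psmk_surjective (α⁻¹ k)
  refine ⟨z • v, c, fun h0 => hv ?_, hc, ?_⟩
  · simpa using congrArg (z⁻¹ • ·) h0
  · rw [MulAut.mul_apply, MulAut.mul_apply, hk, map_mul, map_mul, map_inv, ← hz,
      MulAut.inv_apply_self, ptv, ptv, ← map_inv, ← map_mul, ← map_mul, H48.tv_conj]

theorem range_le_Inn_char_two (hm : 1 ≤ m) (h2 : ringChar F = 2) :
    (conjPs (m := m) (F := F)).range ≤ Cfsg.Inn (Cfsg.PSp m F) := by
  rintro _ ⟨g, rfl⟩
  rw [Inn_eq hm]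
  refine Subgroup.mem_map_of_mem _ ?_
  obtain ⟨w, hw⟩ := FiniteField.isSquare_of_char_two h2 (mult hm g : F)
  have hw0 : w ≠ 0 := fun h => (mult hm g).ne_zero (by rw [hw, h, mul_zero])
  exact ⟨Units.mk0 w hw0, Units.ext (by simp [hw, sq])⟩

omit [Fintype F] in
theorem conj_pow_field (σ : F ≃+* F) (g : Cfsg.GSp m F) (k : ℕ) :
    ∃ G : Cfsg.GSp m F, (G : GG m F) = twProd σ (g : GG m F) k ∧
      (conjPs g * fieldPs σ) ^ k = conjPs G * fieldPs (σ ^ k) := by
  induction k with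
  | zero => exact ⟨1, rfl, by simp⟩
  | succ k ih =>
    obtain ⟨G, hG, h⟩ := ih
    refine ⟨g * mapGSp σ G, by rw [twProd_succ, ← hG]; rfl, ?_⟩
    rw [pow_succ', h, pow_succ', map_mul, map_mul, mul_assoc, ← mul_assoc (fieldPs σ), fieldPs_conjPs]
    group

theorem conjPs_eq_one_iff (hm : 1 ≤ m) {g : Cfsg.GSp m F} :
    conjPs g = 1 ↔ ∃ c : Fˣ, (g : GG m F) = GeneralLinearGroup.scalar (Fin m ⊕ Fin m) c := by
  constructor
  · intro h
    exact (conjPs_eq_fieldPs hm (σ := 1) (by rw [h, map_one])).2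
  · rintro ⟨c, hc⟩
    rw [show g = scG c from Subtype.ext hc, conjPs_scG]

theorem fieldPs_injective (hm : 1 ≤ m) : Function.Injective (fieldPs (m := m) (F := F)) := by
  intro σ τ h
  have h1 : conjPs (1 : Cfsg.GSp m F) = fieldPs (σ⁻¹ * τ) := by
    rw [map_one, map_mul, map_inv, h, inv_mul_cancel]
  have := (conjPs_eq_fieldPs hm h1).1
  exact inv_mul_eq_one.1 this

/-- A field automorphism of prime order is `Inndiag` times a non-trivial standard one. -/
theorem fieldClass_decomp (hm : 2 ≤ m) {x : MulAut (Cfsg.PSp m F)} (hx : Cfsg.IsFieldAutClassPSp x) :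
    ∃ (g : Cfsg.GSp m F) (σ : F ≃+* F), σ ≠ RingEquiv.refl F ∧ x = conjPs g * fieldPs σ := by
  obtain ⟨p, hpF⟩ := CharP.exists F
  haveI := Fact.mk (CharP.char_is_prime F p)
  obtain ⟨α, σ, hσ, hφ⟩ := hx
  rw [isStdField_iff] at hφ
  have hx' : x = α⁻¹ * fieldPs σ * α := by rw [← hφ]; group
  by_cases hp : p = 2
  · have k1 : KeepsTv x := hx' ▸ keepsTv_conj_field (p := p) hm hp α σ
    have k2 : KeepsTv x⁻¹ := by
      have : x⁻¹ = α⁻¹ * fieldPs σ⁻¹ * α := by rw [hx', map_inv]; group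
      exact this ▸ keepsTv_conj_field (p := p) hm hp α σ⁻¹
    obtain ⟨g, τ, e⟩ := exists_induced hm x k1 k2
    refine ⟨g, τ, fun hτ => hσ ?_, e⟩
    rw [hτ, show (RingEquiv.refl F : F ≃+* F) = 1 from rfl, map_one, mul_one] at e
    have h2 : ringChar F = 2 := by rw [ringChar.eq F p, hp]
    have hin : fieldPs σ ∈ Cfsg.Inn (Cfsg.PSp m F) := by
      rw [← hφ]
      exact (Cfsg.innNormal _).conj_mem _ (range_le_Inn_char_two (by omega) h2 ⟨g, e.symm⟩) α
    obtain ⟨h, hh⟩ := Inn_le hin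
    exact (conjPs_eq_fieldPs (by omega) hh).1
  · obtain ⟨g, τ, e⟩ := aut_PSp (p := p) hm (fun _ => hp) x
    refine ⟨g, τ, fun hτ => hσ ?_, e⟩
    rw [hτ, show (RingEquiv.refl F : F ≃+* F) = 1 from rfl, map_one, mul_one] at e
    obtain ⟨h, ρ, hα⟩ := aut_PSp (p := p) hm (fun _ => hp) α
    have : conjPs (h * mapGSp ρ g * h⁻¹) = fieldPs σ := by
      rw [← hφ, e, hα, map_mul, map_mul, map_inv, _root_.mul_inv_rev,
        mul_assoc (conjPs h) (fieldPs ρ) (conjPs g), fieldPs_conjPs]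
      group
    exact (conjPs_eq_fieldPs (by omega) this).1

/-- Elements of the coset of a standard field automorphism with order dividing its order are conjugate to it. -/
theorem coset_conj_PSp (hm : 1 ≤ m) {σ : F ≃+* F} {g : Cfsg.GSp m F}
    (h : (conjPs g * fieldPs σ) ^ orderOf σ = 1) :
    ∃ k : Cfsg.GSp m F, conjPs g * fieldPs σ = conjPs k * fieldPs σ * (conjPs k)⁻¹ := by
  obtain ⟨G, hG, hp⟩ := conj_pow_field σ g (orderOf σ)
  rw [h, pow_orderOf_eq_one, map_one, mul_one, eq_comm, conjPs_eq_one_iff hm] at hp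
  obtain ⟨c, hc⟩ := hp
  rw [hG] at hc
  have hc' : σ c = c := by
    have h1 := twProd_succ σ (g : GG m F) (orderOf σ)
    rw [twProd_succ', pow_orderOf_eq_one, mapGLι_one, hc, mapGL_scalar', scalar_comm'] at h1
    exact (congrArg Units.val (scalar_inj' hm (mul_left_cancel h1))).symm
  obtain ⟨w, hw⟩ := exists_norm_eq σ hc'
  have hmul : ∀ k, twProd σ (GeneralLinearGroup.scalar (Fin m ⊕ Fin m) w⁻¹ * (g : GG m F)) k =
      twProd σ (GeneralLinearGroup.scalar (Fin m ⊕ Fin m) w⁻¹) k * twProd σ (g : GG m F) k := by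
    intro k
    induction k with
    | zero => simp [twProd]
    | succ k ih =>
      obtain ⟨d, hd⟩ : ∃ d, mapGLι σ (twProd σ (GeneralLinearGroup.scalar (Fin m ⊕ Fin m) w⁻¹) k) =
          GeneralLinearGroup.scalar (Fin m ⊕ Fin m) d := by
        rw [twProd_one_by_one]
        exact ⟨_, Matrix.GeneralLinearGroup.map_scalar _ _⟩
      rw [twProd_succ, ih, map_mul, hd, twProd_succ σ (GeneralLinearGroup.scalar (Fin m ⊕ Fin m) w⁻¹),
        hd, twProd_succ σ (g : GG m F)]
      rw [mul_assoc, ← mul_assoc (g : GG m F), ← scalar_comm' d]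
      group
  have h90 : twProd σ ((scG w⁻¹ * g : Cfsg.GSp m F) : GG m F) (orderOf σ) = 1 := by
    rw [Subgroup.coe_mul]
    show twProd σ (GeneralLinearGroup.scalar (Fin m ⊕ Fin m) w⁻¹ * (g : GG m F)) _ = 1
    rw [hmul, hc, twProd_one_by_one, ← map_mul]
    show GeneralLinearGroup.scalar (Fin m ⊕ Fin m) (normUnits σ w⁻¹ * c) = 1
    rw [map_inv, hw, inv_mul_cancel, map_one]
  obtain ⟨k, hk⟩ := hilbert90_GSp hm σ (orderOf_pos' σ) h90
  refine ⟨k, ?_⟩
  have hg : conjPs g = conjPs (scG w⁻¹ * g) := by rw [map_mul, conjPs_scG, one_mul]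
  rw [hg, hk, map_mul, map_inv]
  have h2 : fieldPs σ * (conjPs k)⁻¹ = (conjPs (mapGSp σ k))⁻¹ * fieldPs σ := by
    rw [mul_inv_eq_iff_eq_mul, mul_assoc, fieldPs_conjPs, inv_mul_cancel_left]
  rw [mul_assoc, ← h2]
  group

theorem pow_eq_one_of (hm : 1 ≤ m) {σ : F ≃+* F} {g : Cfsg.GSp m F} {r : ℕ}
    (h : (conjPs g * fieldPs σ) ^ r = 1) : σ ^ r = 1 := by
  obtain ⟨G, -, hp⟩ := conj_pow_field σ g r
  rw [h] at hp
  have : conjPs G⁻¹ = fieldPs (σ ^ r) := by rw [map_inv, inv_eq_of_mul_eq_one_right hp.symm]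
  exact (conjPs_eq_fieldPs hm this).1

theorem orderOf_conj_field (hm : 1 ≤ m) (σ : F ≃+* F) (k : Cfsg.GSp m F) :
    orderOf (conjPs k * fieldPs σ * (conjPs k)⁻¹) = orderOf σ :=
  (orderOf_injective (MulAut.conj (conjPs k)).toMonoidHom (MulEquiv.injective _) (fieldPs σ)).trans
    (orderOf_injective fieldPs (fieldPs_injective hm) σ)

/-- Normal form for field automorphisms of prime order. -/
theorem fieldClass_normal (hm : 2 ≤ m) {x : MulAut (Cfsg.PSp m F)} (hx : Cfsg.IsFieldAutClassPSp x)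
    {r : ℕ} (hr : r.Prime) (hxr : orderOf x = r) :
    ∃ (σ : F ≃+* F) (k : Cfsg.GSp m F), orderOf σ = r ∧ x = conjPs k * fieldPs σ * (conjPs k)⁻¹ := by
  obtain ⟨g, σ, hσ, rfl⟩ := fieldClass_decomp hm hx
  have h1 : (conjPs g * fieldPs σ) ^ r = 1 := by rw [← hxr, pow_orderOf_eq_one]
  haveI := Fact.mk hr
  have hord : orderOf σ = r := orderOf_eq_prime (pow_eq_one_of (by omega) h1) hσ
  obtain ⟨k, hk⟩ := coset_conj_PSp (by omega) (σ := σ) (g := g) (by rw [hord]; exact h1)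
  exact ⟨σ, k, hord, hk⟩

theorem preCentralizer_fieldPs (hm : 1 ≤ m) {σ : F ≃+* F} {g : Cfsg.GSp m F} :
    g ∈ preCentralizer conjPs (fieldPs σ) ↔
      ∃ (c : Fˣ) (h : Cfsg.GSp m F), mapGLι σ (h : GG m F) = h ∧ g = scG c * h := by
  constructor
  · intro hg
    rw [mem_preCentralizer, mul_inv_eq_iff_eq_mul, fieldPs_conjPs] at hg
    have hg' := mul_right_cancel hg
    have h1 : conjPs (g⁻¹ * mapGSp σ g) = 1 := by rw [map_mul, map_inv, ← hg', inv_mul_cancel]
    obtain ⟨c, hc⟩ := (conjPs_eq_one_iff hm).1 h1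
    have hgc : mapGLι σ (g : GG m F) = (g : GG m F) * GeneralLinearGroup.scalar (Fin m ⊕ Fin m) c := by
      rw [← hc, Subgroup.coe_mul, Subgroup.coe_inv, mul_inv_cancel_left]; rfl
    have hk : ∀ k : ℕ, mapGLι (σ ^ k) (g : GG m F) =
        (g : GG m F) * twProd σ (GeneralLinearGroup.scalar (Fin m ⊕ Fin m) c) k := by
      intro k
      induction k with
      | zero => simp [twProd, mapGLι_one]
      | succ k ih => rw [pow_succ', mapGLι_mul, ih, map_mul, hgc, mul_assoc, twProd_succ]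
    have hN : normUnits σ c = 1 := by
      have := hk (orderOf σ)
      rw [pow_orderOf_eq_one, mapGLι_one, twProd_one_by_one, eq_comm, mul_eq_left] at this
      rw [← map_one (GeneralLinearGroup.scalar (Fin m ⊕ Fin m))] at this
      exact scalar_inj' hm this
    obtain ⟨w, hw⟩ := hilbert90_units σ (orderOf_pos' σ) hN
    refine ⟨w⁻¹, scG w * g, ?_, Subtype.ext ?_⟩
    · rw [Subgroup.coe_mul]
      show mapGLι σ (GeneralLinearGroup.scalar (Fin m ⊕ Fin m) w * (g : GG m F)) =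
        GeneralLinearGroup.scalar (Fin m ⊕ Fin m) w * (g : GG m F)
      rw [map_mul, mapGL_scalar', hgc, ← scalar_comm', ← mul_assoc, ← map_mul]
      congr 2
      rw [hw, mul_left_comm, mul_inv_cancel, mul_one]
    · show (g : GG m F) = GeneralLinearGroup.scalar (Fin m ⊕ Fin m) w⁻¹ *
        (GeneralLinearGroup.scalar (Fin m ⊕ Fin m) w * (g : GG m F))
      rw [← mul_assoc, ← map_mul, inv_mul_cancel, map_one, one_mul]
  · rintro ⟨c, h, hh, rfl⟩
    rw [mem_preCentralizer, map_mul, conjPs_scG, one_mul, mul_inv_eq_iff_eq_mul, fieldPs_conjPs,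
      show mapGSp σ h = h from Subtype.ext hh]

theorem centralizer_fieldPs (hm : 1 ≤ m) {σ : F ≃+* F} {K : Type*} [Field K] (e : K ≃+* fixF σ) :
    Nonempty (↥(Cfsg.inndiagPSp m F ⊓ Subgroup.centralizer {fieldPs σ}) ≃* Cfsg.PGSp m K) := by
  let f : K →+* F := (fixF σ).subtype.comp e.toRingHom
  refine nonempty_centralizer_mulEquiv conjPs inndiagPSp_eq_range _ (baseGSp hm f)
    ((Cfsg.Geo.scalars (Fin m ⊕ Fin m) K).subgroupOf (Cfsg.GSp m K)) ?_ fun t => ?_
  · apply le_antisymm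
    · rintro _ ⟨g, hg, rfl⟩
      obtain ⟨c, h, hh, rfl⟩ := (preCentralizer_fieldPs hm).1 hg
      refine ⟨h, fixed_mem_range hm e hh, ?_⟩
      rw [map_mul, conjPs_scG, one_mul]
    · rintro _ ⟨g, ⟨t, rfl⟩, rfl⟩
      refine ⟨_, (preCentralizer_fieldPs hm).2 ⟨1, baseGSp hm f t, ?_, ?_⟩, rfl⟩
      · apply Units.ext
        ext i j
        exact (e (((t : GG m K) : Mt m K) i j)).2
      · rw [show (scG (1 : Fˣ) : Cfsg.GSp m F) = 1 from Subtype.ext (map_one _), one_mul]
  · rw [conjPs_eq_one_iff hm, Subgroup.mem_subgroupOf, Cfsg.Geo.mem_scalars_iff]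
    let i : Fin m ⊕ Fin m := Sum.inl ⟨0, hm⟩
    constructor
    · rintro ⟨c, hc⟩
      have hval : ((t : GG m K) : Mt m K).map f = (c : F) • (1 : Mt m F) := by
        have := congrArg Units.val hc
        rw [GeneralLinearGroup.coe_scalar, scalar_apply, ← smul_one_eq_diagonal] at this
        exact this
      have hii : f (((t : GG m K) : Mt m K) i i) = (c : F) := by
        have := congrFun (congrFun hval i) i
        simpa using this
      have hc0 : ((t : GG m K) : Mt m K) i i ≠ 0 := by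
        intro h0
        rw [h0, map_zero] at hii
        exact c.ne_zero hii.symm
      refine ⟨Units.mk0 _ hc0, Matrix.map_injective f.injective ?_⟩
      show ((t : GG m K) : Mt m K).map f = ((((t : GG m K) : Mt m K) i i) • (1 : Mt m K)).map f
      rw [hval]
      ext a b
      by_cases hab : a = b
      · subst hab; simp [hii]
      · simp [hab]
    · rintro ⟨c, hc⟩
      refine ⟨Units.map f.toMonoidHom c, Units.ext ?_⟩
      rw [coe_baseGSp, GeneralLinearGroup.coe_scalar, scalar_apply]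
      show ((t : GG m K) : Mt m K).map f = _
      rw [hc]
      ext a b
      by_cases hab : a = b
      · subst hab; simp
      · simp [hab]

theorem splitClassCount_fieldPs (hm : 1 ≤ m) (σ : F ≃+* F) :
    Cfsg.splitClassCount (Cfsg.inndiagPSp m F) (Cfsg.Inn (Cfsg.PSp m F)) (fieldPs σ) =
      Nat.gcd 2 ((Nat.card F - 1) / (Nat.card (fixF σ) - 1)) := by
  set S : Subgroup Fˣ := (powMonoidHom 2 : Fˣ →* Fˣ).range
  have hsurj : Function.Surjective ((QuotientGroup.mk' S).comp (mult (m := m) hm)) := by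
    refine (QuotientGroup.mk'_surjective S).comp fun c => ?_
    obtain ⟨g, hg, -⟩ := exists_mult (F := F) hm c
    exact ⟨g, hg⟩
  have hker : ((QuotientGroup.mk' S).comp (mult (m := m) hm)).ker = S.comap (mult hm) := by
    rw [← MonoidHom.comap_ker, QuotientGroup.ker_mk']
  rw [splitClassCount_eq_index conjPs _ hsurj _ inndiagPSp_eq_range (by rw [hker]; exact Inn_eq hm),
    ← Subgroup.map_map, Subgroup.index_map, QuotientGroup.ker_mk',
    MonoidHom.range_eq_top.2 (QuotientGroup.mk'_surjective S), Subgroup.index_top, mul_one]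
  have hsets : (preCentralizer conjPs (fieldPs σ)).map (mult hm) ⊔ S = S ⊔ fixUnits σ := by
    refine le_antisymm (sup_le ?_ le_sup_left) (sup_le le_sup_right ?_)
    · rintro _ ⟨g, hg, rfl⟩
      obtain ⟨c, h, hh, rfl⟩ := (preCentralizer_fieldPs hm).1 hg
      rw [map_mul, mult_scG]
      refine mul_mem (Subgroup.mem_sup_left ⟨c, by rw [powMonoidHom_apply, sq]⟩)
        (Subgroup.mem_sup_right ?_)
      show σ _ = _
      have h1 := mult_mapGSp hm σ h
      rw [show mapGSp σ h = h from Subtype.ext hh] at h1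
      exact (congrArg Units.val h1).symm
    · intro c hc
      obtain ⟨g, hg, hfix⟩ := exists_mult (m := m) hm c
      refine Subgroup.mem_sup_left ⟨g, (preCentralizer_fieldPs hm).2 ⟨1, g, hfix σ hc, ?_⟩, hg⟩
      rw [show (scG (1 : Fˣ) : Cfsg.GSp m F) = 1 from Subtype.ext (map_one _), one_mul]
  rw [hsets, index_pow_sup]
  congr 1
  have h1 := Subgroup.card_mul_index (fixUnits σ)
  have h0 : 0 < Nat.card (fixUnits σ) := Nat.card_pos
  rw [card_fixUnits] at h1 h0
  rw [Nat.card_units] at h1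
  rw [← h1, Nat.mul_div_cancel_left _ h0]

omit [Field F] [Fintype F] in
theorem gcd_two_div {a r : ℕ} (ha : 2 ≤ a) (hr : 1 ≤ r) :
    Nat.gcd 2 ((a ^ r - 1) / (a - 1)) = Nat.gcd (Nat.gcd 2 (a ^ r - 1)) r := by
  have hsum : (a ^ r - 1) / (a - 1) = ∑ i ∈ Finset.range r, a ^ i := (Nat.geomSum_eq ha r).symm
  rw [hsum]
  set s := ∑ i ∈ Finset.range r, a ^ i
  have key : s % 2 = if a % 2 = 0 then 1 else r % 2 := by
    simp only [s]
    rw [Finset.sum_nat_mod]
    split_ifs with h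
    · rw [Finset.sum_eq_single 0]
      · simp
      · intro i _ hi
        rw [Nat.pow_mod, h, zero_pow hi, Nat.zero_mod]
      · intro h0; simp at h0; omega
    · have : ∀ i, a ^ i % 2 = 1 := fun i => by
        rw [Nat.pow_mod, show a % 2 = 1 by omega, one_pow, Nat.one_mod]
      simp [this]
  have hpos : 1 ≤ a ^ r := Nat.one_le_pow _ _ (by omega)
  have hpar : (a ^ r - 1) % 2 = if a % 2 = 0 then 1 else 0 := by
    have h2 : a ^ r % 2 = if a % 2 = 0 then 0 else 1 := by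
      rw [Nat.pow_mod]
      split_ifs with h
      · rw [h, zero_pow (by omega), Nat.zero_mod]
      · rw [show a % 2 = 1 by omega, one_pow, Nat.one_mod]
    split_ifs at h2 ⊢ <;> omega
  rw [Nat.gcd_rec 2 s, Nat.gcd_rec 2 (a ^ r - 1), key, hpar]
  split_ifs with h <;> rcases Nat.mod_two_eq_zero_or_one r with h' | h' <;>
    simp [Nat.gcd_rec 2 r, h']

end Psp

end H55
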