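import Cfsg.Agent.H55.PSpBasics
import Cfsg.Agent.H55.PSLInduced

/-!
Automorphisms of `PSp_{2m}` induced by conformal symplectic semilinear maps.
-/

namespace H55

namespace Psp

open Matrix
open H48 (sf sf_self sf_swap lagr upperSp)

variable {m : ℕ} {F : Type*} [Field F]

local notation "V" => (Fin m ⊕ Fin m → F)
local notation "T" => H48.tv (l := Fin m) (F := F)

abbrev GG (m : ℕ) (F : Type*) [Field F] := GL (Fin m ⊕ Fin m) F

theorem mem_GSp {g : GG m F} : g ∈ Cfsg.GSp m F ↔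
    ∃ c : Fˣ, ∀ u v : V, sf ((g : Mt m F) *ᵥ u) ((g : Mt m F) *ᵥ v) = (c : F) * sf u v :=
  Iff.rfl

theorem gl_mulVec_inv (g : GG m F) (v : V) :
    (g : Mt m F) *ᵥ (((g⁻¹ : GG m F) : Mt m F) *ᵥ v) = v := by
  rw [mulVec_mulVec, ← Units.val_mul, mul_inv_cancel, Units.val_one, one_mulVec]

theorem gl_inv_mulVec (g : GG m F) (v : V) :
    ((g⁻¹ : GG m F) : Mt m F) *ᵥ ((g : Mt m F) *ᵥ v) = v := by
  rw [mulVec_mulVec, ← Units.val_mul, inv_mul_cancel, Units.val_one, one_mulVec]

theorem conj_mem (g : Cfsg.GSp m F) (s : SpG m F) :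
    ((g : GG m F) : Mt m F) * (s : Mt m F) * (((g : GG m F)⁻¹ : GG m F) : Mt m F) ∈ SpG m F := by
  obtain ⟨c, hc⟩ := mem_GSp.1 g.2
  rw [H48.mem_symplectic_iff]
  intro u v
  rw [← mulVec_mulVec, ← mulVec_mulVec, ← mulVec_mulVec, ← mulVec_mulVec, hc,
    H48.mem_symplectic_iff.1 s.2, ← hc, gl_mulVec_inv, gl_mulVec_inv]

/-- Conjugation of `Sp` by `GSp`. -/
def conjSp : Cfsg.GSp m F →* MulAut (SpG m F) where
  toFun g :=
    { toFun := fun s => ⟨_, conj_mem g s⟩
      invFun := fun s => ⟨_, conj_mem g⁻¹ s⟩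
      left_inv := fun s => by
        apply Subtype.ext
        simp [mul_assoc]
      right_inv := fun s => by
        apply Subtype.ext
        simp [mul_assoc]
      map_mul' := fun s t => by
        apply Subtype.ext
        simp [mul_assoc] }
  map_one' := by
    apply MulEquiv.ext
    intro s
    apply Subtype.ext
    simp
  map_mul' g h := by
    apply MulEquiv.ext
    intro s
    apply Subtype.ext
    simp [mul_assoc]

@[simp] theorem coe_conjSp (g : Cfsg.GSp m F) (s : SpG m F) :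
    ((conjSp g s : SpG m F) : Mt m F) =
      ((g : GG m F) : Mt m F) * (s : Mt m F) * (((g : GG m F)⁻¹ : GG m F) : Mt m F) := rfl

theorem map_sf (σ : F ≃+* F) (u v : V) :
    sf (fun i => σ (u i)) (fun i => σ (v i)) = σ (sf u v) := by
  simp [H48.sf_apply]

theorem map_mulVec (σ : F ≃+* F) (A : Mt m F) (v : V) :
    (fun i => σ ((A *ᵥ v) i)) = A.map σ *ᵥ fun i => σ (v i) := by
  funext i
  simp [mulVec, dotProduct]

theorem field_mem (σ : F ≃+* F) {A : Mt m F} (hA : A ∈ SpG m F) : A.map σ ∈ SpG m F := by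
  rw [H48.mem_symplectic_iff] at hA ⊢
  intro u v
  have hu : u = fun i => σ (σ.symm (u i)) := by simp
  have hv : v = fun i => σ (σ.symm (v i)) := by simp
  rw [hu, hv, ← map_mulVec, ← map_mulVec, map_sf, map_sf, hA]

/-- Field automorphisms of `Sp`. -/
def fieldSp : (F ≃+* F) →* MulAut (SpG m F) where
  toFun σ :=
    { toFun := fun s => ⟨_, field_mem σ s.2⟩
      invFun := fun s => ⟨_, field_mem σ.symm s.2⟩
      left_inv := fun s => by
        apply Subtype.ext
        ext i j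
        simp
      right_inv := fun s => by
        apply Subtype.ext
        ext i j
        simp
      map_mul' := fun s t => by
        apply Subtype.ext
        simp [Matrix.map_mul] }
  map_one' := by
    apply MulEquiv.ext
    intro s
    apply Subtype.ext
    ext i j
    rfl
  map_mul' σ τ := by
    apply MulEquiv.ext
    intro s
    apply Subtype.ext
    ext i j
    rfl

@[simp] theorem coe_fieldSp (σ : F ≃+* F) (s : SpG m F) :
    ((fieldSp σ s : SpG m F) : Mt m F) = (s : Mt m F).map σ := rfl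

/-- The automorphism of `PSp` induced by a conformal symplectic matrix. -/
def conjPs : Cfsg.GSp m F →* MulAut (Cfsg.PSp m F) := centreQuotAut.comp conjSp

/-- The standard field automorphisms of `PSp`. -/
def fieldPs : (F ≃+* F) →* MulAut (Cfsg.PSp m F) := centreQuotAut.comp fieldSp

@[simp] theorem conjPs_psmk (g : Cfsg.GSp m F) (s : SpG m F) :
    conjPs g (psmk s) = psmk (conjSp g s) := rfl

@[simp] theorem fieldPs_psmk (σ : F ≃+* F) (s : SpG m F) :
    fieldPs σ (psmk s) = psmk (fieldSp σ s) := rfl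

theorem mapGL_mem (σ : F ≃+* F) {g : GG m F} (hg : g ∈ Cfsg.GSp m F) :
    Matrix.GeneralLinearGroup.map σ.toRingHom g ∈ Cfsg.GSp m F := by
  obtain ⟨c, hc⟩ := mem_GSp.1 hg
  refine mem_GSp.2 ⟨Units.map (σ : F →+* F).toMonoidHom c, fun u v => ?_⟩
  have hu : u = fun i => σ (σ.symm (u i)) := by simp
  have hv : v = fun i => σ (σ.symm (v i)) := by simp
  show sf ((g : Mt m F).map σ *ᵥ u) ((g : Mt m F).map σ *ᵥ v) = σ c * sf u v
  rw [hu, hv, ← map_mulVec, ← map_mulVec, map_sf, map_sf, hc, map_mul]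

/-- A field automorphism applied to a conformal symplectic matrix. -/
def mapGSp (σ : F ≃+* F) : Cfsg.GSp m F →* Cfsg.GSp m F where
  toFun g := ⟨Matrix.GeneralLinearGroup.map σ.toRingHom (g : GG m F), mapGL_mem σ g.2⟩
  map_one' := Subtype.ext (map_one (Matrix.GeneralLinearGroup.map σ.toRingHom))
  map_mul' g h := Subtype.ext (map_mul (Matrix.GeneralLinearGroup.map σ.toRingHom) _ _)

@[simp] theorem coe_mapGSp (σ : F ≃+* F) (g : Cfsg.GSp m F) :
    ((mapGSp σ g : Cfsg.GSp m F) : GG m F) = Matrix.GeneralLinearGroup.map σ.toRingHom (g : GG m F) :=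
  rfl

theorem coe_map_inv (σ : F ≃+* F) (g : GG m F) :
    (((Matrix.GeneralLinearGroup.map σ.toRingHom g)⁻¹ : GG m F) : Mt m F) =
      ((g⁻¹ : GG m F) : Mt m F).map σ := by
  rw [← map_inv]
  rfl

theorem fieldPs_conjPs (σ : F ≃+* F) (g : Cfsg.GSp m F) :
    fieldPs σ * conjPs g = conjPs (mapGSp σ g) * fieldPs σ := by
  apply MulEquiv.ext
  intro x
  obtain ⟨s, rfl⟩ := psmk_surjective x
  simp only [MulAut.mul_apply, conjPs_psmk, fieldPs_psmk]
  congr 1
  apply Subtype.ext
  simp only [coe_fieldSp, coe_conjSp, coe_mapGSp, Matrix.map_mul, coe_map_inv]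
  rfl

theorem isInduced_iff {g : Cfsg.GSp m F} {σ : F ≃+* F} {β : MulAut (Cfsg.PSp m F)} :
    Cfsg.IsInducedBySemilinearPSp (g : GG m F) σ β ↔ β = conjPs g * fieldPs σ := by
  constructor
  · intro h
    apply MulEquiv.ext
    intro x
    obtain ⟨s, rfl⟩ := psmk_surjective x
    exact h s (conjSp g (fieldSp σ s)) rfl
  · rintro rfl s s' hs
    obtain rfl : s' = conjSp g (fieldSp σ s) := Subtype.ext hs
    rfl

theorem isStdField_iff {σ : F ≃+* F} {β : MulAut (Cfsg.PSp m F)} :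
    Cfsg.IsStdFieldAutPSp σ β ↔ β = fieldPs σ := by
  constructor
  · intro h
    apply MulEquiv.ext
    intro x
    obtain ⟨s, rfl⟩ := psmk_surjective x
    exact h s (fieldSp σ s) rfl
  · rintro rfl s s' hs
    obtain rfl : s' = fieldSp σ s := Subtype.ext hs
    rfl

theorem isInnerDiagonal_iff {β : MulAut (Cfsg.PSp m F)} :
    Cfsg.IsInnerDiagonalAutPSp β ↔ β ∈ (conjPs (m := m) (F := F)).range := by
  constructor
  · rintro ⟨g, hg, h⟩
    refine ⟨⟨g, hg⟩, ?_⟩
    rw [(isInduced_iff (g := ⟨g, hg⟩)).1 h, show (RingEquiv.refl F : F ≃+* F) = 1 from rfl,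
      map_one, mul_one]
  · rintro ⟨g, rfl⟩
    refine ⟨g, g.2, (isInduced_iff).2 ?_⟩
    rw [show (RingEquiv.refl F : F ≃+* F) = 1 from rfl, map_one, mul_one]

theorem inndiagPSp_eq_range : Cfsg.inndiagPSp m F = (conjPs (m := m) (F := F)).range := by
  refine le_antisymm ((Subgroup.closure_le _).2 fun β hβ => isInnerDiagonal_iff.1 hβ) ?_
  intro β hβ
  exact Subgroup.subset_closure (isInnerDiagonal_iff.2 hβ)

theorem conjSp_T (g : Cfsg.GSp m F) {k : Fˣ}
    (hk : ∀ u v : V, sf (((g : GG m F) : Mt m F) *ᵥ u) (((g : GG m F) : Mt m F) *ᵥ v) = (k : F) * sf u v)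
    (v : V) (c : F) :
    conjSp g (T v c) = T (((g : GG m F) : Mt m F) *ᵥ v) (c * (k : F)⁻¹) := by
  refine H48.sp_ext fun x => ?_
  have h1 : sf x (((g : GG m F) : Mt m F) *ᵥ v) =
      (k : F) * sf ((((g : GG m F)⁻¹ : GG m F) : Mt m F) *ᵥ x) v := by
    rw [← hk, gl_mulVec_inv]
  rw [H48.tv_smul, h1, H48.spSmulDef, coe_conjSp, ← mulVec_mulVec, ← mulVec_mulVec]
  show ((g : GG m F) : Mt m F) *ᵥ (T v c • _) = _
  rw [H48.tv_smul, mulVec_add, mulVec_smul, gl_mulVec_inv]
  congr 2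
  field_simp

theorem fieldSp_T (σ : F ≃+* F) (v : V) (c : F) :
    fieldSp σ (T v c) = T (fun i => σ (v i)) (σ c) := by
  refine H48.sp_ext fun x => ?_
  have hx : x = fun i => σ (σ.symm (x i)) := by simp
  rw [hx, H48.tv_smul, map_sf, ← map_mul σ, H48.spSmulDef, coe_fieldSp, ← map_mulVec]
  show (fun i => σ ((T v c • fun i => σ.symm (x i)) i)) = _
  rw [H48.tv_smul]
  funext i
  simp

end Psp

end H55
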