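import Cfsg.Agent.H55.PSpTrans
import Cfsg.Agent.H55.PSpInduced

/-!
`Aut(PSp_{2m}(q))` for `(m, p) ≠ (2, 2)`, and uniqueness of the decomposition.
-/

namespace H55

namespace Psp

open Matrix
open H48 (sf sf_self sf_swap lagr upperSp)
open FTPG (Prop')

variable {m : ℕ} {F : Type*} [Field F]

local notation "V" => (Fin m ⊕ Fin m → F)
local notation "T" => H48.tv (l := Fin m) (F := F)

/-- An automorphism preserving transvections. -/
def KeepsTv (α : MulAut (Cfsg.PSp m F)) : Prop :=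
  ∀ (v : V) (c : F), v ≠ 0 → c ≠ 0 → ∃ (w : V) (d : F), w ≠ 0 ∧ d ≠ 0 ∧ α (ptv v c) = ptv w d

theorem keepsTv [Fintype F] {p : ℕ} [Fact p.Prime] [CharP F p] (hm : 2 ≤ m) (h4 : m = 2 → p ≠ 2)
    (α : MulAut (Cfsg.PSp m F)) : KeepsTv α := by
  intro v c hv hc
  have h := (isGood_map α (ptv v c)).2 (isGood_ptv (p := p) (by omega) hv hc)
  exact (isGood_iff hm h4).1 h

/-- The only scalar multiples of a symplectic form with the same orthogonality. -/
theorem exists_multiplier {g : GG m F}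
    (h : ∀ u v : V, sf u v = 0 ↔ sf ((g : Mt m F) *ᵥ u) ((g : Mt m F) *ᵥ v) = 0) (hm : 1 ≤ m) :
    g ∈ Cfsg.GSp m F := by
  set B : V → V → F := fun u v => sf ((g : Mt m F) *ᵥ u) ((g : Mt m F) *ᵥ v)
  have key : ∀ a b : V, sf a b ≠ 0 → ∀ x, B a x = (B a b / sf a b) * sf a x := by
    intro a b hab x
    have h0 : sf a (x - (sf a x / sf a b) • b) = 0 := by
      rw [map_sub, map_smul, smul_eq_mul, div_mul_cancel₀ _ hab, sub_self]
    have h1 := (h _ _).1 h0
    rw [mulVec_sub, mulVec_smul, map_sub, map_smul, smul_eq_mul, sub_eq_zero] at h1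
    show sf ((g : Mt m F) *ᵥ a) ((g : Mt m F) *ᵥ x) = _
    rw [h1]
    ring
  have hanti : ∀ a b : V, B b a / sf b a = B a b / sf a b := by
    intro a b
    show sf ((g : Mt m F) *ᵥ b) ((g : Mt m F) *ᵥ a) / _ = _
    rw [sf_swap _ ((g : Mt m F) *ᵥ b), sf_swap a b, neg_div_neg_eq]
  have hchain : ∀ a b x y : V, sf a b ≠ 0 → sf a x ≠ 0 → sf x y ≠ 0 →
      B a b / sf a b = B x y / sf x y := by
    intro a b x y hab hax hxy
    have e1 : B a x / sf a x = B a b / sf a b := by rw [key a b hab x, mul_div_cancel_right₀ _ hax]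
    have hxa : sf x a ≠ 0 := fun e => hax (H48.sf_eq_zero_comm e)
    have e2 : B x a / sf x a = B x y / sf x y := by rw [key x y hxy a, mul_div_cancel_right₀ _ hxa]
    rw [← e1, ← hanti, e2]
  let o : Fin m := ⟨0, hm⟩
  obtain ⟨b₀, hb₀⟩ := H48.exists_sf_ne (u := (lagr o : V)) (fun e => by
    simpa [H48.lagr] using congrFun e (Sum.inl o))
  set a₀ : V := lagr o
  set c := B a₀ b₀ / sf a₀ b₀
  have hc : c ≠ 0 := div_ne_zero (fun e => hb₀ ((h _ _).2 e)) hb₀
  have hall : ∀ x y, sf x y ≠ 0 → B x y / sf x y = c := by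
    intro x y hxy
    obtain ⟨z, -, hz₁, hz₂⟩ := H48.exists_sep₂ (U := (⊥ : Submodule F V)) (a := a₀) (b := x)
      (by simp only [Submodule.mem_bot]; intro e; rw [e] at hb₀; simp at hb₀)
      (by simp only [Submodule.mem_bot]; intro e; rw [e] at hxy; simp at hxy)
    have hzx : sf z x ≠ 0 := fun e => hz₂ (H48.sf_eq_zero_comm e)
    show _ = B a₀ b₀ / sf a₀ b₀
    rw [hchain a₀ b₀ z x hb₀ hz₁ hzx, hanti x z]
    have e : B x z / sf x z = B x y / sf x y := by rw [key x y hxy z, mul_div_cancel_right₀ _ hz₂]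
    rw [e]
  refine mem_GSp.2 ⟨Units.mk0 c hc, fun u v => ?_⟩
  by_cases huv : sf u v = 0
  · rw [huv, mul_zero]
    exact (h _ _).1 huv
  · show B u v = c * sf u v
    rw [← hall u v huv, div_mul_cancel₀ _ huv]

variable [Finite F]

theorem induced_ptv (g : Cfsg.GSp m F) (σ : F ≃+* F) (v : V) {c : F} (hc : c ≠ 0) :
    ∃ d : F, d ≠ 0 ∧
      (conjPs g * fieldPs σ : MulAut (Cfsg.PSp m F)) (ptv v c) = ptv (((g : GG m F) : Mt m F) *ᵥ fun i => σ (v i)) d := by
  obtain ⟨k, hk⟩ := mem_GSp.1 g.2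
  refine ⟨σ c * (k : F)⁻¹, mul_ne_zero (by simpa using hc) (inv_ne_zero k.ne_zero), ?_⟩
  rw [MulAut.mul_apply, ptv, fieldPs_psmk, conjPs_psmk, fieldSp_T, conjSp_T g hk]
  rfl

omit [Finite F] in
theorem semi_ne_zero (g : GG m F) (σ : F ≃+* F) {v : V} (hv : v ≠ 0) :
    (g : Mt m F) *ᵥ (fun i => σ (v i)) ≠ 0 := by
  intro h
  apply hv
  have h1 : (fun i => σ (v i)) = 0 := by
    rw [← gl_inv_mulVec g (fun i => σ (v i)), h, mulVec_zero]
  funext i
  simpa using congrFun h1 i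

/-- An automorphism fixing every point is trivial. -/
theorem eq_one_of_fixes (hm : 1 ≤ m) {β : MulAut (Cfsg.PSp m F)}
    (h : ∀ (v : V) (c : F), v ≠ 0 → c ≠ 0 →
      ∃ (w : V) (d : F), w ≠ 0 ∧ d ≠ 0 ∧ β (ptv v c) = ptv w d ∧ Prop' v w) :
    β = 1 := by
  haveI := nonempty_fin hm
  apply MulEquiv.ext
  intro x
  obtain ⟨s, rfl⟩ := psmk_surjective x
  obtain ⟨s', hs'⟩ := psmk_surjective (β (psmk s))
  rw [← hs', MulAut.one_apply]
  apply psmk_eq_iff.2
  refine (H48.mem_center_iff _).2 (H48.exists_scalar _ fun v => ?_)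
  rcases eq_or_ne v 0 with rfl | hv
  · exact ⟨0, by simp⟩
  obtain ⟨w, d, hw, hd, e, hwv⟩ := h v 1 hv one_ne_zero
  have hsv : s • v ≠ 0 := fun e' => hv (by simpa using congrArg (s⁻¹ • ·) e')
  obtain ⟨w', d', hw', hd', e', hw'v⟩ := h (s • v) 1 hsv one_ne_zero
  have h1 : ptv (s' • w) d = ptv w' d' := by
    rw [← e', ptv, ptv, ← H48.tv_conj, ← H48.tv_conj, map_mul, map_mul, map_inv, hs',
      map_mul, map_mul, map_inv, map_mul, map_mul, map_inv]
    rw [show psmk (T w d) = β (psmk (T v 1)) from e.symm]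
  have hs'w : s' • w ≠ 0 := fun e' => hw (by simpa using congrArg (s'⁻¹ • ·) e')
  obtain ⟨a, ha, hva⟩ := hwv
  obtain ⟨b, -, hb⟩ := hw'v.trans (prop_of_ptv_eq hm hs'w hd h1)
  subst hva
  rw [smul_comm] at hb
  -- `s' • v` is proportional to `s • v`
  have hb' : s' • v = (a⁻¹ * b) • (s • v) := by
    rw [← smul_smul, ← hb, smul_smul, inv_mul_cancel₀ ha, one_smul]
  by_cases hab : a⁻¹ * b = 0
  · rw [hab, zero_smul] at hb'
    exact absurd (show v = 0 by simpa using congrArg (s'⁻¹ • ·) hb') hv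
  refine ⟨(a⁻¹ * b)⁻¹, ?_⟩
  have h2 : s • v = (a⁻¹ * b)⁻¹ • (s' • v) := by
    rw [hb', smul_smul, inv_mul_cancel₀ hab, one_smul]
  rw [mul_smul, inv_smul_eq_iff, smul_comm]
  exact h2

/-- An automorphism preserving transvections (in both directions) is induced semilinearly. -/
theorem exists_induced (hm : 2 ≤ m) (α : MulAut (Cfsg.PSp m F)) (hα : KeepsTv α)
    (hα' : KeepsTv α⁻¹) :
    ∃ (g : Cfsg.GSp m F) (σ : F ≃+* F), α = conjPs g * fieldPs σ := by
  have perp : ∀ {v w v' w' : V} {c d c' d' : F}, v ≠ 0 → w ≠ 0 → v' ≠ 0 → w' ≠ 0 → c ≠ 0 → d ≠ 0 →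
      c' ≠ 0 → d' ≠ 0 → α (ptv v c) = ptv v' c' → α (ptv w d) = ptv w' d' →
      (sf v w = 0 ↔ sf v' w' = 0) := by
    intro v w v' w' c d c' d' _ hw _ hw' hc hd hc' hd' e e'
    rw [← ptv_commute_iff (by omega) hw hc hd, ← ptv_commute_iff (by omega) hw' hc' hd', ← e, ← e',
      ← map_mul, ← map_mul, α.injective.eq_iff]
  have pre : ∀ (w' : V), w' ≠ 0 → ∃ (w : V) (d : F), w ≠ 0 ∧ d ≠ 0 ∧ α (ptv w d) = ptv w' 1 := by
    intro w' hw'
    obtain ⟨w, d, hw, hd, e⟩ := hα' w' 1 hw' one_ne_zero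
    exact ⟨w, d, hw, hd, by rw [← e]; exact MulEquiv.apply_symm_apply α _⟩
  have point : ∀ {v w v' w' : V} {c d c' d' : F}, v ≠ 0 → w ≠ 0 → v' ≠ 0 → w' ≠ 0 → c ≠ 0 → d ≠ 0 →
      c' ≠ 0 → d' ≠ 0 → α (ptv v c) = ptv v' c' → α (ptv w d) = ptv w' d' →
      (Prop' v w ↔ Prop' v' w') := by
    intro v w v' w' c d c' d' hv hw hv' hw' hc hd hc' hd' e e'
    have sep : ∀ {a b : V}, a ≠ 0 → b ≠ 0 → (∀ z, z ≠ 0 → (sf a z = 0 → sf b z = 0)) → Prop' a b := by
      intro a b ha hb H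
      by_contra hnp
      have hbn : b ∉ Submodule.span F {a} := by
        intro hmem
        obtain ⟨k, hk⟩ := Submodule.mem_span_singleton.1 hmem
        exact hnp ⟨k, fun h0 => hb (by simp [← hk, h0]), hk.symm⟩
      obtain ⟨z, hz, hz'⟩ := H48.exists_sep hbn
      exact hz' (H z (fun h0 => hz' (by simp [h0])) (hz a (Submodule.mem_span_singleton_self a)))
    constructor
    · rintro ⟨k, hk, rfl⟩
      refine sep hv' hw' fun z' hz' hz => ?_
      obtain ⟨z, f, hzn, hf, ez⟩ := pre z' hz'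
      have h1 := (perp hv hzn hv' hz' hc hf hc' one_ne_zero e ez).2 hz
      exact (perp hw hzn hw' hz' hd hf hd' one_ne_zero e' ez).1 (by simp [h1])
    · rintro ⟨k, hk, rfl⟩
      refine sep hv hw fun z hzn hz => ?_
      obtain ⟨z', f, hz', hf, ez⟩ := hα z 1 hzn one_ne_zero
      have h1 := (perp hv hzn hv' hz' hc one_ne_zero hc' hf e ez).1 hz
      exact (perp hw hzn hw' hz' hd one_ne_zero hd' hf e' ez).2 (by simp [h1])
  classical
  have hex : ∀ v : V, ∃ (w : V), v ≠ 0 → ∃ d : F, w ≠ 0 ∧ d ≠ 0 ∧ α (ptv v 1) = ptv w d := by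
    intro v
    by_cases hv : v = 0
    · exact ⟨0, fun h => absurd hv h⟩
    · obtain ⟨w, d, hw, hd, e⟩ := hα v 1 hv one_ne_zero
      exact ⟨w, fun _ => ⟨d, hw, hd, e⟩⟩
  choose f hf using hex
  have hperp : ∀ u v : V, u ≠ 0 → v ≠ 0 → (sf u v = 0 ↔ sf (f u) (f v) = 0) := by
    intro u v hu hv
    obtain ⟨a, hfu, ha, eu⟩ := hf u hu
    obtain ⟨b, hfv, hb, ev⟩ := hf v hv
    exact perp hu hv hfu hfv one_ne_zero one_ne_zero ha hb eu ev
  have hcoll : FTPG.IsColl f := by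
    refine ⟨fun v hv => (hf v hv).choose_spec.1, fun u v hu hv => ?_, fun u v w hu hv hw hmem => ?_,
      fun w hw => ?_⟩
    · obtain ⟨a, hfu, ha, eu⟩ := hf u hu
      obtain ⟨b, hfv, hb, ev⟩ := hf v hv
      exact (point hu hv hfu hfv one_ne_zero one_ne_zero ha hb eu ev).symm
    · by_contra hnot
      obtain ⟨z', hz', hne⟩ := H48.exists_sep hnot
      have hz0 : z' ≠ 0 := fun h0 => hne (by simp [h0])
      obtain ⟨z, d, hzn, hd, ez⟩ := pre z' hz0
      have key : ∀ x, x ≠ 0 → (sf x z = 0 ↔ sf (f x) z' = 0) := by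
        intro x hx
        obtain ⟨a, hfx, ha, ex⟩ := hf x hx
        exact perp hx hzn hfx hz0 one_ne_zero hd ha one_ne_zero ex ez
      obtain ⟨a, b, hab⟩ := Submodule.mem_span_pair.1 hmem
      apply hne
      rw [← key w hw, ← hab]
      simp [(key u hu).2 (hz' _ (Submodule.subset_span (Set.mem_insert _ _))),
        (key v hv).2 (hz' _ (Submodule.subset_span (Set.mem_insert_of_mem _ rfl)))]
    · obtain ⟨v, c, hv, hc, e⟩ := pre w hw
      obtain ⟨a, hfv, ha, ev⟩ := hf v hv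
      exact ⟨v, hv, (point hv hv hfv hw one_ne_zero hc ha one_ne_zero ev e).1 (Prop'.refl v)⟩
  obtain ⟨g, σ, hgσ⟩ := FTPG.semilinear hcoll (by simp; omega)
  have hg : g ∈ Cfsg.GSp m F := by
    refine exists_multiplier (fun u v => ?_) (by omega)
    rcases eq_or_ne u 0 with rfl | hu
    · simp
    rcases eq_or_ne v 0 with rfl | hv
    · simp
    have hu0 : (fun i => σ.symm (u i)) ≠ 0 := fun h => hu (funext fun i => by
      simpa using congrFun h i)
    have hv0 : (fun i => σ.symm (v i)) ≠ 0 := fun h => hv (funext fun i => by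
      simpa using congrFun h i)
    have h1 := hperp _ _ hu0 hv0
    obtain ⟨a, ha, ea⟩ := hgσ _ hu0
    obtain ⟨b, hb, eb⟩ := hgσ _ hv0
    rw [ea, eb, map_sf] at h1
    simpa [ha, hb] using h1
  refine ⟨⟨g, hg⟩, σ, ?_⟩
  set γ := conjPs ⟨g, hg⟩ * fieldPs σ
  have hβ : γ⁻¹ * α = 1 := by
    refine eq_one_of_fixes (by omega) fun v c hv hc => ?_
    obtain ⟨w, d, hw, hd, e⟩ := hα v c hv hc
    obtain ⟨a, hfv, ha, ev⟩ := hf v hv
    have hwf : Prop' (f v) w :=
      (point hv hv hfv hw one_ne_zero hc ha hd ev e).1 (Prop'.refl v)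
    obtain ⟨b, hb, hwb⟩ := (hgσ v hv).trans hwf
    -- `w` is `g σ` of a multiple of `v`
    obtain ⟨d', hd', eγ⟩ := induced_ptv ⟨g, hg⟩ σ v
      (c := σ.symm (σ c * b * b * (d / σ c))) (by simp [hc, hd, hb])
    obtain ⟨k, hk⟩ := mem_GSp.1 hg
    refine ⟨v, σ.symm (b * b * d * k), hv, by simp [hb, hd], ?_, Prop'.refl v⟩
    rw [MulAut.mul_apply, e]
    apply γ.injective
    rw [show γ (γ⁻¹ (ptv w d)) = ptv w d from MulEquiv.apply_symm_apply γ _]
    show ptv w d = conjPs ⟨g, hg⟩ (fieldPs σ (psmk (T v _)))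
    rw [fieldPs_psmk, conjPs_psmk, fieldSp_T, conjSp_T ⟨g, hg⟩ hk, ptv, hwb, H48.tv_scale,
      RingEquiv.apply_symm_apply, mul_inv_cancel_right₀ k.ne_zero]
  exact (inv_mul_eq_one.1 hβ).symm

theorem aut_PSp {p : ℕ} [Fact p.Prime] [CharP F p] (hm : 2 ≤ m) (h4 : m = 2 → p ≠ 2)
    (α : MulAut (Cfsg.PSp m F)) :
    ∃ (g : Cfsg.GSp m F) (σ : F ≃+* F), α = conjPs g * fieldPs σ := by
  cases nonempty_fintype F
  exact exists_induced hm α (keepsTv hm h4 α) (keepsTv hm h4 α⁻¹)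

/-- A similarity inducing a field automorphism is scalar, and the field automorphism is trivial. -/
theorem conjPs_eq_fieldPs (hm : 1 ≤ m) {g : Cfsg.GSp m F} {σ : F ≃+* F}
    (h : conjPs g = fieldPs σ) :
    σ = RingEquiv.refl F ∧ ∃ c : Fˣ, (g : GG m F) = GeneralLinearGroup.scalar (Fin m ⊕ Fin m) c := by
  set G : Mt m F := ((g : GG m F) : Mt m F)
  have key : ∀ v : V, v ≠ 0 → ∃ a : F, a ≠ 0 ∧ G *ᵥ v = a • fun i => σ (v i) := by
    intro v hv
    obtain ⟨d, hd, e⟩ := induced_ptv g 1 v (one_ne_zero (α := F))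
    rw [map_one fieldPs, mul_one, h] at e
    have e2 : fieldPs σ (ptv v 1) = ptv (fun i => σ (v i)) (σ 1) := by
      rw [ptv, fieldPs_psmk, fieldSp_T]; rfl
    rw [e2] at e
    have hσv : (fun i => σ (v i)) ≠ 0 := fun h0 => hv (funext fun i => by simpa using congrFun h0 i)
    obtain ⟨a, ha, ea⟩ := (prop_of_ptv_eq hm hσv (by simp) e)
    refine ⟨a⁻¹, inv_ne_zero ha, ?_⟩
    rw [ea, smul_smul, inv_mul_cancel₀ ha, one_smul]
    rfl
  have hcol : ∀ i, ∃ a : F, a ≠ 0 ∧ ∀ k, G k i = if k = i then a else 0 := by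
    intro i
    obtain ⟨a, ha, e⟩ := key (Pi.single i 1) (by simp)
    refine ⟨a, ha, fun k => ?_⟩
    have := congrFun e k
    simp [Pi.single_apply] at this
    rw [this]
  choose a ha hG using hcol
  have hpair : ∀ i j, i ≠ j → ∀ t : F, t ≠ 0 → a j * t = a i * σ t := by
    intro i j hij t ht
    obtain ⟨b, hb, e⟩ := key (Pi.single i 1 + Pi.single j t) (fun h0 => by
      simpa [hij] using congrFun h0 i)
    have ei := congrFun e i
    have ej := congrFun e j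
    simp [mulVec_add, hG, hij, hij.symm, Pi.single_apply, mul_comm] at ei ej
    rw [ei]
    linear_combination ej
  let o : Fin m := ⟨0, hm⟩
  have hne : (Sum.inl o : Fin m ⊕ Fin m) ≠ Sum.inr o := by simp
  have hσ : σ = RingEquiv.refl F := by
    refine RingEquiv.ext fun t => ?_
    rcases eq_or_ne t 0 with rfl | ht
    · simp
    have h1 := hpair _ _ hne 1 one_ne_zero
    have h2 := hpair _ _ hne t ht
    simp at h1
    rw [h1] at h2
    exact (mul_left_cancel₀ (ha _) h2).symm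
  refine ⟨hσ, Units.mk0 (a (Sum.inl o)) (ha _), Units.ext ?_⟩
  ext k i
  show G k i = _
  rw [hG]
  simp only [Matrix.GeneralLinearGroup.coe_scalar, Matrix.scalar_apply, diagonal_apply, Units.val_mk0]
  split_ifs with hki
  · by_cases hi : Sum.inl o = i
    · rw [hi]
    · have := hpair _ _ hi 1 one_ne_zero
      simpa using this
  · rfl

end Psp

end H55
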