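import Cfsg.Agent.H55.POCount

/-!
The fixed field as an abstract field; squares in it.
-/

set_option autoImplicit false

namespace H55

namespace PO

variable {F : Type*} [Field F]

theorem fixHom_subtype (σ : F ≃+* F) : FixHom σ (fixF σ).subtype :=
  ⟨fun x => ⟨fun h => ⟨⟨x, h⟩, rfl⟩, by rintro ⟨y, rfl⟩; exact y.2⟩⟩

theorem exists_fixHom [Finite F] (σ : F ≃+* F) {p f : ℕ} (hp : p.Prime) (hF : Nat.card F = p ^ f)
    (K : Type*) [Field K] [Fintype K] (hK : Fintype.card K = p ^ (f / orderOf σ)) :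
    ∃ j : K →+* F, FixHom σ j := by
  obtain ⟨e⟩ := nonempty_ringEquiv_fixF σ (K := K) (by rw [hK, (card_fixF_eq hp hF σ).2])
  refine ⟨(fixF σ).subtype.comp e.toRingHom, ⟨fun x => ⟨fun h => ⟨e.symm ⟨x, h⟩, ?_⟩, ?_⟩⟩⟩
  · show ((e (e.symm ⟨x, h⟩) : fixF σ) : F) = x
    rw [RingEquiv.apply_symm_apply]
  · rintro ⟨y, rfl⟩
    exact (e y).2

theorem dvd_of_prime [Finite F] {σ : F ≃+* F} {p f r : ℕ} (hp : p.Prime) (hF : Nat.card F = p ^ f)
    (hr : orderOf σ = r) : r ∣ f := hr ▸ (card_fixF_eq hp hF σ).1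

theorem exists_ne_of_order {σ : F ≃+* F} (h : orderOf σ ≠ 1) : ∃ θ, σ θ ≠ θ := by
  by_contra hall
  push Not at hall
  exact h (by rw [show σ = 1 from RingEquiv.ext hall, orderOf_one])

variable {K : Type*} [Field K] {σ : F ≃+* F} {j : K →+* F}

theorem card_eq_pow [Finite F] (hj : FixHom σ j) : Nat.card F = Nat.card K ^ orderOf σ := by
  rw [card_fixF σ]
  congr 1
  refine (Nat.card_congr (Equiv.ofBijective (fun a : K => (⟨j a, hj.map a⟩ : fixF σ)) ⟨fun a b e => j.injective (congrArg Subtype.val e), ?_⟩)).symm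
  rintro ⟨x, hx⟩
  obtain ⟨a, ha⟩ := (hj.fix x).1 hx
  exact ⟨a, Subtype.ext ha⟩

theorem two_ne_zero_small (j : K →+* F) (h2 : (2 : F) ≠ 0) : (2 : K) ≠ 0 := fun e => h2 (by
  rw [← map_ofNat j 2, e, map_zero])

/-- In odd degree non-squares stay non-squares. -/
theorem exists_nonsquare_map [Finite F] (hj : FixHom σ j) (hodd : Odd (orderOf σ)) (h2 : (2 : F) ≠ 0) :
    ∃ ν : K, ¬ IsSquare (j ν) := by
  haveI : Finite K := Finite.of_injective j j.injective
  have h2K := two_ne_zero_small j h2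
  obtain ⟨ν, hν, hne, -⟩ := H43.exists_sqc_cases K
  refine ⟨ν, fun ⟨t, ht⟩ => ?_⟩
  have hab : ∀ z₁ z₂ : K, z₁ ^ 2 + 0 * z₁ * z₂ + (-ν) * z₂ ^ 2 = 0 → z₁ = 0 ∧ z₂ = 0 := by
    intro z₁ z₂ h
    by_cases hz : z₂ = 0
    · subst hz; exact ⟨by simpa using h, rfl⟩
    · exact absurd ((H43.sqc_eq_one_iff hν).2 ⟨z₁ / z₂, by field_simp; linear_combination -h⟩) (hne h2K)
  have := aniso_of_odd hj hodd hab t 1 (by rw [map_zero, map_neg, ht]; ring)
  exact one_ne_zero this.2

/-- In a quadratic extension every element of the small field is a square. -/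
theorem isSquare_map [Finite F] (hj : FixHom σ j) (h : orderOf σ = 2) (h2 : (2 : F) ≠ 0) {a : K}
    (ha : a ≠ 0) : IsSquare (j a) := by
  haveI : Finite K := Finite.of_injective j j.injective
  letI := Fintype.ofFinite F
  letI := Fintype.ofFinite K
  have hc : Fintype.card F = Fintype.card K ^ 2 := by
    rw [← Nat.card_eq_fintype_card, ← Nat.card_eq_fintype_card, card_eq_pow hj, h]
  have hchar : ringChar F ≠ 2 := fun e => h2 (by
    have : CharP F 2 := ringChar.of_eq e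
    exact CharTwo.two_eq_zero)
  rw [FiniteField.isSquare_iff hchar ((map_ne_zero j).2 ha), hc, ← map_pow]
  have hodd : Fintype.card K % 2 = 1 := FiniteField.odd_card_of_char_ne_two fun e => two_ne_zero_small j h2 (by
    have : CharP K 2 := ringChar.of_eq e
    exact CharTwo.two_eq_zero)
  obtain ⟨l, hl⟩ : ∃ l, Fintype.card K = 2 * l + 1 := ⟨Fintype.card K / 2, by omega⟩
  have e : Fintype.card K ^ 2 / 2 = (Fintype.card K - 1) * (l + 1) := by
    rw [hl, Nat.add_sub_cancel, show (2 * l + 1) ^ 2 = 2 * (2 * l * (l + 1)) + 1 by ring]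
    omega
  rw [e, pow_mul, FiniteField.pow_card_sub_one_eq_one a ha, one_pow, map_one]

end PO

end H55
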