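import Cfsg.Agent.H55.POBase

/-!
Field automorphisms of `PΩ⁻_{2m+2}(q)`.
-/

set_option autoImplicit false

universe u

namespace H55

namespace PO

open Matrix H43 H44

section Pair

variable {F : Type*} [Field F] [Finite F] {ι : Type} [Fintype ι] [DecidableEq ι]
  {Q : QuadraticForm F (ι → F)}

/-- A semisimilarity over `τ` conjugates `φ_σ` into its coset by `g σ(g)⁻¹`. -/
theorem pair_conj_field (σ : invAut Q) {g : GL ι F} {τ : F ≃+* F} {β : MulAut (Cfsg.POmega F ⇑Q)}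
    (hp : Cfsg.IsSemisimilarityPair ⇑Q g τ) (hi : Cfsg.IsInducedBySemilinearPOmega ⇑Q g τ β)
    (h : simG Q) (hh : h.1 = g * (mapGLι σ.1 g)⁻¹) :
    β * fieldPO Q σ * β⁻¹ = simAut Q h * fieldPO Q σ := by
  obtain ⟨c, hc⟩ := hp
  have hmem : ∀ M : GL ι F, ((mapEquiv τ).trans (MulAut.conj g)) M ∈ Cfsg.isometryGroup F ⇑Q ↔
      M ∈ Cfsg.isometryGroup F ⇑Q := fun M => by
    rw [mem_isometry, mem_isometry]
    have e : ∀ v, ((((mapEquiv τ).trans (MulAut.conj g)) M : GL ι F) : Matrix ι ι F) *ᵥ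
        ((g : Matrix ι ι F) *ᵥ vecMap τ v) = (g : Matrix ι ι F) *ᵥ vecMap τ ((M : Matrix ι ι F) *ᵥ v) := fun v => by
      show ((g * mapEquiv τ M * g⁻¹ : GL ι F) : Matrix ι ι F) *ᵥ _ = _
      rw [Units.val_mul, Units.val_mul, mulVec_mulVec, Matrix.mul_assoc, Units.inv_mul, Matrix.mul_one,
        ← mulVec_mulVec, coe_mapEquiv, vecMap_mulVec]
    constructor
    · intro H v
      have h1 := H ((g : Matrix ι ι F) *ᵥ vecMap τ v)
      rw [e] at h1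
      have h2 := ((hc _).symm.trans h1).trans (hc v)
      exact τ.injective (mul_left_cancel₀ c.ne_zero h2)
    · intro H w
      obtain ⟨v, rfl⟩ : ∃ v, (g : Matrix ι ι F) *ᵥ vecMap τ v = w := by
        obtain ⟨v, hv⟩ := vec_surj τ (((g⁻¹ : GL ι F) : Matrix ι ι F) *ᵥ w)
        exact ⟨v, by rw [hv, mulVec_mulVec, ← Units.val_mul, mul_inv_cancel, Units.val_one, one_mulVec]⟩
      rw [e]
      exact (hc _).trans ((congrArg (fun t => (c : F) * τ t) (H v)).trans (hc v).symm)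
  have hβ : β = pIso _ hmem := by
    apply MulEquiv.ext
    intro y
    induction y using QuotientGroup.induction_on with
    | _ s => exact hi s _ (by
        show ((g * mapEquiv τ s.1.1 * g⁻¹ : GL ι F) : Matrix ι ι F) = _
        rw [Units.val_mul, Units.val_mul, coe_mapEquiv])
  rw [mul_inv_eq_iff_eq_mul]
  apply MulEquiv.ext
  intro y
  induction y using QuotientGroup.induction_on with
  | _ s =>
    subst hβ
    show QuotientGroup.mk _ = QuotientGroup.mk _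
    congr 1
    refine Subtype.ext (Subtype.ext ?_)
    show g * mapEquiv τ (mapGLι σ.1 s.1.1) * g⁻¹ = h.1 * mapGLι σ.1 (g * mapEquiv τ s.1.1 * g⁻¹) * h.1⁻¹
    rw [mapEquiv_eq, mapEquiv_eq, ← mapGLι_mul, ringAut_comm τ σ.1, mapGLι_mul, hh, map_mul, map_mul, map_inv]
    group

theorem splitClassCount_map_inn {F : Type*} [Field F] {ι κ : Type} [Fintype ι] [DecidableEq ι] [Fintype κ]
    [DecidableEq κ] {Q : QuadraticForm F (ι → F)} {Q' : QuadraticForm F (κ → F)}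
    {T : (κ → F) ≃ₗ[F] (ι → F)} {z : Fˣ} (hT : ∀ v, Q (T v) = (z : F) * Q' v)
    (H : Subgroup (MulAut (Cfsg.POmega F ⇑Q'))) (x : MulAut (Cfsg.POmega F ⇑Q')) :
    Cfsg.splitClassCount (H.map (autConj (trIso hT)).toMonoidHom) (Cfsg.Inn _) (autConj (trIso hT) x) =
      Cfsg.splitClassCount H (Cfsg.Inn _) x := by
  rw [← map_Inn (trIso hT), splitClassCount_map]

end Pair

variable {F : Type u} [Field F] [Fintype F] {m : ℕ}

omit [Fintype F] in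
theorem exists_zeta [Finite F] {a b : F}
    (hab : ∀ z₁ z₂ : F, z₁ ^ 2 + a * z₁ * z₂ + b * z₂ ^ 2 = 0 → z₁ = 0 ∧ z₂ = 0) :
    ∃ ζ : F, ∀ t : F, t ^ 2 + t + ζ ≠ 0 := by
  obtain ⟨ζ, -, hζ, -⟩ := binary_elliptic_normal (binForm a b) (binForm_polarSep hab) (binForm_anisotropic hab)
  exact ⟨ζ, hζ⟩

omit [Fintype F] in
/-- Two elliptic forms are isometric. -/
theorem exists_minus_equiv [Finite F] {a b a' b' : F}
    (hab : ∀ z₁ z₂ : F, z₁ ^ 2 + a * z₁ * z₂ + b * z₂ ^ 2 = 0 → z₁ = 0 ∧ z₂ = 0)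
    (hab' : ∀ z₁ z₂ : F, z₁ ^ 2 + a' * z₁ * z₂ + b' * z₂ ^ 2 = 0 → z₁ = 0 ∧ z₂ = 0) (k : ℕ) :
    ∃ T : ((Fin k ⊕ Fin k) ⊕ Fin 2 → F) ≃ₗ[F] ((Fin k ⊕ Fin k) ⊕ Fin 2 → F),
      ∀ v, qMinus k F a b (T v) = qMinus k F a' b' v := by
  obtain ⟨ζ, hζ⟩ := exists_zeta hab
  obtain ⟨φ, hφ⟩ := minus_equiv_normal hζ k a b hab
  obtain ⟨φ', hφ'⟩ := minus_equiv_normal hζ k a' b' hab'
  exact ⟨φ'.trans φ.symm, fun v => by
    rw [coe_qMinus, coe_qMinus, hφ, LinearEquiv.trans_apply, LinearEquiv.apply_symm_apply, hφ']⟩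

omit [Fintype F] in
theorem qMinus_vecMap (τ : F ≃+* F) (a b : F) (v : (Fin m ⊕ Fin m) ⊕ Fin 2 → F) :
    qMinus m F (τ a) (τ b) (vecMap τ v) = τ (qMinus m F a b v) := qMinus_map (τ : F →+* F) v

set_option maxHeartbeats 4000000 in
theorem minus_class_decomp (hm : 3 ≤ m) {σ : F ≃+* F} {a b : fixF σ}
    (hab : ∀ z₁ z₂ : F, z₁ ^ 2 + (a : F) * z₁ * z₂ + (b : F) * z₂ ^ 2 = 0 → z₁ = 0 ∧ z₂ = 0)
    (h : EvQ (qMinus m F (a : F) b) (m + 1)) {x α : MulAut (Cfsg.POmega F ⇑(qMinus m F (a : F) b))}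
    (hx : α * x * α⁻¹ = fieldPO _ ⟨σ, invAut_qMinus a.2 b.2 m⟩) :
    ∃ g, swapH h g = 1 ∧ x = simAut _ g * fieldPO _ ⟨σ, invAut_qMinus a.2 b.2 m⟩ := by
  obtain ⟨g, τ, hp, hi⟩ := exists_pair (AutPO.good_qMinus hm hab) α⁻¹
  have hj := fixHom_subtype σ
  set s : invAut (qMinus m F (a : F) b) := ⟨σ, invAut_qMinus a.2 b.2 m⟩
  have hfix : ∀ t : fixF σ, σ (τ (t : F)) = τ (t : F) := fun t => by
    have e := DFunLike.congr_fun (ringAut_comm σ τ) (t : F)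
    simp only [RingAut.mul_apply] at e
    rw [e, show σ (t : F) = t from t.2]
  let a₁ : fixF σ := ⟨τ a, hfix a⟩
  let b₁ : fixF σ := ⟨τ b, hfix b⟩
  have habK : ∀ c d : fixF σ, (∀ z₁ z₂ : F, z₁ ^ 2 + (c : F) * z₁ * z₂ + (d : F) * z₂ ^ 2 = 0 → z₁ = 0 ∧ z₂ = 0) →
      ∀ z₁ z₂ : fixF σ, z₁ ^ 2 + c * z₁ * z₂ + d * z₂ ^ 2 = 0 → z₁ = 0 ∧ z₂ = 0 := by
    intro c d hcd z₁ z₂ hz
    obtain ⟨e1, e2⟩ := hcd z₁ z₂ (by simpa using congrArg Subtype.val hz)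
    exact ⟨Subtype.ext e1, Subtype.ext e2⟩
  have hab₁ : ∀ z₁ z₂ : F, z₁ ^ 2 + (a₁ : F) * z₁ * z₂ + (b₁ : F) * z₂ ^ 2 = 0 → z₁ = 0 ∧ z₂ = 0 := by
    intro z₁ z₂ hz
    have := congrArg τ.symm hz
    simp only [map_add, map_mul, map_pow, map_zero, a₁, b₁, RingEquiv.symm_apply_apply] at this
    simpa using hab _ _ this
  obtain ⟨T₀, hT₀⟩ := exists_minus_equiv (habK a b hab) (habK a₁ b₁ hab₁) m
  set W := liftEquiv (fixF σ).subtype T₀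
  have hW : ∀ v, qMinus m F (a : F) b (W v) = qMinus m F (τ (a : F)) (τ b) v :=
    qext (A := (qMinus m F (a : F) b).comp W.toLinearMap) (B := qMinus m F (τ (a : F)) (τ b))
      (jVec (fixF σ).subtype) (span_jVec _) fun v => by
        show qMinus m F (a : F) b (W (jVec (fixF σ).subtype v)) = _
        rw [liftEquiv_jVec, show qMinus m F (a : F) b = qMinus m F ((fixF σ).subtype a) ((fixF σ).subtype b) from rfl,
          qMinus_jVec, hT₀, ← qMinus_jVec]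
        rfl
  have hWv : ∀ v, ((glEquiv.symm W : GL ((Fin m ⊕ Fin m) ⊕ Fin 2) F) : Matrix _ _ F) *ᵥ v = W v := fun v => by
    rw [← glEquiv_apply, MulEquiv.apply_symm_apply]
  have hWfix : mapGLι σ (glEquiv.symm W) = glEquiv.symm W := by
    refine Units.ext (Matrix.ext_iff_mulVec.2 fun w => ?_)
    obtain ⟨v, rfl⟩ := vec_surj σ w
    rw [coe_mapGLι, vecMap_mulVec, hWv, hWv, liftEquiv_vecMap hj]
  obtain ⟨c, hc⟩ := hp
  let g₁ : simG (qMinus m F (a : F) b) := ⟨g * (glEquiv.symm W)⁻¹, c, fun w => by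
    obtain ⟨u, rfl⟩ := W.surjective w
    obtain ⟨v, rfl⟩ := vec_surj τ u
    rw [hW, qMinus_vecMap]
    refine Eq.trans (congrArg _ ?_) (hc v)
    rw [Units.val_mul, ← mulVec_mulVec, ← hWv, mulVec_mulVec _ ((glEquiv.symm W)⁻¹ : GL _ F).val,
      ← Units.val_mul, inv_mul_cancel, Units.val_one, one_mulVec]
    rfl⟩
  refine ⟨g₁ * (simMap s g₁)⁻¹, by rw [map_mul, map_inv, swapH_simMap, mul_inv_cancel], ?_⟩
  rw [← pair_conj_field s ⟨c, hc⟩ hi (g₁ * (simMap s g₁)⁻¹) (by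
    show g * (glEquiv.symm W)⁻¹ * (mapGLι σ (g * (glEquiv.symm W)⁻¹))⁻¹ = _
    rw [map_mul, map_inv, hWfix]; group; rfl), ← hx]
  group

set_option maxHeartbeats 4000000 in
theorem minus_class_decomp' (hm : 3 ≤ m) {σ : F ≃+* F} {a b : F} (ha : σ a = a) (hb : σ b = b)
    (hab : ∀ z₁ z₂ : F, z₁ ^ 2 + a * z₁ * z₂ + b * z₂ ^ 2 = 0 → z₁ = 0 ∧ z₂ = 0)
    (h : EvQ (qMinus m F a b) (m + 1)) {x α : MulAut (Cfsg.POmega F ⇑(qMinus m F a b))}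
    (hx : α * x * α⁻¹ = fieldPO _ ⟨σ, invAut_qMinus ha hb m⟩) :
    ∃ g, swapH h g = 1 ∧ x = simAut _ g * fieldPO _ ⟨σ, invAut_qMinus ha hb m⟩ :=
  minus_class_decomp hm (a := (⟨a, ha⟩ : fixF σ)) (b := (⟨b, hb⟩ : fixF σ)) hab h hx

set_option maxHeartbeats 4000000 in
theorem coset_minus' {σ : F ≃+* F} (hodd : Odd (orderOf σ)) {a b : F} (ha : σ a = a) (hb : σ b = b)
    (hab : ∀ z₁ z₂ : F, z₁ ^ 2 + a * z₁ * z₂ + b * z₂ ^ 2 = 0 → z₁ = 0 ∧ z₂ = 0)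
    (h : EvQ (qMinus m F a b) (m + 1)) (g : simG (qMinus m F a b))
    (hpow : (simAut _ g * fieldPO _ ⟨σ, invAut_qMinus ha hb m⟩) ^ orderOf σ = 1) :
    ∃ u ∈ keep h, simAut _ g * fieldPO _ ⟨σ, invAut_qMinus ha hb m⟩ =
      simAut _ u * fieldPO _ ⟨σ, invAut_qMinus ha hb m⟩ * (simAut _ u)⁻¹ :=
  (coset_minus (fixHom_subtype σ) hodd (a := (⟨a, ha⟩ : fixF σ)) (b := (⟨b, hb⟩ : fixF σ)) (fun z₁ z₂ hz => by
    obtain ⟨e1, e2⟩ := hab z₁ z₂ (by simpa using congrArg Subtype.val hz)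
    exact ⟨Subtype.ext e1, Subtype.ext e2⟩) h g hpow).2

omit [Fintype F] in
/-- A quadratic extension splits every binary form. -/
theorem odd_of_aniso [Finite F] {σ : F ≃+* F} {a b : fixF σ} (hr : (orderOf σ).Prime)
    (hab : ∀ z₁ z₂ : F, z₁ ^ 2 + (a : F) * z₁ * z₂ + (b : F) * z₂ ^ 2 = 0 → z₁ = 0 ∧ z₂ = 0) :
    Odd (orderOf σ) := by
  refine hr.odd_of_ne_two fun h2 => ?_
  have hK : Module.finrank (fixF σ) F = 2 := by
    have h1 := Module.natCard_eq_pow_finrank (K := fixF σ) (V := F)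
    rw [card_fixF σ, h2] at h1
    exact (Nat.pow_right_injective Finite.one_lt_card h1).symm
  obtain ⟨r, r', -, h1, h2'⟩ := exists_roots (F := fixF σ) (a := a) (b := b) (fun z₁ z₂ hz => by
    obtain ⟨e1, e2⟩ := hab z₁ z₂ (by simpa using congrArg Subtype.val hz)
    exact ⟨Subtype.ext e1, Subtype.ext e2⟩) F hK
  have e1 : r + r' = -(a : F) := h1
  have e2 : r * r' = (b : F) := h2'
  exact one_ne_zero (hab r 1 (by linear_combination r * e1 - e2)).2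

set_option maxHeartbeats 4000000 in
theorem minus_reduce (hm : 3 ≤ m) {a b : F}
    (hab : ∀ z₁ z₂ : F, z₁ ^ 2 + a * z₁ * z₂ + b * z₂ ^ 2 = 0 → z₁ = 0 ∧ z₂ = 0)
    {x : MulAut (Cfsg.POmega F ⇑(qMinus m F a b))} {a' b' : F}
    (ψ : Cfsg.POmega F ⇑(qMinus m F a b) ≃* Cfsg.POmega F ⇑(qMinus m F a' b')) {σ : F ≃+* F}
    (hab' : ∀ z₁ z₂ : F, z₁ ^ 2 + a' * z₁ * z₂ + b' * z₂ ^ 2 = 0 → z₁ = 0 ∧ z₂ = 0)
    (hσ : σ ≠ RingEquiv.refl F) (ha : σ a' = a') (hb : σ b' = b')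
    (hφ : Cfsg.IsFieldAutPOmegaOf ⇑(qMinus m F a' b') σ ((ψ.symm.trans x).trans ψ))
    {r : ℕ} (hr : r.Prime) (hxr : orderOf x = r) :
    orderOf σ = r ∧ Odd r ∧
    ∃ (T : ((Fin m ⊕ Fin m) ⊕ Fin 2 → F) ≃ₗ[F] ((Fin m ⊕ Fin m) ⊕ Fin 2 → F))
      (hT : ∀ v, qMinus m F a b (T v) = ((1 : Fˣ) : F) * qMinus m F a' b' v)
      (u : simG (qMinus m F a' b')), u ∈ keep (evQ_minus (by omega) hab') ∧
      x = autConj (trIso hT) (simAut _ u * fieldPO _ ⟨σ, invAut_qMinus ha hb m⟩ * (simAut _ u)⁻¹) := by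
  obtain ⟨T, hT⟩ := exists_minus_equiv hab hab' m
  have hT1 : ∀ v, qMinus m F a b (T v) = ((1 : Fˣ) : F) * qMinus m F a' b' v := fun v => by
    rw [Units.val_one, one_mul, hT]
  set Ψ := trIso hT1
  rw [isFieldAutOf_iff ⟨σ, invAut_qMinus ha hb m⟩] at hφ
  set x' := (autConj Ψ).symm x
  have hx' : (Ψ.trans ψ : MulAut _) * x' * (Ψ.trans ψ : MulAut _)⁻¹ = fieldPO _ ⟨σ, invAut_qMinus ha hb m⟩ := by
    rw [← hφ]
    apply MulEquiv.ext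
    intro y
    show ψ (Ψ (Ψ.symm (x (Ψ (Ψ.symm (ψ.symm y)))))) = ψ (x (ψ.symm y))
    rw [MulEquiv.apply_symm_apply, MulEquiv.apply_symm_apply]
  have h' := evQ_minus (m := m) (by omega) hab'
  obtain ⟨g, -, hg⟩ := minus_class_decomp' hm ha hb hab' h' hx'
  have hxr' : orderOf x' = r := by rw [← hxr]; exact MulEquiv.orderOf_eq (autConj Ψ).symm x
  rw [hg] at hxr'
  have hord : orderOf σ = r := orderOf_field h'.nondeg h'.five hσ hr hxr'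
  have hodd : Odd (orderOf σ) := odd_of_aniso (a := ⟨a', ha⟩) (b := ⟨b', hb⟩) (hord ▸ hr) hab'
  obtain ⟨u, hu, he⟩ := coset_minus' hodd ha hb hab' h' g (by rw [hord, ← hxr', pow_orderOf_eq_one])
  refine ⟨hord, hord ▸ hodd, T, hT1, u, hu, ?_⟩
  rw [← (autConj Ψ).apply_symm_apply x]
  congr 1
  exact hg.trans he

set_option maxHeartbeats 4000000 in
theorem minus_coset (hm : 3 ≤ m) {a b : F}
    (hab : ∀ z₁ z₂ : F, z₁ ^ 2 + a * z₁ * z₂ + b * z₂ ^ 2 = 0 → z₁ = 0 ∧ z₂ = 0)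
    {x δ : MulAut (Cfsg.POmega F ⇑(qMinus m F a b))} {a' b' : F}
    (ψ : Cfsg.POmega F ⇑(qMinus m F a b) ≃* Cfsg.POmega F ⇑(qMinus m F a' b')) {σ : F ≃+* F}
    (hab' : ∀ z₁ z₂ : F, z₁ ^ 2 + a' * z₁ * z₂ + b' * z₂ ^ 2 = 0 → z₁ = 0 ∧ z₂ = 0)
    (hσ : σ ≠ RingEquiv.refl F) (ha : σ a' = a') (hb : σ b' = b')
    (hφ : Cfsg.IsFieldAutPOmegaOf ⇑(qMinus m F a' b') σ ((ψ.symm.trans x).trans ψ))
    {r : ℕ} (hr : r.Prime) (hxr : orderOf x = r)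
    (hδ : δ ∈ (keep (evQ_minus (m := m) (by omega) hab)).map (simAut (qMinus m F a b))) :
    orderOf (δ * x) = r ↔
      Cfsg.IsConjUnder ((keep (evQ_minus (m := m) (by omega) hab)).map (simAut (qMinus m F a b))) x (δ * x) := by
  constructor
  · intro ho
    obtain ⟨hord, hodd, T, hT, u, hu, hxu⟩ := minus_reduce hm hab ψ hab' hσ ha hb hφ hr hxr
    have h' := evQ_minus (m := m) (by omega) hab'
    have h := evQ_minus (m := m) (by omega) hab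
    rw [← map_keep hT h' h] at hδ ⊢
    obtain ⟨δ', ⟨d, hd, rfl⟩, rfl⟩ := hδ
    set s : invAut (qMinus m F a' b') := ⟨σ, invAut_qMinus ha hb m⟩
    set x' := simAut _ u * fieldPO _ s * (simAut _ u)⁻¹ with hx'
    have hy : simAut _ d * x' = simAut _ (d * (u * 1 * (simMap s u)⁻¹)) * fieldPO _ s := by
      rw [map_mul, mul_assoc, ← simAut_mul_eq, map_one, one_mul]
    rw [hxu, MulEquiv.coe_toMonoidHom, ← map_mul, isConjUnder_map]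
    rw [hxu, MulEquiv.coe_toMonoidHom, ← map_mul, MulEquiv.orderOf_eq] at ho
    obtain ⟨v, hv, he⟩ := coset_minus' (hord ▸ hodd) ha hb hab' h' (d * (u * 1 * (simMap s u)⁻¹))
      (by rw [← hy, hord, ← ho, pow_orderOf_eq_one])
    refine ⟨simAut _ (v * u⁻¹), Subgroup.mem_map_of_mem _ (mul_mem hv (inv_mem hu)), ?_⟩
    rw [hy]
    refine he.trans ?_
    rw [hx', map_mul, map_inv]
    group
    rfl
  · rintro ⟨h, -, e⟩
    rw [e, ← hxr]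
    exact orderOf_injective (MulAut.conj h).toMonoidHom (MulEquiv.injective _) x

/-- Over the small field there are similarities of every multiplier keeping the classes. -/
theorem exists_keep_mult {K : Type*} [Field K] [Finite K] {k : ℕ} {a b : K}
    (hab : ∀ z₁ z₂ : K, z₁ ^ 2 + a * z₁ * z₂ + b * z₂ ^ 2 = 0 → z₁ = 0 ∧ z₂ = 0)
    (h : EvQ (qMinus k K a b) (k + 1)) (ν : Kˣ) :
    ∃ y, y ∈ keep h ∧ simMu y = ν := by
  obtain ⟨ζ, -, hζ, -⟩ := binary_elliptic_normal (binForm a b) (binForm_polarSep hab) (binForm_anisotropic hab)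
  obtain ⟨φ, hφ⟩ := minus_equiv_normal hζ k a b hab
  obtain ⟨χ, hχ⟩ := minus_scale hζ k (ν : K) ν.ne_zero
  have hy : ∀ v, qMinus k K a b ((φ.trans (χ.trans φ.symm)) v) = (ν : K) * qMinus k K a b v := fun v => by
    rw [coe_qMinus, LinearEquiv.trans_apply, LinearEquiv.trans_apply, hφ, LinearEquiv.apply_symm_apply, hχ, ← hφ]
  let y : simG (qMinus k K a b) := ⟨glEquiv.symm (φ.trans (χ.trans φ.symm)), ν, fun v => by
    rw [← glEquiv_apply, MulEquiv.apply_symm_apply]; exact hy v⟩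
  obtain ⟨v₀, hv₀⟩ := exists_ne_zero h.nondeg h.five
  have hmu : simMu y = ν := Units.ext (simMu_eq hv₀ fun v => by
    show qMinus k K a b ((glEquiv.symm (φ.trans (χ.trans φ.symm)) : GL _ K).val *ᵥ v) = _
    rw [← glEquiv_apply, MulEquiv.apply_symm_apply]; exact hy v)
  rcases mulTwo_cases (swapH h y) with e | e
  · exact ⟨y, e, hmu⟩
  · refine ⟨y * orthSim _ (refl _ v₀), ?_, ?_⟩
    · rw [mem_keep, map_mul, e, swapH_refl h hv₀]; exact mulTwo_mul_self _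
    · rw [simMu_mul hv₀, hmu, show simMu (orthSim (qMinus k K a b) (refl _ v₀)) = 1 from
        Units.ext (simMu_eq hv₀ fun v => by rw [orthSim_mulVec, orth_qmap, Units.val_one, one_mul]), mul_one]

set_option maxHeartbeats 4000000 in
theorem minus_invariants (hm : 3 ≤ m) {a b : F}
    (hab : ∀ z₁ z₂ : F, z₁ ^ 2 + a * z₁ * z₂ + b * z₂ ^ 2 = 0 → z₁ = 0 ∧ z₂ = 0)
    {x : MulAut (Cfsg.POmega F ⇑(qMinus m F a b))} {a' b' : F}
    (ψ : Cfsg.POmega F ⇑(qMinus m F a b) ≃* Cfsg.POmega F ⇑(qMinus m F a' b')) {σ : F ≃+* F}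
    (hab' : ∀ z₁ z₂ : F, z₁ ^ 2 + a' * z₁ * z₂ + b' * z₂ ^ 2 = 0 → z₁ = 0 ∧ z₂ = 0)
    (hσ : σ ≠ RingEquiv.refl F) (ha : σ a' = a') (hb : σ b' = b')
    (hφ : Cfsg.IsFieldAutPOmegaOf ⇑(qMinus m F a' b') σ ((ψ.symm.trans x).trans ψ))
    {p f : ℕ} (hp : p.Prime) (hF : Fintype.card F = p ^ f) {r : ℕ} (hr : r.Prime) (hxr : orderOf x = r)
    (K : Type*) [Field K] [Fintype K] (hK : Fintype.card K = p ^ (f / r)) :
    Odd r ∧ r ∣ f ∧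
      (∃ (a₀ b₀ : K) (hab₀ : ∀ z₁ z₂ : K, z₁ ^ 2 + a₀ * z₁ * z₂ + b₀ * z₂ ^ 2 = 0 → z₁ = 0 ∧ z₂ = 0),
        Nonempty (↥((keep (evQ_minus (m := m) (by omega) hab)).map (simAut (qMinus m F a b)) ⊓
          Subgroup.centralizer {x}) ≃*
            ↥((keep (evQ_minus (m := m) (by omega) hab₀)).map (simAut (qMinus m K a₀ b₀))))) ∧
      Cfsg.splitClassCount ((keep (evQ_minus (m := m) (by omega) hab)).map (simAut (qMinus m F a b)))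
        (Cfsg.Inn _) x = 1 := by
  have hF' : Nat.card F = p ^ f := by rw [Nat.card_eq_fintype_card, hF]
  obtain ⟨hord, hodd, T, hT, u, hu, rfl⟩ := minus_reduce hm hab ψ hab' hσ ha hb hφ hr hxr
  obtain ⟨j, hj⟩ := exists_fixHom σ hp hF' K (by rw [hK, hord])
  obtain ⟨a₀, rfl⟩ := (hj.fix a').1 ha
  obtain ⟨b₀, rfl⟩ := (hj.fix b').1 hb
  have hab₀ : ∀ z₁ z₂ : K, z₁ ^ 2 + a₀ * z₁ * z₂ + b₀ * z₂ ^ 2 = 0 → z₁ = 0 ∧ z₂ = 0 := fun z₁ z₂ hz => by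
    obtain ⟨e1, e2⟩ := hab' (j z₁) (j z₂) (by simpa using congrArg j hz)
    exact ⟨(map_eq_zero j).1 e1, (map_eq_zero j).1 e2⟩
  have h := evQ_minus (m := m) (by omega) hab
  have h' := evQ_minus (m := m) (by omega) hab'
  have h₀ := evQ_minus (m := m) (by omega) hab₀
  rw [← map_keep hT h' h, splitClassCount_map_inn hT]
  set s : invAut (qMinus m F (j a₀) (j b₀)) := ⟨σ, invAut_qMinus ha hb m⟩
  obtain ⟨⟨e₁⟩, hcount⟩ := conj_invariants ((keep h').map (simAut _)) (Subgroup.mem_map_of_mem _ hu)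
    (fieldPO _ s)
  rw [hcount]
  have hR : ∀ v, qMinus m F (j a₀) (j b₀) (jVec j v) = j (qMinus m K a₀ b₀ v) := qMinus_jVec j a₀ b₀ m
  refine ⟨hodd, dvd_of_prime hp hF' hord, ⟨a₀, b₀, hab₀, ?_⟩, ?_⟩
  · obtain ⟨e₀⟩ := centralizer_equiv (autConj (trIso hT)) ((keep h').map (simAut _))
      (simAut _ u * fieldPO _ s * (simAut _ u)⁻¹)
    obtain ⟨e₂⟩ := centralizer_field s h'.nondeg h'.five hj hR (keep h') (fun c => swapH_scalar h' c) (keep h₀)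
      (fun y => by rw [mem_keep, mem_keep, swapH_sim _ h₀ h'])
    exact ⟨e₀.symm.trans (e₁.trans e₂)⟩
  by_cases h2 : (2 : F) = 0
  · refine count_eq_one (inn_le_keep h') fun y hy => ⟨1, one_mem _, ?_⟩
    rw [inv_one, one_mul, ← keep_eq_inn_two h' h2]; exact hy
  · have h2K := two_ne_zero_small j h2
    have hodd' : Odd (orderOf σ) := hord ▸ hodd
    obtain ⟨ν, hν⟩ := exists_nonsquare_map hj hodd' h2
    have hν0 : ν ≠ 0 := fun e => hν (by simp [e])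
    obtain ⟨v₀, hv₀⟩ := exists_ne_zero h'.nondeg h'.five
    obtain ⟨y, hy, hmu⟩ := exists_keep_mult hab₀ h₀ (Units.mk0 ν hν0)
    refine count_eq_one (inn_le_keep h') (centralizer_covers (σ := s) hj hR h'.nondeg h'.five (keep h')
      (fun c => swapH_scalar h' c) h'.gen hν (fun z hz => by rw [mem_keep, swapH_orth, hz])
      (fun g hg w hw => ?_) fun g _ => Or.inr ⟨(baseExt hR).sim y, ?_, ?_, ?_⟩)
    · obtain ⟨z, hz, e⟩ := hdec_keep h' g hg w hw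
      exact ⟨w, z, rfl, hz, e⟩
    · rw [mem_keep, swapH_sim _ h₀ h']; exact hy
    · exact Subtype.ext (Units.ext (Matrix.ext fun i l => hj.map _))
    · intro e
      obtain ⟨t, ht⟩ := (sqMk_eq_one_iff _).1 e
      refine hν ⟨t, ?_⟩
      have e2 : (simMu ((baseExt hR).sim y) : F) = j ν :=
        simMu_eq hv₀ ((baseExt hR).map_similar fun v => (simMu_spec y v).trans (by rw [hmu, Units.val_mk0]))
      rw [← e2, ← ht]; simp [pow_two]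

theorem S2737_core (hm : 3 ≤ m) {a b : F}
    (hab : ∀ z₁ z₂ : F, z₁ ^ 2 + a * z₁ * z₂ + b * z₂ ^ 2 = 0 → z₁ = 0 ∧ z₂ = 0)
    (Φ : ((Fin m ⊕ Fin m) ⊕ Fin 2 → F) → F) (hΦ : ⇑(qMinus m F a b) = Φ) {x δ : MulAut (Cfsg.POmega F Φ)}
    (hx : ∃ (a' b' : F) (ψ : Cfsg.POmega F Φ ≃* Cfsg.POmega F ⇑(qMinus m F a' b')) (σ : F ≃+* F),
      (∀ z₁ z₂ : F, z₁ ^ 2 + a' * z₁ * z₂ + b' * z₂ ^ 2 = 0 → z₁ = 0 ∧ z₂ = 0) ∧
      σ ≠ RingEquiv.refl F ∧ σ a' = a' ∧ σ b' = b' ∧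
      Cfsg.IsFieldAutPOmegaOf ⇑(qMinus m F a' b') σ ((ψ.symm.trans x).trans ψ))
    {r : ℕ} (hr : r.Prime) (hxr : orderOf x = r) (H : Subgroup (MulAut (Cfsg.POmega F Φ)))
    (hH : H = Cfsg.autSubgroupOf (fun β => ∃ g : GL ((Fin m ⊕ Fin m) ⊕ Fin 2) F,
      g ∈ Cfsg.Geo.quadSimilarityGroup (F := F) Φ ∧
      Cfsg.PreservesSingularClassesMinus m a b (g : Matrix ((Fin m ⊕ Fin m) ⊕ Fin 2) ((Fin m ⊕ Fin m) ⊕ Fin 2) F) ∧
      Cfsg.IsInducedBySemilinearPOmega Φ g (RingEquiv.refl F) β)) (hδ : δ ∈ H) :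
    orderOf (δ * x) = r ↔ Cfsg.IsConjUnder H x (δ * x) := by
  subst hΦ
  obtain ⟨a', b', ψ, σ, hab', hσ, ha, hb, hφ⟩ := hx
  rw [hH, inndiag_minus_keep (evQ_minus (by omega) hab) hab] at hδ ⊢
  exact minus_coset hm hab ψ hab' hσ ha hb hφ hr hxr hδ

theorem S2716_core (hm : 3 ≤ m) {a b : F}
    (hab : ∀ z₁ z₂ : F, z₁ ^ 2 + a * z₁ * z₂ + b * z₂ ^ 2 = 0 → z₁ = 0 ∧ z₂ = 0)
    (Φ : ((Fin m ⊕ Fin m) ⊕ Fin 2 → F) → F) (hΦ : ⇑(qMinus m F a b) = Φ) {x : MulAut (Cfsg.POmega F Φ)}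
    (hx : ∃ (a' b' : F) (ψ : Cfsg.POmega F Φ ≃* Cfsg.POmega F ⇑(qMinus m F a' b')) (σ : F ≃+* F),
      (∀ z₁ z₂ : F, z₁ ^ 2 + a' * z₁ * z₂ + b' * z₂ ^ 2 = 0 → z₁ = 0 ∧ z₂ = 0) ∧
      σ ≠ RingEquiv.refl F ∧ σ a' = a' ∧ σ b' = b' ∧
      Cfsg.IsFieldAutPOmegaOf ⇑(qMinus m F a' b') σ ((ψ.symm.trans x).trans ψ))
    {p f : ℕ} (hp : p.Prime) (hF : Fintype.card F = p ^ f)
    {r : ℕ} (hr : r.Prime) (hxr : orderOf x = r) (K : Type*) [Field K] [Fintype K]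
    (hK : Fintype.card K = p ^ (f / r)) (H : Subgroup (MulAut (Cfsg.POmega F Φ)))
    (hH : H = Cfsg.autSubgroupOf (fun β => ∃ g : GL ((Fin m ⊕ Fin m) ⊕ Fin 2) F,
      g ∈ Cfsg.Geo.quadSimilarityGroup (F := F) Φ ∧
      Cfsg.PreservesSingularClassesMinus m a b (g : Matrix ((Fin m ⊕ Fin m) ⊕ Fin 2) ((Fin m ⊕ Fin m) ⊕ Fin 2) F) ∧
      Cfsg.IsInducedBySemilinearPOmega Φ g (RingEquiv.refl F) β)) :
    Odd r ∧ r ∣ f ∧
      (∃ (a₀ b₀ : K) (hab₀ : ∀ z₁ z₂ : K, z₁ ^ 2 + a₀ * z₁ * z₂ + b₀ * z₂ ^ 2 = 0 → z₁ = 0 ∧ z₂ = 0),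
        Nonempty (↥(H ⊓ Subgroup.centralizer {x}) ≃*
            ↥((keep (evQ_minus (m := m) (by omega) hab₀)).map (simAut (qMinus m K a₀ b₀))))) ∧
      Cfsg.splitClassCount H (Cfsg.Inn _) x = 1 := by
  subst hΦ
  obtain ⟨a', b', ψ, σ, hab', hσ, ha, hb, hφ⟩ := hx
  rw [hH, inndiag_minus_keep (evQ_minus (by omega) hab) hab]
  exact minus_invariants hm hab ψ hab' hσ ha hb hφ hp hF hr hxr K hK

omit [Fintype F] in
theorem keep_minus_iso [Finite F] {a b : F} (h : EvQ (qMinus m F a b) (m + 1))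
    (hab : ∀ z₁ z₂ : F, z₁ ^ 2 + a * z₁ * z₂ + b * z₂ ^ 2 = 0 → z₁ = 0 ∧ z₂ = 0)
    (Φ : ((Fin m ⊕ Fin m) ⊕ Fin 2 → F) → F) (hΦ : ⇑(qMinus m F a b) = Φ)
    (H : Subgroup (MulAut (Cfsg.POmega F Φ)))
    (hH : H = Cfsg.autSubgroupOf (fun β => ∃ g : GL ((Fin m ⊕ Fin m) ⊕ Fin 2) F,
      g ∈ Cfsg.Geo.quadSimilarityGroup (F := F) Φ ∧
      Cfsg.PreservesSingularClassesMinus m a b (g : Matrix ((Fin m ⊕ Fin m) ⊕ Fin 2) ((Fin m ⊕ Fin m) ⊕ Fin 2) F) ∧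
      Cfsg.IsInducedBySemilinearPOmega Φ g (RingEquiv.refl F) β)) :
    Nonempty (↥((keep h).map (simAut (qMinus m F a b))) ≃* ↥H) := by
  subst hΦ
  rw [hH, inndiag_minus_keep h hab]
  exact ⟨MulEquiv.refl _⟩

/-- The class predicate, for any way of writing the forms. -/
theorem minus_class_cast {a b : F} {Φ : ((Fin m ⊕ Fin m) ⊕ Fin 2 → F) → F}
    (x : MulAut (Cfsg.POmega F Φ)) (hΦ : Φ = Cfsg.quadFormMinus m F a b)
    (hx : ∃ (a' b' : F) (ψ : Cfsg.POmega F Φ ≃* Cfsg.POmega F (Cfsg.quadFormMinus m F a' b')) (σ : F ≃+* F),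
      (∀ z₁ z₂ : F, z₁ ^ 2 + a' * z₁ * z₂ + b' * z₂ ^ 2 = 0 → z₁ = 0 ∧ z₂ = 0) ∧
      σ ≠ RingEquiv.refl F ∧ σ a' = a' ∧ σ b' = b' ∧
      Cfsg.IsFieldAutPOmegaOf (Cfsg.quadFormMinus m F a' b') σ ((ψ.symm.trans x).trans ψ)) :
    ∃ (a' b' : F) (ψ : Cfsg.POmega F Φ ≃* Cfsg.POmega F ⇑(qMinus m F a' b')) (σ : F ≃+* F),
      (∀ z₁ z₂ : F, z₁ ^ 2 + a' * z₁ * z₂ + b' * z₂ ^ 2 = 0 → z₁ = 0 ∧ z₂ = 0) ∧
      σ ≠ RingEquiv.refl F ∧ σ a' = a' ∧ σ b' = b' ∧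
      Cfsg.IsFieldAutPOmegaOf ⇑(qMinus m F a' b') σ ((ψ.symm.trans x).trans ψ) := by
  obtain ⟨a', b', h⟩ := hx
  refine ⟨a', b', ?_⟩
  rwa [coe_qMinus]

end PO

end H55
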