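import Cfsg.Agent.H55.PODescent
import Cfsg.Agent.H44.StandardBasis
import Cfsg.Agent.H44.Classify

/-!
Semilinear elements of prime order in the three families of orthogonal groups, up to conjugacy.
-/

set_option autoImplicit false

namespace H55

namespace PO

open Matrix H43 H44

variable {F : Type*} [Field F] {ι : Type} [Fintype ι] [DecidableEq ι] {Q : QuadraticForm F (ι → F)}

theorem vec_surj (σ : F ≃+* F) (w : ι → F) : ∃ v, vecMap σ v = w :=
  ⟨fun i => σ.symm (w i), funext fun i => σ.apply_symm_apply (w i)⟩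

theorem polB_vecMap (σ : invAut Q) (v w : ι → F) :
    polB Q (vecMap σ.1 v) (vecMap σ.1 w) = σ.1 (polB Q v w) := by
  have h : ∀ u : ι → F, Q (vecMap σ.1 u) = σ.1 (Q u) := σ.2
  have e : vecMap σ.1 v + vecMap σ.1 w = vecMap σ.1 (v + w) := funext fun i => by simp [vecMap]
  simp only [polB_apply, QuadraticMap.polar, e, h, map_sub]

/-- The reflection in a fixed vector is fixed. -/
theorem simMap_refl (σ : invAut Q) {v : ι → F} (hv : vecMap σ.1 v = v) :
    simMap σ (orthSim Q (refl Q v)) = orthSim Q (refl Q v) := by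
  refine simG_ext fun w => ?_
  obtain ⟨u, rfl⟩ := vec_surj σ.1 w
  have hQv : σ.1 (Q v) = Q v := by
    conv_rhs => rw [← hv]
    exact (σ.2 v).symm
  have hB : σ.1 (polB Q u v) = polB Q (vecMap σ.1 u) v := by rw [← polB_vecMap, hv]
  rw [coe_simMap, coe_mapGLι, vecMap_mulVec, orthSim_mulVec, orthSim_mulVec, refl_apply, refl_apply]
  funext i
  have hvi : σ.1 (v i) = v i := congrFun hv i
  simp [vecMap, hQv, hB, hvi]

theorem simMap_scalar (σ : invAut Q) (c : Fˣ) :
    simMap σ (scalarHom Q c) = scalarHom Q (Units.map (σ.1 : F →+* F).toMonoidHom c) :=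
  Subtype.ext (Matrix.GeneralLinearGroup.map_scalar _ _)

theorem conj_semilinear (σ : invAut Q) {g u C : simG Q} {c : Fˣ}
    (h : g * simMap σ u = scalarHom Q c * (u * C)) :
    simAut Q g * fieldPO Q σ = simAut Q u * (simAut Q C * fieldPO Q σ) * (simAut Q u)⁻¹ := by
  rw [eq_mul_inv_iff_mul_eq, mul_assoc, fieldPO_mul_simAut, ← mul_assoc, ← mul_assoc, ← map_mul,
    ← map_mul, h, map_mul, scalarHom_mem_ker, one_mul]

theorem twist_similar {g : simG Q} {σ : invAut Q} {T : (ι → F) ≃ₗ[F] (ι → F)} {c z : Fˣ}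
    (hT : Twist σ.1 g.1 T c) (hQ : ∀ v, Q (T v) = (z : F) * Q v) :
    ∃ u : simG Q, g * simMap σ u = scalarHom Q c * (u * 1) := by
  have hu : ∀ v, ((glEquiv (F := F) (ι := ι)).symm T : Matrix ι ι F) *ᵥ v = T v := fun v => by
    rw [← glEquiv_apply, MulEquiv.apply_symm_apply]
  refine ⟨⟨glEquiv.symm T, z, fun v => by rw [hu, hQ]⟩, simG_ext fun w => ?_⟩
  obtain ⟨v, rfl⟩ := vec_surj σ.1 w
  rw [mul_one, Subgroup.coe_mul, Subgroup.coe_mul, Units.val_mul, Units.val_mul, ← mulVec_mulVec,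
    ← mulVec_mulVec, coe_simMap, coe_mapGLι, vecMap_mulVec, scalarHom_mulVec, hu, hu, hT]

section Even

variable [Finite F] {n : ℕ}

theorem swapH_simMap (h : EvQ Q n) (σ : invAut Q) (g : simG Q) : swapH h (simMap σ g) = swapH h g := by
  have : simMap σ g = (extOfHom (R := Q) (σ.1 : F →+* F) σ.2).sim g := Subtype.ext rfl
  rw [this, swapH_sim _ h h]

theorem swapH_twisted (h : EvQ Q n) {σ : invAut Q} {g u C : simG Q} {c : Fˣ}
    (e : g * simMap σ u = scalarHom Q c * (u * C)) : swapH h g = swapH h C := by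
  have := congrArg (swapH h) e
  rw [map_mul, map_mul, map_mul, swapH_simMap, swapH_scalar, one_mul, mul_comm (swapH h u)] at this
  exact mul_right_cancel this

/-- A fixed element outside lets the conjugating similarity preserve the classes. -/
theorem adjust_keep (h : EvQ Q n) (σ : invAut Q) {g u C P : simG Q} {c : Fˣ} (hP : simMap σ P = P)
    (hPs : swapH h P = Multiplicative.ofAdd 1) (hPC : C * P = P * C)
    (e : g * simMap σ u = scalarHom Q c * (u * C)) :
    ∃ u' ∈ keep h, simAut Q g * fieldPO Q σ = simAut Q u' * (simAut Q C * fieldPO Q σ) * (simAut Q u')⁻¹ := by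
  rcases mulTwo_cases (swapH h u) with hu | hu
  · exact ⟨u, hu, conj_semilinear σ e⟩
  · refine ⟨u * P, ?_, conj_semilinear σ (c := c) ?_⟩
    · rw [mem_keep, map_mul, hu, hPs]; exact mulTwo_mul_self _
    · rw [map_mul, hP, ← mul_assoc, e, mul_assoc, mul_assoc, mul_assoc, hPC]

end Even

/-! ### Anisotropy -/

/-- A totally singular subspace of an elliptic form misses the binary part. -/
theorem finrank_le_minus [Finite F] {k : ℕ} {a b : F}
    (hab : ∀ z₁ z₂ : F, z₁ ^ 2 + a * z₁ * z₂ + b * z₂ ^ 2 = 0 → z₁ = 0 ∧ z₂ = 0)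
    (U : Submodule F ((Fin k ⊕ Fin k) ⊕ Fin 2 → F)) (hU : ∀ u ∈ U, qMinus k F a b u = 0) :
    Module.finrank F U ≤ k := by
  refine finrank_le_of_totally_singular (LinearMap.funLeft F F (Sum.inl ∘ Sum.inl))
    (LinearMap.funLeft F F (Sum.inl ∘ Sum.inr)) (LinearMap.funLeft F F Sum.inr)
    (fun v hx hy hz => ?_) (qMinus k F a b) (binForm a b) (binForm_anisotropic hab) (fun v => ?_) U hU
  · funext s
    rcases s with (i | i) | i
    · exact congrFun hx i
    · exact congrFun hy i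
    · exact congrFun hz i
  · rw [coe_qMinus, binForm_apply]
    rfl

theorem not_similar_minus [Finite F] {k : ℕ} {a b : F}
    (hab : ∀ z₁ z₂ : F, z₁ ^ 2 + a * z₁ * z₂ + b * z₂ ^ 2 = 0 → z₁ = 0 ∧ z₂ = 0)
    (T : (Fin (k + 1) ⊕ Fin (k + 1) → F) ≃ₗ[F] ((Fin k ⊕ Fin k) ⊕ Fin 2 → F))
    (z : F) (hT : ∀ v, qMinus k F a b (T v) = z * qPlus (k + 1) F v) : False := by
  have h := finrank_le_minus hab ((stdTS (k + 1) F).map T.toLinearMap) (by
    rintro _ ⟨v, hv, rfl⟩
    rw [LinearEquiv.coe_coe, hT, (stdTS_isTS (k + 1) F).2 v hv, mul_zero])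
  rw [LinearEquiv.finrank_map_eq, (stdTS_isTS (k + 1) F).1] at h
  omega

section Fix

variable {K : Type*} [Field K] {σ : F ≃+* F} {j : K →+* F}

/-- Anisotropic over the fixed field of an automorphism of odd order stays anisotropic. -/
theorem aniso_of_odd (hj : FixHom σ j) (hodd : Odd (orderOf σ)) {a b : K}
    (hab : ∀ z₁ z₂ : K, z₁ ^ 2 + a * z₁ * z₂ + b * z₂ ^ 2 = 0 → z₁ = 0 ∧ z₂ = 0) :
    ∀ z₁ z₂ : F, z₁ ^ 2 + j a * z₁ * z₂ + j b * z₂ ^ 2 = 0 → z₁ = 0 ∧ z₂ = 0 := by
  intro z₁ z₂ h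
  by_cases hz₂ : z₂ = 0
  · subst hz₂
    refine ⟨?_, rfl⟩
    simpa using h
  exfalso
  set t := z₁ / z₂
  have ht : t ^ 2 + j a * t + j b = 0 := by simp only [t]; field_simp; linear_combination h
  have hst : (σ t) ^ 2 + j a * σ t + j b = 0 := by
    have := congrArg σ ht
    simpa [map_add, map_mul, map_pow, hj.map] using this
  have hroots : (σ t - t) * (σ t + t + j a) = 0 := by linear_combination hst - ht
  have h2 : σ (σ t) = t := by
    rcases mul_eq_zero.1 hroots with e | e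
    · rw [sub_eq_zero.1 e, sub_eq_zero.1 e]
    · have e1 : σ t = -t - j a := by linear_combination e
      rw [e1, map_sub, map_neg, hj.map, e1]; ring
  have hfix : σ t = t := by
    obtain ⟨l, hl⟩ := hodd
    have hpow : ∀ l : ℕ, (σ ^ (2 * l)) t = t := fun l => by
      induction l with
      | zero => rfl
      | succ l ih =>
        rw [show 2 * (l + 1) = 2 + 2 * l by ring, pow_add, RingAut.mul_apply, ih, pow_two, RingAut.mul_apply, h2]
    have h3 : (σ ^ orderOf σ) t = t := by rw [pow_orderOf_eq_one]; rfl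
    rwa [hl, add_comm, pow_add, pow_one, RingAut.mul_apply, hpow] at h3
  obtain ⟨t₀, ht₀⟩ := (hj.fix t).1 hfix
  rw [← ht₀, ← map_pow, ← map_mul, ← map_add, ← map_add, map_eq_zero] at ht
  exact one_ne_zero (hab t₀ 1 (by linear_combination ht)).2

theorem invAut_qPlus (σ : F ≃+* F) (m : ℕ) : σ ∈ invAut (qPlus m F) := fun v => by
  rw [coe_qPlus]; simp [Cfsg.quadFormPlus]

theorem invAut_qOdd (σ : F ≃+* F) (m : ℕ) : σ ∈ invAut (qOdd m F) := fun v => by
  rw [coe_qOdd]; simp [Cfsg.quadFormOdd]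

theorem invAut_qMinus {σ : F ≃+* F} {a b : F} (ha : σ a = a) (hb : σ b = b) (m : ℕ) :
    σ ∈ invAut (qMinus m F a b) := fun v => by
  rw [coe_qMinus]; simp [Cfsg.quadFormMinus, ha, hb]

theorem qPlus_jVec (j : K →+* F) (m : ℕ) (v : Fin m ⊕ Fin m → K) :
    qPlus m F (jVec j v) = j (qPlus m K v) := by
  rw [coe_qPlus, coe_qPlus]; simp [Cfsg.quadFormPlus, jVec]

theorem qOdd_jVec (j : K →+* F) (m : ℕ) (v : Unit ⊕ (Fin m ⊕ Fin m) → K) :
    qOdd m F (jVec j v) = j (qOdd m K v) := by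
  rw [coe_qOdd, coe_qOdd]; simp [Cfsg.quadFormOdd, jVec]

theorem qMinus_jVec (j : K →+* F) (a b : K) (m : ℕ) (v : (Fin m ⊕ Fin m) ⊕ Fin 2 → K) :
    qMinus m F (j a) (j b) (jVec j v) = j (qMinus m K a b v) := qMinus_map j v

/-! ### The twist of plus type -/

/-- The vector whose reflection swaps the last hyperbolic pair. -/
def pvec (k : ℕ) (F : Type*) [Field F] : Fin (k + 1) ⊕ Fin (k + 1) → F :=
  Sum.elim (Pi.single (Fin.last k) 1) (Pi.single (Fin.last k) (-1))

theorem q_pvec (k : ℕ) : qPlus (k + 1) F (pvec k F) = -1 := by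
  rw [coe_qPlus, Cfsg.quadFormPlus, Finset.sum_eq_single (Fin.last k)]
  · simp [pvec]
  · intro i _ hi; simp [pvec, hi]
  · simp

theorem vecMap_pvec (σ : F ≃+* F) (k : ℕ) : vecMap σ (pvec k F) = pvec k F := by
  funext s
  rcases s with i | i <;> by_cases h : i = Fin.last k <;> simp [vecMap, pvec, h]

/-- The swap of the last hyperbolic pair. -/
noncomputable def pSwap (k : ℕ) (F : Type*) [Field F] : simG (qPlus (k + 1) F) :=
  orthSim _ (refl _ (pvec k F))

theorem simMap_pSwap (k : ℕ) (σ : invAut (qPlus (k + 1) F)) : simMap σ (pSwap k F) = pSwap k F :=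
  simMap_refl σ (vecMap_pvec σ.1 k)

theorem swapH_pSwap [Finite F] {k : ℕ} (h : EvQ (qPlus (k + 1) F) (k + 1)) :
    swapH h (pSwap k F) = Multiplicative.ofAdd 1 :=
  swapH_refl h (by rw [q_pvec]; exact neg_ne_zero.2 one_ne_zero)

/-- The swap intertwines the split coordinates with their conjugate. -/
theorem pSwap_split {σ : F ≃+* F} {θ : F} (hθ : θ ≠ σ θ) (h2 : σ (σ θ) = θ) (k : ℕ)
    (v : (Fin k ⊕ Fin k) ⊕ Fin 2 → F) :
    ((pSwap k F).1 : Matrix (Fin (k + 1) ⊕ Fin (k + 1)) (Fin (k + 1) ⊕ Fin (k + 1)) F) *ᵥ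
      vecMap σ (splitEquiv k hθ v) = splitEquiv k hθ (vecMap σ v) := by
  show (pSwap k F).1.val *ᵥ vecMap σ (splitMap k θ (σ θ) v) = splitMap k θ (σ θ) (vecMap σ v)
  rw [pSwap, orthSim_mulVec, refl_apply, q_pvec, polB_qPlus, Finset.sum_eq_single (Fin.last k)]
  · funext s
    rcases s with i | i <;> induction i using Fin.lastCases with
    | last => simp [pvec, vecMap, splitMap, h2]
    | cast i => simp [pvec, vecMap, splitMap]
  · intro i _ hi; simp [pvec, hi]
  · simp

set_option maxHeartbeats 2000000 in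
theorem coset_plus [Finite F] (hj : FixHom σ j) {k : ℕ} (hr : (orderOf σ).Prime)
    (h : EvQ (qPlus (k + 1) F) (k + 1)) (g : simG (qPlus (k + 1) F))
    (hpow : (simAut _ g * fieldPO _ ⟨σ, invAut_qPlus σ _⟩) ^ orderOf σ = 1) :
    (swapH h g = 1 ∧ ∃ u ∈ keep h, simAut _ g * fieldPO _ ⟨σ, invAut_qPlus σ _⟩ =
        simAut _ u * fieldPO _ ⟨σ, invAut_qPlus σ _⟩ * (simAut _ u)⁻¹) ∨
    (orderOf σ = 2 ∧ swapH h g = Multiplicative.ofAdd 1 ∧ ∃ u ∈ keep h,
        simAut _ g * fieldPO _ ⟨σ, invAut_qPlus σ _⟩ =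
        simAut _ u * (simAut _ (pSwap k F) * fieldPO _ ⟨σ, invAut_qPlus σ _⟩) * (simAut _ u)⁻¹) := by
  haveI : Finite K := Finite.of_injective j j.injective
  obtain ⟨T, c, z, R, hR, hTw, hTR⟩ := exists_twist hj h.nondeg h.five (invAut_qPlus σ _) g hpow
  rcases equiv_plus_or_minus (m := k + 1) (by simp; ring) R (polarSep_of_nondegenerate hR) with
    ⟨φ, hφ⟩ | ⟨-, ζ, φ, hζ, hφ⟩
  · left
    obtain ⟨T', z', hTw', hT'⟩ := twist_reduce hj hTw hTR (qPlus_jVec j (k + 1)) φ.symm 1 (fun v => by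
      rw [hφ, LinearEquiv.apply_symm_apply, Units.val_one, one_mul, coe_qPlus])
    obtain ⟨u, hu⟩ := twist_similar (σ := ⟨σ, invAut_qPlus σ _⟩) hTw' hT'
    obtain ⟨u', hu', e⟩ := adjust_keep h _ (simMap_pSwap k _) (swapH_pSwap h) (by rw [one_mul, mul_one]) hu
    refine ⟨(swapH_twisted h hu).trans (map_one _), u', hu', ?_⟩
    rwa [map_one, one_mul] at e
  · have hK := binForm_one_anisotropic hζ
    rcases hr.eq_two_or_odd' with h2 | hodd
    · right
      obtain ⟨θ, hθ⟩ : ∃ θ, σ θ ≠ θ := by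
        by_contra hall
        push Not at hall
        rw [show σ = 1 from RingEquiv.ext hall, orderOf_one] at h2
        omega
      have hσσ : σ (σ θ) = θ := by
        have := pow_orderOf_eq_one σ
        rw [h2, pow_two] at this
        exact DFunLike.congr_fun this θ
      obtain ⟨a₀, ha₀⟩ := (hj.fix (-(θ + σ θ))).1 (by rw [map_neg, map_add, hσσ, add_comm])
      obtain ⟨b₀, hb₀⟩ := (hj.fix (θ * σ θ)).1 (by rw [map_mul, hσσ, mul_comm])
      have hab : ∀ z₁ z₂ : K, z₁ ^ 2 + a₀ * z₁ * z₂ + b₀ * z₂ ^ 2 = 0 → z₁ = 0 ∧ z₂ = 0 := by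
        intro z₁ z₂ hz
        have hz' := congrArg j hz
        simp only [map_add, map_mul, map_pow, map_zero, ha₀, hb₀] at hz'
        have hz2 : z₂ = 0 := by
          by_contra hne
          have hne' : j z₂ ≠ 0 := (map_ne_zero j).2 hne
          have : (j z₁ - θ * j z₂) * (j z₁ - σ θ * j z₂) = 0 := by linear_combination hz'
          have hfix : σ θ = θ := by
            rcases mul_eq_zero.1 this with e | e
            · have e1 : θ = j (z₁ / z₂) := by
                rw [map_div₀, eq_div_iff hne']; linear_combination -e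
              rw [e1, hj.map]
            · have e1 : σ θ = j (z₁ / z₂) := by
                rw [map_div₀, eq_div_iff hne']; linear_combination -e
              have := congrArg σ e1
              rw [hσσ, hj.map] at this
              rw [e1, this]
          exact hθ hfix
        subst hz2
        exact ⟨by simpa using hz, rfl⟩
      obtain ⟨φ₂, hφ₂⟩ := minus_equiv_normal hζ k a₀ b₀ hab
      obtain ⟨T', z', hTw', hT'⟩ := twist_reduce hj hTw hTR (qMinus_jVec j a₀ b₀ k)
        (φ₂.trans φ.symm) 1 (fun v => by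
          rw [hφ, LinearEquiv.trans_apply, LinearEquiv.apply_symm_apply, Units.val_one, one_mul, coe_qMinus,
            hφ₂]
          rfl)
      let E := splitEquiv k (r := θ) (r' := σ θ) (Ne.symm hθ)
      have hE : ∀ v, qPlus (k + 1) F (E v) = qMinus k F (j a₀) (j b₀) v :=
        qPlus_splitEquiv (Ne.symm hθ) (by rw [ha₀, neg_neg]) hb₀.symm
      set S := E.symm.trans T'
      have hS : ∀ w, ((glEquiv (F := F) (ι := Fin (k + 1) ⊕ Fin (k + 1))).symm S :
          Matrix (Fin (k + 1) ⊕ Fin (k + 1)) (Fin (k + 1) ⊕ Fin (k + 1)) F) *ᵥ w = T' (E.symm w) := fun w => by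
        rw [← glEquiv_apply, MulEquiv.apply_symm_apply]; rfl
      let u : simG (qPlus (k + 1) F) := ⟨glEquiv.symm S, z', fun w => by
        rw [hS, hT', ← hE, LinearEquiv.apply_symm_apply]⟩
      have hu : g * simMap ⟨σ, invAut_qPlus σ _⟩ u = scalarHom _ c * (u * pSwap k F) := by
        refine simG_ext fun w => ?_
        obtain ⟨x, rfl⟩ := vec_surj σ w
        obtain ⟨v, rfl⟩ := E.surjective x
        rw [Subgroup.coe_mul, Subgroup.coe_mul, Subgroup.coe_mul, Units.val_mul, Units.val_mul, Units.val_mul,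
          ← mulVec_mulVec, ← mulVec_mulVec, ← mulVec_mulVec, coe_simMap, coe_mapGLι, vecMap_mulVec,
          scalarHom_mulVec, pSwap_split (Ne.symm hθ) hσσ, hS, hS, LinearEquiv.symm_apply_apply,
          LinearEquiv.symm_apply_apply, hTw']
      refine ⟨h2, (swapH_twisted h hu).trans (swapH_pSwap h), ?_⟩
      exact adjust_keep h _ (simMap_pSwap k _) (swapH_pSwap h) rfl hu
    · exfalso
      obtain ⟨T', z', -, hT'⟩ := twist_reduce hj hTw hTR (qMinus_jVec j 1 ζ k) φ.symm 1 (fun v => by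
        rw [hφ, LinearEquiv.apply_symm_apply, Units.val_one, one_mul, coe_qMinus]
        rfl)
      refine not_similar_minus (aniso_of_odd hj hodd hK) T'.symm (z' : F)⁻¹ fun v => ?_
      obtain ⟨w, rfl⟩ := T'.surjective v
      rw [LinearEquiv.symm_apply_apply, hT', inv_mul_cancel_left₀ z'.ne_zero]

set_option maxHeartbeats 2000000 in
theorem coset_minus [Finite F] (hj : FixHom σ j) (hodd : Odd (orderOf σ)) {k : ℕ} {a b : K}
    (hab : ∀ z₁ z₂ : K, z₁ ^ 2 + a * z₁ * z₂ + b * z₂ ^ 2 = 0 → z₁ = 0 ∧ z₂ = 0)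
    (h : EvQ (qMinus k F (j a) (j b)) (k + 1)) (g : simG (qMinus k F (j a) (j b)))
    (hpow : (simAut _ g * fieldPO _ ⟨σ, invAut_qMinus (hj.map a) (hj.map b) k⟩) ^ orderOf σ = 1) :
    swapH h g = 1 ∧ ∃ u ∈ keep h, simAut _ g * fieldPO _ ⟨σ, invAut_qMinus (hj.map a) (hj.map b) k⟩ =
      simAut _ u * fieldPO _ ⟨σ, invAut_qMinus (hj.map a) (hj.map b) k⟩ * (simAut _ u)⁻¹ := by
  haveI : Finite K := Finite.of_injective j j.injective
  obtain ⟨T, c, z, R, hR, hTw, hTR⟩ :=
    exists_twist hj h.nondeg h.five (invAut_qMinus (hj.map a) (hj.map b) k) g hpow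
  have hF := aniso_of_odd hj hodd hab
  rcases equiv_plus_or_minus (m := k + 1) (by simp; ring) R (polarSep_of_nondegenerate hR) with
    ⟨φ, hφ⟩ | ⟨-, ζ, φ, hζ, hφ⟩
  · exfalso
    obtain ⟨T', z', -, hT'⟩ := twist_reduce hj hTw hTR (qPlus_jVec j (k + 1)) φ.symm 1 (fun v => by
      rw [hφ, LinearEquiv.apply_symm_apply, Units.val_one, one_mul, coe_qPlus])
    exact not_similar_minus hF T' (z' : F) hT'
  · obtain ⟨φ₂, hφ₂⟩ := minus_equiv_normal hζ k a b hab
    obtain ⟨T', z', hTw', hT'⟩ := twist_reduce hj hTw hTR (qMinus_jVec j a b k)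
      (φ₂.trans φ.symm) 1 (fun v => by
        rw [hφ, LinearEquiv.trans_apply, LinearEquiv.apply_symm_apply, Units.val_one, one_mul, coe_qMinus,
          hφ₂]
        rfl)
    obtain ⟨u, hu⟩ := twist_similar (σ := ⟨σ, invAut_qMinus (hj.map a) (hj.map b) k⟩) hTw' hT'
    set v₀ : (Fin k ⊕ Fin k) ⊕ Fin 2 → F := Pi.single (.inr 0) 1
    have hv₀ : qMinus k F (j a) (j b) v₀ ≠ 0 := by
      rw [coe_qMinus]; simp [Cfsg.quadFormMinus, v₀]
    have hfix : vecMap σ v₀ = v₀ := funext fun s => by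
      by_cases hs : s = .inr 0 <;> simp [vecMap, v₀, hs]
    obtain ⟨u', hu', e⟩ := adjust_keep h _ (simMap_refl _ hfix) (swapH_refl h hv₀) (by rw [one_mul, mul_one]) hu
    refine ⟨(swapH_twisted h hu).trans (map_one _), u', hu', ?_⟩
    rwa [map_one, one_mul] at e

theorem coset_odd [Finite F] (hj : FixHom σ j) (h2 : (2 : F) ≠ 0) {m : ℕ} (hm : 2 ≤ m)
    (g : simG (qOdd m F))
    (hpow : (simAut _ g * fieldPO _ ⟨σ, invAut_qOdd σ m⟩) ^ orderOf σ = 1) :
    ∃ u : simG (qOdd m F), simAut _ g * fieldPO _ ⟨σ, invAut_qOdd σ m⟩ =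
      simAut _ u * fieldPO _ ⟨σ, invAut_qOdd σ m⟩ * (simAut _ u)⁻¹ := by
  haveI : Finite K := Finite.of_injective j j.injective
  obtain ⟨T, c, z, R, hR, hTw, hTR⟩ :=
    exists_twist hj (qOdd_nondeg h2 m) (by simp; omega) (invAut_qOdd σ m) g hpow
  obtain ⟨d, φ, hd, hφ⟩ := equiv_odd (m := m) (by simp; ring) R (polarSep_of_nondegenerate hR)
  obtain ⟨T', z', hTw', hT'⟩ := twist_reduce hj hTw hTR (qOdd_jVec j m)
    ((sumMapEquiv (α := Unit) (scaleLeftEquiv m d hd)).trans φ.symm) (Units.mk0 d hd) (fun v => by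
      rw [hφ, LinearEquiv.trans_apply, LinearEquiv.apply_symm_apply, coe_qOdd, Units.val_mk0]
      simp only [Cfsg.quadFormOdd, sumMapEquiv_apply, Sum.elim_inl, Sum.elim_inr]
      have := plus_scale m d hd (v ∘ Sum.inr)
      simp only [Cfsg.quadFormPlus, Function.comp] at this
      rw [show (v ∘ Sum.inl) () = v (.inl ()) from rfl, mul_add, ← this]
      )
  obtain ⟨u, hu⟩ := twist_similar (σ := ⟨σ, invAut_qOdd σ m⟩) hTw' hT'
  refine ⟨u, ?_⟩
  have := conj_semilinear _ hu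
  rwa [map_one, one_mul] at this

end Fix

end PO

end H55
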