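import Cfsg.Agent.H55.GraphClassify
import Cfsg.Agent.H55.PSLField
import Cfsg.Agent.H55.PSLGraphField

/-!
Involutory graph automorphisms of `PSL_n`.
-/

set_option autoImplicit false

namespace H55

open Matrix Cfsg

variable {n : ℕ} {F : Type*} [Field F]

theorem graph_conj (h k : GL (Fin n) F) :
    conjP k * (conjP h * iotaP) * (conjP k)⁻¹ = conjP (k * h * (itGL k)⁻¹) * iotaP := by
  rw [← map_inv conjP k, ← mul_assoc, mul_assoc _ iotaP, iotaP_conjP, map_inv itGL, ← mul_assoc,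
    ← map_mul, ← map_mul]

variable [Fintype F]

theorem conjP_eq_conjP_iff (hn : 2 ≤ n) {g h : GL (Fin n) F} :
    conjP g = conjP h ↔ ∃ c : Fˣ, (h : Mat n F) = (c : F) • (g : Mat n F) := by
  constructor
  · intro he
    obtain ⟨c, hc⟩ := (conjP_eq_one_iff hn).1
      (show conjP (g⁻¹ * h) = 1 by rw [map_mul, map_inv, he, inv_mul_cancel])
    refine ⟨c, ?_⟩
    have := congrArg Units.val (eq_mul_of_inv_mul_eq hc)
    rw [this, Units.val_mul, GeneralLinearGroup.coe_scalar, scalar_apply, ← smul_one_eq_diagonal,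
      Matrix.mul_smul, Matrix.mul_one]
  · rintro ⟨c, hc⟩
    have e : h = g * GeneralLinearGroup.scalar (Fin n) c := Units.ext (by
      rw [hc, Units.val_mul, GeneralLinearGroup.coe_scalar, scalar_apply, ← smul_one_eq_diagonal,
        Matrix.mul_smul, Matrix.mul_one])
    rw [e, map_mul, conjP_scalar, mul_one]

/-- The graph automorphisms of a given matrix. -/
def GRep (γ : MulAut (PSLn n F)) (S : Mat n F) : Prop :=
  (Sᵀ = S ∨ Sᵀ = -S) ∧ ∃ h : GL (Fin n) F, (h : Mat n F) = S ∧ γ = conjP h * iotaP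

theorem graph_sq (hn : 3 ≤ n) {h : GL (Fin n) F} :
    orderOf (conjP h * iotaP : MulAut (PSLn n F)) = 2 ↔
      ((h : Mat n F)ᵀ = h ∨ (h : Mat n F)ᵀ = -(h : Mat n F)) := by
  haveI : Fact (Nat.Prime 2) := ⟨Nat.prime_two⟩
  have hsq : (conjP h * iotaP : MulAut (PSLn n F)) ^ 2 = conjP (h * itGL h) := by
    rw [pow_two, mul_assoc, ← mul_assoc iotaP, iotaP_conjP, mul_assoc, iotaP_mul_self, mul_one, map_mul]
  have hne : (conjP h * iotaP : MulAut (PSLn n F)) ≠ 1 := fun e =>
    iotaP_ne hn h⁻¹ 1 (by rw [map_one, mul_one, map_inv]; exact eq_inv_of_mul_eq_one_right e)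
  rw [orderOf_eq_prime_iff, hsq, conjP_eq_one_iff (by omega : 2 ≤ n)]
  constructor
  · rintro ⟨⟨c, hc⟩, -⟩
    have h1 : (h : Mat n F) = (c : F) • (h : Mat n F)ᵀ := by
      have := congrArg Units.val (eq_mul_inv_of_mul_eq hc)
      rw [Units.val_mul, coe_itGL_inv, GeneralLinearGroup.coe_scalar, scalar_apply,
        ← smul_one_eq_diagonal, Matrix.smul_mul, Matrix.one_mul] at this
      exact this
    have h2 : (h : Mat n F) = ((c : F) * c) • (h : Mat n F) := by
      conv_lhs => rw [h1, h1, transpose_smul, transpose_transpose, smul_smul]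
    haveI : Nonempty (Fin n) := ⟨⟨0, by omega⟩⟩
    have hne0 : (h : Mat n F) ≠ 0 := h.isUnit.ne_zero
    have hcc : (c : F) * c = 1 := smul_left_injective F hne0 (by simpa using h2.symm)
    rcases mul_self_eq_one_iff.1 hcc with hc1 | hc1
    · exact Or.inl (by rw [hc1, one_smul] at h1; exact h1.symm)
    · exact Or.inr (by rw [hc1, neg_one_smul] at h1; exact (neg_eq_iff_eq_neg.1 h1.symm))
  · intro hs
    refine ⟨?_, hne⟩
    have key : ∀ c : Fˣ, (h : Mat n F) = (c : F) • (h : Mat n F)ᵀ →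
        h * itGL h = GeneralLinearGroup.scalar (Fin n) c := fun c hc => by
      rw [← eq_mul_inv_iff_mul_eq]
      refine Units.ext ?_
      rw [Units.val_mul, coe_itGL_inv, GeneralLinearGroup.coe_scalar, scalar_apply,
        ← smul_one_eq_diagonal, Matrix.smul_mul, Matrix.one_mul]
      exact hc
    rcases hs with hs | hs
    · exact ⟨1, key 1 (by rw [Units.val_one, one_smul, hs])⟩
    · exact ⟨-1, key (-1) (by rw [Units.val_neg, Units.val_one, neg_one_smul, hs, neg_neg])⟩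

theorem preCentralizer_graph (hn : 2 ≤ n) {h : GL (Fin n) F} :
    preCentralizer conjP (conjP h * iotaP) = simG (h : Mat n F) := by
  ext k
  rw [mem_preCentralizer, graph_conj, mul_left_inj, conjP_eq_conjP_iff hn, mem_simG]
  simp only [Units.val_mul, coe_itGL_inv]
  constructor
  · rintro ⟨c, hc⟩
    exact ⟨c⁻¹, by conv_rhs => rw [hc, smul_smul, ← Units.val_mul, inv_mul_cancel, Units.val_one, one_smul]⟩
  · rintro ⟨c, hc⟩
    exact ⟨c⁻¹, by rw [hc, smul_smul, ← Units.val_mul, inv_mul_cancel, Units.val_one, one_smul]⟩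

theorem cent_graph (hn : 2 ≤ n) (h : GL (Fin n) F) :
    Nonempty (↥(Cfsg.inndiagPSL n F ⊓ Subgroup.centralizer {conjP h * iotaP}) ≃*
      projQuot (simG (h : Mat n F))) := by
  refine nonempty_centralizer_mulEquiv conjP inndiagPSL_eq_range _ (simG (h : Mat n F)).subtype
    ((Cfsg.Geo.scalars (Fin n) F).subgroupOf (simG (h : Mat n F))) ?_ fun t => ?_
  · rw [preCentralizer_graph hn, Subgroup.range_subtype]
  · rw [conjP_eq_one_iff hn, Subgroup.mem_subgroupOf]
    exact ⟨fun ⟨c, hc⟩ => ⟨c, Units.ext (by rw [show ((t : GL (Fin n) F)) = _ from hc]; rfl)⟩,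
      fun ⟨c, hc⟩ => ⟨c, hc.symm.trans (Units.ext rfl)⟩⟩

/-- The model of involutory graph automorphisms of `PSL_n`. -/
def pslGraphModel (hn : 3 ≤ n) :
    GraphModel (MulAut (PSLn n F)) (Cfsg.inndiagPSL n F) n F Cfsg.IsGraphAutClassPSL where
  Rep := GRep
  exists_rep := by
    rintro γ ⟨-, δ, ι', hδ, hι, rfl⟩ h2
    obtain ⟨g, rfl⟩ := isInnerDiagonal_iff.1 hδ
    rw [isInverseTranspose_iff.1 hι] at h2 ⊢
    exact ⟨_, (graph_sq hn).1 h2, g, rfl, rfl⟩
  shape := by
    rintro γ S ⟨hS, h, rfl, -⟩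
    exact ⟨hS, ((Matrix.isUnit_iff_isUnit_det _).1 h.isUnit).ne_zero⟩
  realise := fun S hS hd => by
    refine ⟨conjP (GeneralLinearGroup.mkOfDetNeZero S hd) * iotaP, ?_, (graph_sq hn).2 hS, hS,
      GeneralLinearGroup.mkOfDetNeZero S hd, rfl, rfl⟩
    exact ⟨hn, conjP _, iotaP, isInnerDiagonal_iff.2 ⟨_, rfl⟩, isInverseTranspose_iff.2 rfl, rfl⟩
  conj_iff := by
    rintro γ γ' S S' ⟨-, h, rfl, rfl⟩ ⟨-, h', rfl, rfl⟩
    rw [isConjUnder_range_iff (inndiagPSL_eq_range (n := n) (F := F)), congr_iff_GL]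
    constructor
    · rintro ⟨k, hk⟩
      rw [graph_conj, mul_left_inj] at hk
      obtain ⟨c, hc⟩ := (conjP_eq_conjP_iff (by omega)).1 hk.symm
      exact ⟨k, c, by rw [hc, Units.val_mul, Units.val_mul, coe_itGL_inv]⟩
    · rintro ⟨k, c, hc⟩
      refine ⟨k, ?_⟩
      rw [graph_conj, mul_left_inj, eq_comm, conjP_eq_conjP_iff (by omega)]
      exact ⟨c, by rw [hc, Units.val_mul, Units.val_mul, coe_itGL_inv]⟩
  cent := by
    rintro γ S ⟨-, h, rfl, rfl⟩
    exact cent_graph (by omega) h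

theorem splitClassCount_graph (hn : 2 ≤ n) (h : GL (Fin n) F) :
    Cfsg.splitClassCount (Cfsg.inndiagPSL n F) (Cfsg.Inn (PSLn n F)) (conjP h * iotaP) =
      ((simG (h : Mat n F)).map GeneralLinearGroup.det).index := by
  rw [splitClassCount_eq_index conjP GeneralLinearGroup.det (det_surjective' (by omega)) _
    inndiagPSL_eq_range (by rw [Inn_eq, range_toGL]), preCentralizer_graph hn]

end H55
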