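import Cfsg.Agent.H55.PSUGraphModel

/-!
Number of classes of inner automorphisms in a class of involutory graph automorphisms of `PSU_n`.
-/

set_option autoImplicit false

namespace H55

theorem det_sim_root {K : Type*} [Field K] {ι : Type} [Fintype ι] [DecidableEq ι] [Finite K]
    (h : Odd (Fintype.card ι) ∨ CharP K 2) {D c : K} (hc : c ≠ 0) (hD : D ^ 2 = c ^ Fintype.card ι) :
    ∃ d : K, d ^ 2 = c ∧ d ^ Fintype.card ι = D := by
  rcases h with ⟨m, hm⟩ | h2
  · rw [hm] at hD ⊢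
    have hcm : c ^ m ≠ 0 := pow_ne_zero _ hc
    refine ⟨D / c ^ m, ?_, ?_⟩
    · rw [div_pow, hD, ← pow_mul, mul_comm m 2, pow_succ, mul_div_assoc]
      field_simp
    · rw [div_pow, pow_succ D, pow_mul, hD, ← pow_mul, ← pow_mul, mul_comm m]
      field_simp
  · obtain ⟨b, hb⟩ := exists_sq_eq c
    refine ⟨b, by rw [pow_two, hb], CharTwo.sq_injective ?_⟩
    show (b ^ Fintype.card ι) ^ 2 = D ^ 2
    rw [hD, ← pow_mul, mul_comm, pow_mul, pow_two, hb]

/-- A similitude of a matrix congruent to `J` has determinant the `m`-th power of its multiplier. -/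
theorem det_of_sim_J {K : Type*} [Field K] {ι : Type} [Fintype ι] [DecidableEq ι] {S : Matrix ι ι K}
    {m : ℕ} (h : Congr S (Matrix.J (Fin m) K)) {g : GL ι K} {c : K} (hc0 : c ≠ 0)
    (hc : (g : Matrix ι ι K) * S * (g : Matrix ι ι K).transpose = c • S) :
    (g : Matrix ι ι K).det = c ^ m := by
  classical
  let σ := Fintype.equivOfCardEq (card_eq_of_congr h)
  obtain ⟨P, P', c₀, hc₀, h1, h2, e⟩ := h
  let A : Matrix (Fin m ⊕ Fin m) (Fin m ⊕ Fin m) K := P * (g : Matrix ι ι K) * P'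
  have e2 : P.transpose * P'.transpose = 1 := by rw [← Matrix.transpose_mul, h2, Matrix.transpose_one]
  have hAJ : A * Matrix.J (Fin m) K * A.transpose = c • Matrix.J (Fin m) K := by
    rw [e, Matrix.mul_smul, Matrix.smul_mul, smul_comm, Matrix.transpose_mul, Matrix.transpose_mul]
    congr 1
    calc P * (g : Matrix ι ι K) * P' * (P * S * P.transpose) * (P'.transpose * ((g : Matrix ι ι K).transpose * P.transpose))
        = P * ((g : Matrix ι ι K) * ((P' * P) * S * (P.transpose * P'.transpose)) * (g : Matrix ι ι K).transpose) * P.transpose := by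
          simp only [Matrix.mul_assoc]
      _ = _ := by rw [h2, e2, Matrix.one_mul, Matrix.mul_one, hc, Matrix.mul_smul, Matrix.smul_mul]
  let Di : Matrix (Fin m ⊕ Fin m) (Fin m ⊕ Fin m) K := Matrix.fromBlocks (c⁻¹ • 1) 0 0 1
  have hs : Di * A ∈ Matrix.symplecticGroup (Fin m) K := by
    rw [SymplecticGroup.mem_iff, Matrix.transpose_mul]
    calc Di * A * Matrix.J (Fin m) K * (A.transpose * Di.transpose)
        = Di * (A * Matrix.J (Fin m) K * A.transpose) * Di.transpose := by simp only [Matrix.mul_assoc]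
      _ = _ := by
          rw [hAJ]
          simp [Di, Matrix.J, Matrix.fromBlocks_multiply, Matrix.fromBlocks_transpose,
            Matrix.fromBlocks_smul, smul_smul, hc0]
  have hd := H47.symplectic_det_one ⟨_, hs⟩
  simp only [Matrix.det_mul, Di, Matrix.det_fromBlocks_zero₁₂, Matrix.det_smul, Matrix.det_one,
    Fintype.card_fin, mul_one] at hd
  have hA : A.det = (g : Matrix ι ι K).det := by
    show (P * (g : Matrix ι ι K) * P').det = _
    rw [← Matrix.det_submatrix_equiv_self σ, ← Matrix.submatrix_mul_equiv _ _ σ (Equiv.refl _) σ,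
      ← Matrix.submatrix_mul_equiv _ _ σ (Equiv.refl _) (Equiv.refl _), Equiv.coe_refl, Matrix.det_mul,
      Matrix.det_mul, Matrix.submatrix_id_id, mul_right_comm, mul_comm (Matrix.det (P.submatrix _ _)),
      ← Matrix.det_mul, ← Matrix.submatrix_mul _ _ _ _ _ σ.bijective, h2, Matrix.submatrix_id_id,
      Matrix.det_one, one_mul]
  rw [hA, inv_pow, inv_mul_eq_iff_eq_mul₀ (pow_ne_zero _ hc0), mul_one] at hd
  exact hd

namespace Psu

open Matrix
open H50 (suMat guMat IsHyp)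

variable {F : Type*} [Field F] [Fintype F] {n q : ℕ}

/-- The unitary scalars. -/
def normOne (F : Type*) [Field F] (q : ℕ) : Subgroup Fˣ := (powMonoidHom (q + 1) : Fˣ →* Fˣ).ker

theorem mem_normOne {u : Fˣ} : u ∈ normOne F q ↔ (u : F) * (u : F) ^ q = 1 := by
  rw [normOne, MonoidHom.mem_ker, powMonoidHom_apply, Units.ext_iff, Units.val_pow_eq_pow_val,
    pow_succ', Units.val_one]

variable (hF : Fintype.card F = q ^ 2)
include hF

theorem index_powU (k : ℕ) :
    (powMonoidHom k : normOne F q →* normOne F q).range.index = Nat.gcd k (q + 1) := by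
  rw [← sup_bot_eq (powMonoidHom k : normOne F q →* normOne F q).range, index_pow_sup,
    Subgroup.index_bot]
  exact congrArg (Nat.gcd k) (H50.natCard_norm_ker hF)

theorem neg_one_mem_normOne : (-1 : Fˣ) ∈ normOne F q := by
  rw [mem_normOne, Units.val_neg, Units.val_one, ← qEquiv_apply hF, map_neg, map_one, neg_mul_neg, one_mul]

theorem index_powU_sup (h2 : (2 : F) ≠ 0) (m : ℕ) :
    ((powMonoidHom m : normOne F q →* normOne F q).range ⊔
      Subgroup.zpowers ⟨-1, neg_one_mem_normOne hF⟩).index = Nat.gcd (2 * m) (q + 1) / 2 := by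
  rw [index_pow_sup]
  have h := Subgroup.card_mul_index (Subgroup.zpowers (⟨-1, neg_one_mem_normOne hF⟩ : normOne F q))
  have hcard : Nat.card (normOne F q) = q + 1 := H50.natCard_norm_ker hF
  rw [Nat.card_zpowers, ← Subgroup.orderOf_coe, ← orderOf_units] at h
  have ho : orderOf ((-1 : Fˣ) : F) = 2 := by
    rw [Units.val_neg, Units.val_one, orderOf_neg_one, if_neg]
    intro hc
    haveI := ringChar.charP F
    exact h2 (by exact_mod_cast (hc ▸ (CharP.cast_eq_zero F (ringChar F))))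
  rw [ho, hcard] at h
  rw [← h, Nat.gcd_mul_left, Nat.mul_div_cancel_left _ (by norm_num : 0 < 2)]

/-- The determinant on the unitary group. -/
noncomputable def detNormOne (hn : 0 < n) : Cfsg.GU n F q →* normOne F q :=
  H50.detGU.codRestrict _ fun g => by
    rw [normOne, ← H50.detGU_range hF hn]
    exact ⟨g, rfl⟩

theorem coe_detNormOne (hn : 0 < n) (g : Cfsg.GU n F q) :
    (((detNormOne hF hn g : normOne F q) : Fˣ) : F) = (guMat g).det := rfl

theorem detNormOne_scU (hn : 0 < n) (u : normOne F q) :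
    detNormOne hF hn (scU hF (u : Fˣ) (mem_normOne.1 u.2)) = u ^ n := by
  refine Subtype.ext (Units.ext ?_)
  rw [coe_detNormOne]
  show ((GeneralLinearGroup.scalar (Fin n) (u : Fˣ) : GL (Fin n) F) : Mat n F).det = _
  simp

theorem splitClassCount_psu (hn : 3 ≤ n) (x : MulAut (Cfsg.PSU n F q)) :
    Cfsg.splitClassCount (Cfsg.inndiagPSU n F q) (Cfsg.Inn (Cfsg.PSU n F q)) x =
      ((preCentralizer conjPu x).map (detNormOne hF (by omega : 0 < n))).index := by
  have hn0 : 0 < n := by omega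
  set detU := detNormOne (n := n) hF hn0
  have hdsurj : Function.Surjective detU := by
    rintro ⟨u, hu⟩
    rw [normOne, ← H50.detGU_range hF hn0] at hu
    obtain ⟨g, hg⟩ := hu
    exact ⟨g, Subtype.ext hg⟩
  set P : Subgroup (normOne F q) := (powMonoidHom n : normOne F q →* normOne F q).range
  have hsurj : Function.Surjective ((QuotientGroup.mk' P).comp detU) :=
    (QuotientGroup.mk'_surjective P).comp hdsurj
  have hker : ((QuotientGroup.mk' P).comp detU).ker = P.comap detU := by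
    rw [← MonoidHom.comap_ker, QuotientGroup.ker_mk']
  have hInn : Cfsg.Inn (Cfsg.PSU n F q) = (P.comap detU).map conjPu := by
    apply le_antisymm
    · rintro _ ⟨y, rfl⟩
      obtain ⟨s, rfl⟩ := umk_surjective y
      refine ⟨_, ⟨1, ?_⟩, toGU_conj hF s⟩
      refine Subtype.ext (Units.ext ?_)
      rw [coe_detNormOne]
      exact (by simp : ((((powMonoidHom n : normOne F q →* normOne F q) 1 : normOne F q) : Fˣ) : F) = 1).trans s.1.2.symm
    · rintro _ ⟨g, ⟨w, hw⟩, rfl⟩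
      set g' : Cfsg.GU n F q := scU hF ((w⁻¹ : normOne F q) : Fˣ) (mem_normOne.1 (w⁻¹).2) * g
      have hd : detU g' = 1 := by
        rw [map_mul, detNormOne_scU hF hn0, ← hw, powMonoidHom_apply, inv_pow, inv_mul_cancel]
      have hdet : (guMat g').det = 1 := by rw [← coe_detNormOne hF hn0, hd]; simp
      refine ⟨umk ⟨⟨guMat g', hdet⟩, g'.2⟩, ?_⟩
      rw [show MulAut.conj (umk (⟨⟨guMat g', hdet⟩, g'.2⟩ : Cfsg.SU n F q)) = conjPu g' from
        (toGU_conj hF _).symm.trans (congrArg conjPu (H50.GU_ext rfl)), map_mul,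
        conjPu_of_scalar hF (g := scU hF _ _) rfl, one_mul]
  have hle : P ≤ (preCentralizer conjPu x).map detU := by
    rintro _ ⟨u, rfl⟩
    refine ⟨scU hF (u : Fˣ) (mem_normOne.1 u.2), ?_, detNormOne_scU hF hn0 u⟩
    rw [SetLike.mem_coe, mem_preCentralizer, conjPu_of_scalar hF (g := scU hF _ _) rfl, one_mul, inv_one, mul_one]
  rw [splitClassCount_eq_index conjPu _ hsurj _ inndiagPSU_eq_range (by rw [hker]; exact hInn),
    ← Subgroup.map_map, Subgroup.index_map, QuotientGroup.ker_mk',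
    MonoidHom.range_eq_top.2 (QuotientGroup.mk'_surjective P), Subgroup.index_top, mul_one,
    sup_eq_left.2 hle]

variable {F₀ : Type*} [Field F₀] {f : F₀ →+* F} (hfix : ∀ x, qEquiv hF x = x ↔ x ∈ f.range)
include hfix

theorem det_of_pre (hn : 3 ≤ n) {A : Cfsg.GU n F q} {S : Mat n F₀} (r : URep hF f (guMat A) S)
    {h : Cfsg.GU n F q} {M : GL (Fin n) F₀} {w : F}
    (hk : guMat h * (r.k : Mat n F) = w • ((r.k : Mat n F) * ((invTr M : GL (Fin n) F₀) : Mat n F₀).map f)) :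
    (guMat h).det = w ^ n / f (M : Mat n F₀).det := by
  have e := congrArg Matrix.det hk
  rw [det_mul, det_smul, det_mul, map_det_f, Fintype.card_fin] at e
  have hk0 : (r.k : Mat n F).det ≠ 0 := ((Matrix.isUnit_iff_isUnit_det _).1 r.k.isUnit).ne_zero
  have hM : ((invTr M : GL (Fin n) F₀) : Mat n F₀).det = ((M : Mat n F₀).det)⁻¹ := by
    show (((M⁻¹ : GL (Fin n) F₀) : Mat n F₀)ᵀ).det = _
    rw [det_transpose]
    refine eq_inv_of_mul_eq_one_left ?_
    rw [← det_mul, ← Units.val_mul, inv_mul_cancel, Units.val_one, det_one]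
  rw [hM, map_inv₀] at e
  apply mul_right_cancel₀ hk0
  rw [e]
  ring

theorem exists_of_mult (hn : 3 ≤ n) {A : Cfsg.GU n F q} {S : Mat n F₀} (r : URep hF f (guMat A) S)
    (hS0 : S.det ≠ 0) (M : GL (Fin n) F₀) (c : F₀ˣ)
    (hM : (M : Mat n F₀) * S * (M : Mat n F₀)ᵀ = (c : F₀) • S) {w : F} (hw : w ≠ 0)
    (hwc : f c = w * qEquiv hF w) :
    ∃ h ∈ preCentralizer conjPu (conjPu A * fieldPu (qEquiv hF)),
      (guMat h).det = w ^ n / f (M : Mat n F₀).det := by
  have hMi : ((M⁻¹ : GL (Fin n) F₀) : Mat n F₀) * (M : Mat n F₀) = 1 := by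
    rw [← Units.val_mul, inv_mul_cancel, Units.val_one]
  obtain ⟨h, -, -, hk⟩ := backward hF hfix r r (invTr M) (e := (c : F₀)) hw
    (by rw [hwc, mul_comm]) (by
      show S = (c : F₀) • ((((M⁻¹ : GL (Fin n) F₀) : Mat n F₀)ᵀ)ᵀ * S * ((M⁻¹ : GL (Fin n) F₀) : Mat n F₀)ᵀ)
      rw [transpose_transpose, ← Matrix.smul_mul, ← Matrix.mul_smul, ← hM, ← Matrix.mul_assoc,
        ← Matrix.mul_assoc, hMi, Matrix.one_mul, Matrix.mul_assoc, ← transpose_mul, hMi, transpose_one,
        Matrix.mul_one])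
  exact ⟨h, (preCentralizer_graphU hF hfix hn r hS0 h).2 ⟨M, c, w, hw, hwc, hM, hk⟩, det_of_pre hF hfix hn r hk⟩

theorem det_pre_root [Finite F₀] (hn : 3 ≤ n) {A : Cfsg.GU n F q} {S : Mat n F₀}
    (r : URep hF f (guMat A) S) (hS0 : S.det ≠ 0) (hcase : Odd n ∨ CharP F₀ 2) :
    (preCentralizer conjPu (conjPu A * fieldPu (qEquiv hF))).map (detNormOne hF (by omega : 0 < n)) =
      (powMonoidHom n : normOne F q →* normOne F q).range := by
  apply le_antisymm
  · rintro _ ⟨h, hh, rfl⟩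
    obtain ⟨M, c, w, hw, hwc, hM, hk⟩ := (preCentralizer_graphU hF hfix hn r hS0 h).1 hh
    obtain ⟨d, hd2, hdn⟩ := det_sim_root (ι := Fin n) (by rwa [Fintype.card_fin]) c.ne_zero
      (det_sq_of_sim hS0 hM)
    rw [Fintype.card_fin] at hdn
    have hfd : f d ≠ 0 := (map_ne_zero f).2 fun h0 => c.ne_zero (by rw [← hd2, h0, zero_pow two_ne_zero])
    refine ⟨⟨Units.mk0 (w / f d) (div_ne_zero hw hfd), ?_⟩, Subtype.ext (Units.ext ?_)⟩
    · rw [mem_normOne, Units.val_mk0, ← qEquiv_apply hF, map_div₀, (hfix (f d)).2 ⟨d, rfl⟩,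
        div_mul_div_comm, ← hwc, ← map_mul, ← pow_two, hd2, div_self ((map_ne_zero f).2 c.ne_zero)]
    · show (w / f d) ^ n = _
      rw [coe_detNormOne, det_of_pre hF hfix hn r hk, ← hdn, map_pow, div_pow]
  · rintro _ ⟨u, rfl⟩
    refine ⟨scU hF (u : Fˣ) (mem_normOne.1 u.2), ?_, detNormOne_scU hF (by omega) u⟩
    rw [SetLike.mem_coe, mem_preCentralizer, conjPu_of_scalar hF (g := scU hF _ _) rfl, one_mul, inv_one, mul_one]

theorem div_norm_pow {w : F} {c : F₀} (hw : w ≠ 0) (hwc : f c = w * qEquiv hF w) (m k : ℕ)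
    (hk : k = 2 * m) : w ^ k / f (c ^ m) = (w / qEquiv hF w) ^ m := by
  rw [hk, map_pow, hwc, div_pow, mul_pow, pow_mul, pow_two, mul_pow,
    mul_div_mul_left _ _ (pow_ne_zero _ hw)]

theorem exists_w (u : normOne F q) :
    ∃ (w : F) (c : F₀ˣ), w ≠ 0 ∧ f c = w * qEquiv hF w ∧ w / qEquiv hF w = ((u : Fˣ) : F) := by
  have hu : ((u : Fˣ) : F) * qEquiv hF ((u : Fˣ) : F) = 1 := mem_normOne.1 u.2
  obtain ⟨w, hw, hwu⟩ := exists_hilbert90 hF _ hu
  have hw' : qEquiv hF w ≠ 0 := (map_ne_zero _).2 hw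
  obtain ⟨c, hc⟩ := (hfix (w * qEquiv hF w)).1 (by rw [map_mul, qEquiv_qEquiv hF, mul_comm])
  have hc0 : c ≠ 0 := fun h0 => mul_ne_zero hw hw' (by rw [← hc, h0, map_zero])
  refine ⟨w, Units.mk0 c hc0, hw, hc, ?_⟩
  rw [div_eq_iff hw', hwu]

theorem det_pre_skew [Fintype F₀] (hn : 3 ≤ n) {A : Cfsg.GU n F q} {S : Mat n F₀}
    (r : URep hF f (guMat A) S) (hS0 : S.det ≠ 0) {m : ℕ} (hnm : n = 2 * m)
    (hJ : Congr S (Matrix.J (Fin m) F₀)) :
    (preCentralizer conjPu (conjPu A * fieldPu (qEquiv hF))).map (detNormOne hF (by omega : 0 < n)) =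
      (powMonoidHom m : normOne F q →* normOne F q).range := by
  apply le_antisymm
  · rintro _ ⟨h, hh, rfl⟩
    obtain ⟨M, c, w, hw, hwc, hM, hk⟩ := (preCentralizer_graphU hF hfix hn r hS0 h).1 hh
    have hw' : qEquiv hF w ≠ 0 := (map_ne_zero _).2 hw
    refine ⟨⟨Units.mk0 (w / qEquiv hF w) (div_ne_zero hw hw'), ?_⟩, Subtype.ext (Units.ext ?_)⟩
    · rw [mem_normOne, Units.val_mk0, ← qEquiv_apply hF, map_div₀, qEquiv_qEquiv hF]
      field_simp
    · show (w / qEquiv hF w) ^ m = _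
      rw [coe_detNormOne, det_of_pre hF hfix hn r hk, det_of_sim_J hJ c.ne_zero hM,
        div_norm_pow hF hfix hw hwc m n hnm]
  · rintro _ ⟨u, rfl⟩
    obtain ⟨w, c, hw, hwc, hu⟩ := exists_w hF hfix u
    obtain ⟨M, hM, -⟩ : ∃ M : GL (Fin n) F₀, (M : Mat n F₀) * S * (M : Mat n F₀)ᵀ = (c : F₀) • S ∧ True := by
      obtain ⟨j, hj, -⟩ := exists_multiplier_J m c
      obtain ⟨P, P', c₀, hc₀, h1, h2, e⟩ := hJ.symm
      refine ⟨conjRect P P' h1 h2 j, ?_, trivial⟩
      show P * (j : Matrix (Fin m ⊕ Fin m) (Fin m ⊕ Fin m) F₀) * P' * S * (P * (j : Matrix (Fin m ⊕ Fin m) (Fin m ⊕ Fin m) F₀) * P')ᵀ = _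
      have e2 : Pᵀ * P'ᵀ = 1 := by rw [← transpose_mul, h2, transpose_one]
      rw [e, Matrix.mul_smul, Matrix.smul_mul, smul_comm, transpose_mul, transpose_mul]
      congr 1
      calc P * (j : Matrix (Fin m ⊕ Fin m) (Fin m ⊕ Fin m) F₀) * P' * (P * Matrix.J (Fin m) F₀ * Pᵀ) * (P'ᵀ * ((j : Matrix (Fin m ⊕ Fin m) (Fin m ⊕ Fin m) F₀)ᵀ * Pᵀ))
          = P * ((j : Matrix (Fin m ⊕ Fin m) (Fin m ⊕ Fin m) F₀) * ((P' * P) * Matrix.J (Fin m) F₀ * (Pᵀ * P'ᵀ)) * (j : Matrix (Fin m ⊕ Fin m) (Fin m ⊕ Fin m) F₀)ᵀ) * Pᵀ := by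
            simp only [Matrix.mul_assoc]
        _ = _ := by rw [h2, e2, Matrix.one_mul, Matrix.mul_one, hj, Matrix.mul_smul, Matrix.smul_mul]
    obtain ⟨h, hh, hdet⟩ := exists_of_mult hF hfix hn r hS0 M c hM hw hwc
    refine ⟨h, hh, Subtype.ext (Units.ext ?_)⟩
    show _ = ((u : Fˣ) : F) ^ m
    rw [coe_detNormOne, hdet, det_of_sim_J hJ c.ne_zero hM, div_norm_pow hF hfix hw hwc m n hnm, hu]

theorem det_pre_symm [Fintype F₀] (hodd : Odd (Fintype.card F₀)) (hn : 3 ≤ n) {A : Cfsg.GU n F q}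
    {S : Mat n F₀} (r : URep hF f (guMat A) S) (hS : Sᵀ = S) (hS0 : S.det ≠ 0) {m : ℕ} (hnm : n = 2 * m) :
    (preCentralizer conjPu (conjPu A * fieldPu (qEquiv hF))).map (detNormOne hF (by omega : 0 < n)) =
      (powMonoidHom m : normOne F q →* normOne F q).range ⊔
        Subgroup.zpowers ⟨-1, neg_one_mem_normOne hF⟩ := by
  haveI : Nonempty (Fin n) := ⟨⟨0, by omega⟩⟩
  set N : normOne F q := ⟨-1, neg_one_mem_normOne hF⟩ with hN
  have hsq : ∀ {M : GL (Fin n) F₀} {c : F₀}, (M : Mat n F₀) * S * (M : Mat n F₀)ᵀ = c • S →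
      (M : Mat n F₀).det = c ^ m ∨ (M : Mat n F₀).det = -(c ^ m) := by
    intro M c hM
    have h2 := det_sq_of_sim hS0 hM
    have e : c ^ n = (c ^ m) ^ 2 := by
      rw [← pow_mul]; exact congrArg (c ^ ·) (by omega)
    rw [Fintype.card_fin, e] at h2
    exact sq_eq_sq_iff_eq_or_eq_neg.1 h2
  have hcalc : ∀ {w : F} {c : F₀}, w ≠ 0 → f c = w * qEquiv hF w →
      w ^ n / f (c ^ m) = (w / qEquiv hF w) ^ m := fun hw hwc => div_norm_pow hF hfix hw hwc m n hnm
  apply le_antisymm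
  · rintro _ ⟨h, hh, rfl⟩
    obtain ⟨M, c, w, hw, hwc, hM, hk⟩ := (preCentralizer_graphU hF hfix hn r hS0 h).1 hh
    have hw' : qEquiv hF w ≠ 0 := (map_ne_zero _).2 hw
    let u : normOne F q := ⟨Units.mk0 (w / qEquiv hF w) (div_ne_zero hw hw'), by
      rw [mem_normOne, Units.val_mk0, ← qEquiv_apply hF, map_div₀, qEquiv_qEquiv hF]
      field_simp⟩
    rcases hsq hM with h3 | h3
    · refine Subgroup.mem_sup_left ⟨u, Subtype.ext (Units.ext ?_)⟩
      rw [coe_detNormOne, det_of_pre hF hfix hn r hk, h3, hcalc hw hwc]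
      rfl
    · rw [show detNormOne hF (by omega : 0 < n) h = u ^ m * N from Subtype.ext (Units.ext (by
        rw [coe_detNormOne, det_of_pre hF hfix hn r hk, h3, map_neg, div_neg, hcalc hw hwc]
        simp [u, hN]))]
      exact mul_mem (Subgroup.mem_sup_left ⟨u, rfl⟩) (Subgroup.mem_sup_right (Subgroup.mem_zpowers _))
  · obtain ⟨R, hR, hRd⟩ := exists_reflection (two_ne_of_odd hodd) hS hS0
    obtain ⟨hr, hrmem, hrdet⟩ := exists_of_mult hF hfix hn r hS0 R 1 (by rw [Units.val_one, one_smul, hR])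
      (w := 1) one_ne_zero (by rw [Units.val_one, map_one, map_one, mul_one])
    have hNmem : N ∈ (preCentralizer conjPu (conjPu A * fieldPu (qEquiv hF))).map (detNormOne hF (by omega : 0 < n)) :=
      ⟨hr, hrmem, Subtype.ext (Units.ext (by
        rw [coe_detNormOne, hrdet, hRd, one_pow, map_neg, map_one]; simp [hN]))⟩
    refine sup_le ?_ (Subgroup.zpowers_le.2 hNmem)
    rintro _ ⟨u, rfl⟩
    obtain ⟨w, c, hw, hwc, hu⟩ := exists_w hF hfix u
    obtain ⟨M, hM⟩ := exists_multiplier_symm hodd hS hS0 (by simp [hnm]) c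
    obtain ⟨h, hh, hdet⟩ := exists_of_mult hF hfix hn r hS0 M c hM hw hwc
    rcases hsq hM with h3 | h3
    · refine ⟨h, hh, Subtype.ext (Units.ext ?_)⟩
      rw [coe_detNormOne, hdet, h3, hcalc hw hwc, hu]
      rfl
    · have e : detNormOne hF (by omega : 0 < n) h * N = (powMonoidHom m : normOne F q →* normOne F q) u :=
        Subtype.ext (Units.ext (by
          show (((detNormOne hF (by omega : 0 < n) h : normOne F q) : Fˣ) : F) * (((N : normOne F q) : Fˣ) : F) = _
          rw [coe_detNormOne, hdet, h3, map_neg, div_neg, hcalc hw hwc, hu]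
          simp [hN]))
      rw [← e]
      exact mul_mem (Subgroup.mem_map_of_mem _ hh) hNmem

end Psu

end H55
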