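import Cfsg.Agent.H55.G2Inv
import Cfsg.Agent.H18.SquaresG2

/-!
The centraliser of an involution in the automorphism group of the split octonions, odd characteristic.
-/

set_option autoImplicit false
set_option linter.unusedSectionVars false

namespace H55.G2

open Cfsg.Lie H18 Matrix

variable {F : Type*} [Field F]

/-- An automorphism read on pairs of two by two matrices. -/
noncomputable def octLin (g : G2 F) : OctPair F →ₗ[F] OctPair F :=
  octEquiv.symm.toLinearMap.comp ((g2Lin g).comp octEquiv.toLinearMap)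

theorem octLin_mul (g h : G2 F) (p : OctPair F) : octLin (g * h) p = octLin g (octLin h p) := by
  show octEquiv.symm (g2App (g * h) (octEquiv p)) =
    octEquiv.symm (g2App g (octEquiv (octEquiv.symm (g2App h (octEquiv p)))))
  rw [LinearEquiv.apply_symm_apply, g2App_mul]

theorem octLin_one (p : OctPair F) : octLin (1 : G2 F) p = p := by
  show octEquiv.symm (g2App 1 (octEquiv p)) = p
  rw [g2App_one, LinearEquiv.symm_apply_apply]

theorem octLin_octMul (g : G2 F) (p q : OctPair F) :
    octLin g (octMul p q) = octMul (octLin g p) (octLin g q) := by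
  apply octEquiv.injective
  show octEquiv (octEquiv.symm (g2App g (octEquiv (octMul p q)))) = octEquiv (octMul _ _)
  rw [LinearEquiv.apply_symm_apply, octEquiv_mul, g2App_zornMul, octEquiv_mul]
  show _ = zornMul (octEquiv (octEquiv.symm _)) (octEquiv (octEquiv.symm _))
  rw [LinearEquiv.apply_symm_apply, LinearEquiv.apply_symm_apply]
  rfl

theorem octLin_ext {g h : G2 F} (e : ∀ p, octLin g p = octLin h p) : g = h := g2App_ext fun v => by
  have := congrArg octEquiv (e (octEquiv.symm v))
  simpa [octLin, g2Lin] using this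

theorem octLin_pair (p : detPair F) (x : OctPair F) : octLin (pairHom p) x =
    pairFun (p : GL (Fin 2) F × GL (Fin 2) F).1 (p : GL (Fin 2) F × GL (Fin 2) F).2 x := by
  show octEquiv.symm (g2App (pairHom p) (octEquiv x)) = _
  rw [g2App, pairHom_mulVec, LinearEquiv.symm_apply_apply, LinearEquiv.symm_apply_apply]

/-- The pair with factors `±1`. -/
noncomputable def negPair (F : Type*) [Field F] : detPair F :=
  ⟨(1, -1), (mem_detPair _).2 (by simp [det_fin_two])⟩

/-- The involution attached to the quaternion subalgebra. -/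
noncomputable def quatInv (F : Type*) [Field F] : G2 F := pairHom (negPair F)

theorem octLin_quatInv (x : OctPair F) : octLin (quatInv F) x = (x.1, -x.2) := by
  rw [quatInv, octLin_pair]
  refine Prod.ext ?_ ?_ <;> simp [negPair, pairFun]

theorem quatInv_sq : quatInv F * quatInv F = 1 := by
  rw [quatInv, ← map_mul]
  rw [show negPair F * negPair F = 1 from Subtype.ext (Prod.ext (one_mul _) (by simp [negPair]))]
  exact map_one _

theorem quatInv_ne_one (h2 : (2 : F) ≠ 0) : quatInv F ≠ 1 := by
  intro e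
  have := octLin_quatInv (F := F) (0, 1)
  rw [e, octLin_one] at this
  have h := congrFun (congrFun (congrArg Prod.snd this) 0) 0
  exact h2 (by simp at h; linear_combination h)

theorem orderOf_quatInv (h2 : (2 : F) ≠ 0) : orderOf (quatInv F) = 2 :=
  orderOf_eq_prime (by rw [pow_two]; exact quatInv_sq) (quatInv_ne_one h2)

theorem exists_conjugator (φ : Matrix (Fin 2) (Fin 2) F →ₗ[F] Matrix (Fin 2) (Fin 2) F)
    (hmul : ∀ U V, φ (U * V) = φ U * φ V) (hinj : Function.Injective φ) :
    ∃ h : GL (Fin 2) F, ∀ U, φ U * (h : Matrix (Fin 2) (Fin 2) F) = (h : Matrix (Fin 2) (Fin 2) F) * U := by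
  let E : Fin 2 → Fin 2 → Matrix (Fin 2) (Fin 2) F := fun i j => φ (Matrix.single i j 1)
  have hE : ∀ i j k l, E i j * E k l = if j = k then E i l else 0 := by
    intro i j k l
    show φ _ * φ _ = _
    rw [← hmul]
    split_ifs with h
    · subst h; rw [Matrix.single_mul_single_same, mul_one]
    · rw [Matrix.single_mul_single_of_ne _ _ _ _ h, map_zero]
  obtain ⟨w, hw⟩ : ∃ w, E 0 0 *ᵥ w ≠ 0 := by
    by_contra hc
    push Not at hc
    have h0 : E 0 0 = φ 0 := by
      rw [map_zero]
      apply Matrix.ext_of_mulVec_single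
      intro i; rw [hc, Matrix.zero_mulVec]
    have := congrFun (congrFun (hinj h0) 0) 0
    simp at this
  set v := E 0 0 *ᵥ w
  let H : Matrix (Fin 2) (Fin 2) F := Matrix.of fun a b => (E b 0 *ᵥ v) a
  have hcol : ∀ b, H *ᵥ Pi.single b 1 = E b 0 *ᵥ v := fun b => by
    rw [Matrix.mulVec_single_one]; rfl
  have hEv : ∀ i j b, E i j *ᵥ (E b 0 *ᵥ v) = if j = b then E i 0 *ᵥ v else 0 := fun i j b => by
    rw [Matrix.mulVec_mulVec, hE]; split_ifs <;> simp
  have hv0 : E 0 0 *ᵥ v = v := by
    show E 0 0 *ᵥ (E 0 0 *ᵥ w) = _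
    rw [Matrix.mulVec_mulVec, hE, if_pos rfl]
  have hH : Function.Injective H.mulVec := by
    intro x y e
    funext b
    have e1 := congrArg (fun z => E 0 b *ᵥ z) e
    have key : ∀ x : Fin 2 → F, E 0 b *ᵥ (H *ᵥ x) = x b • v := fun x => by
      have hx : x = x 0 • Pi.single 0 1 + x 1 • Pi.single 1 1 := by
        funext i; fin_cases i <;> simp
      conv_lhs => rw [hx, Matrix.mulVec_add, Matrix.mulVec_smul, Matrix.mulVec_smul, hcol, hcol,
        Matrix.mulVec_add, Matrix.mulVec_smul, Matrix.mulVec_smul, hEv, hEv, hv0]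
      fin_cases b <;> simp
    simp only [key] at e1
    exact smul_left_injective F hw e1
  have hu : IsUnit H := Matrix.mulVec_injective_iff_isUnit.1 hH
  refine ⟨hu.unit, fun U => ?_⟩
  show φ U * H = H * U
  have hbasis : ∀ i j, φ (Matrix.single i j 1) * H = H * Matrix.single i j 1 := by
    intro i j
    apply Matrix.ext_of_mulVec_single
    intro b
    rw [← Matrix.mulVec_mulVec, hcol, ← Matrix.mulVec_mulVec, hEv]
    split_ifs with h
    · subst h
      have : Matrix.single i j (1 : F) *ᵥ Pi.single j 1 = Pi.single i 1 := by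
        funext a; simp [Matrix.mulVec_single_one, Matrix.single_apply, Pi.single_apply, eq_comm]
      rw [this, hcol]
    · have : Matrix.single i j (1 : F) *ᵥ Pi.single b 1 = 0 := by
        funext a; simp [Matrix.mulVec_single_one, Matrix.single_apply, h]
      rw [this, Matrix.mulVec_zero]
  have hd : U = U 0 0 • Matrix.single 0 0 1 + U 0 1 • Matrix.single 0 1 1 + U 1 0 • Matrix.single 1 0 1 +
      U 1 1 • Matrix.single 1 1 1 := by
    ext a b; fin_cases a <;> fin_cases b <;> simp
  rw [hd, map_add, map_add, map_add, map_smul, map_smul, map_smul, map_smul, Matrix.add_mul, Matrix.add_mul,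
    Matrix.add_mul, Matrix.smul_mul, Matrix.smul_mul, Matrix.smul_mul, Matrix.smul_mul, hbasis, hbasis, hbasis,
    hbasis, Matrix.mul_add, Matrix.mul_add, Matrix.mul_add, Matrix.mul_smul, Matrix.mul_smul, Matrix.mul_smul,
    Matrix.mul_smul]

theorem mem_range_of_comm (h2 : (2 : F) ≠ 0) {g : G2 F} (hg : g * quatInv F = quatInv F * g) :
    g ∈ (pairHom (F := F)).range := by
  have hcomm : ∀ x, octLin g (x.1, -x.2) = ((octLin g x).1, -(octLin g x).2) := fun x => by
    rw [← octLin_quatInv x, ← octLin_mul, hg, octLin_mul, octLin_quatInv]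
  have hfirst : ∀ U : Matrix (Fin 2) (Fin 2) F, (octLin g (U, 0)).2 = 0 := fun U => by
    have := congrArg Prod.snd (hcomm (U, 0))
    simp only [neg_zero] at this
    have e : (2 : F) • (octLin g (U, 0)).2 = 0 := by
      rw [two_smul]
      exact eq_neg_iff_add_eq_zero.1 this
    exact (smul_eq_zero.1 e).resolve_left h2
  have hsecond : ∀ V : Matrix (Fin 2) (Fin 2) F, (octLin g (0, V)).1 = 0 := fun V => by
    have := congrArg Prod.fst (hcomm (0, V))
    rw [show ((0 : Matrix (Fin 2) (Fin 2) F), -V) = -(((0 : Matrix (Fin 2) (Fin 2) F), V) : OctPair F) from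
      Prod.ext (neg_zero).symm rfl, map_neg, Prod.fst_neg] at this
    have e : (2 : F) • (octLin g (0, V)).1 = 0 := by
      rw [two_smul]
      exact eq_neg_iff_add_eq_zero.1 this.symm
    exact (smul_eq_zero.1 e).resolve_left h2
  let φ : Matrix (Fin 2) (Fin 2) F →ₗ[F] Matrix (Fin 2) (Fin 2) F :=
    (LinearMap.fst F _ _).comp ((octLin g).comp (LinearMap.inl F _ _))
  have hφ : ∀ U, octLin g (U, 0) = (φ U, 0) := fun U => Prod.ext rfl (hfirst U)
  have hmul : ∀ U V, φ (U * V) = φ U * φ V := by
    intro U V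
    have h := octLin_octMul g (V, 0) (U, 0)
    rw [hφ, hφ, show octMul (V, 0) (U, 0) = ((U * V, 0) : OctPair F) by simp [octMul], hφ] at h
    simpa [octMul] using congrArg Prod.fst h
  have hinjg : Function.Injective (octLin g) := fun a b e => by
    have := congrArg (octLin g⁻¹) e
    rwa [← octLin_mul, ← octLin_mul, inv_mul_cancel, octLin_one, octLin_one] at this
  have hinj : Function.Injective φ := fun U V e => by
    have := hinjg (a₁ := (U, 0)) (a₂ := (V, 0)) (by rw [hφ, hφ, e])
    exact congrArg Prod.fst this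
  obtain ⟨h, hh⟩ := exists_conjugator φ hmul hinj
  let P : detPair F := ⟨(h, h), (mem_detPair _).2 rfl⟩
  set g' := (pairHom P)⁻¹ * g
  have hP : ∀ U, octLin (pairHom P) (U, 0) = (φ U, 0) := fun U => by
    rw [octLin_pair]
    refine Prod.ext ?_ (by simp [pairFun])
    show (h : Matrix (Fin 2) (Fin 2) F) * U * ((h⁻¹ : GL (Fin 2) F) : Matrix (Fin 2) (Fin 2) F) = φ U
    rw [← hh, Matrix.mul_assoc, ← Units.val_mul, mul_inv_cancel, Units.val_one, Matrix.mul_one]
  have hfix : ∀ U, octLin g' (U, 0) = (U, 0) := fun U => by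
    rw [octLin_mul, hφ, ← hP, ← octLin_mul, inv_mul_cancel, octLin_one]
  have hsnd : ∀ V, (octLin g' (0, V)).1 = 0 := fun V => by
    rw [octLin_mul, show octLin g (0, V) = (0, (octLin g (0, V)).2) from Prod.ext (hsecond V) rfl, ← map_inv,
      octLin_pair]
    simp [pairFun]
  set u := (octLin g' (0, 1)).2
  have hu : octLin g' (0, 1) = (0, u) := Prod.ext (hsnd 1) rfl
  have hV : ∀ V, octLin g' (0, V) = (0, V * u) := fun V => by
    have h := octLin_octMul g' (V, 0) (0, 1)
    rw [hfix, hu, show octMul (V, 0) (0, 1) = ((0, V) : OctPair F) by simp [octMul]] at h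
    rw [h]
    simp [octMul]
  have hdet : u.det = 1 := by
    have h := octLin_octMul g' (0, 1) (0, 1)
    rw [hu, show octMul (0, 1) (0, 1) = ((-1, 0) : OctPair F) by simp [octMul], hfix] at h
    have h1 := congrFun (congrFun (congrArg Prod.fst h) 0) 0
    simp [octMul, Matrix.mul_adjugate] at h1
    linear_combination -h1
  let uu : GL (Fin 2) F := Matrix.GeneralLinearGroup.mkOfDetNeZero u (by rw [hdet]; exact one_ne_zero)
  have hdu : ((uu⁻¹ : GL (Fin 2) F) : Matrix (Fin 2) (Fin 2) F).det = 1 := by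
    have h1 : ((uu⁻¹ : GL (Fin 2) F) : Matrix (Fin 2) (Fin 2) F) * u = 1 := by
      rw [show u = (uu : Matrix (Fin 2) (Fin 2) F) from rfl, ← Units.val_mul, inv_mul_cancel, Units.val_one]
    have := congrArg Matrix.det h1
    rwa [Matrix.det_mul, hdet, mul_one, Matrix.det_one] at this
  let Q : detPair F := ⟨(1, uu⁻¹), (mem_detPair _).2 (by
    show (((1 : GL (Fin 2) F) : Matrix (Fin 2) (Fin 2) F)).det = _
    rw [Units.val_one, Matrix.det_one, hdu])⟩
  refine ⟨P * Q, ?_⟩
  have e : g' = pairHom Q := octLin_ext fun x => by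
    rw [show x = (x.1, 0) + (0, x.2) by simp, map_add, map_add, hfix, hV, octLin_pair, octLin_pair]
    simp [pairFun, Q, uu]
  rw [map_mul, ← e]
  exact mul_inv_cancel_left _ _

theorem centralizer_quatInv (h2 : (2 : F) ≠ 0) :
    Subgroup.centralizer ({quatInv F} : Set (G2 F)) = (pairHom (F := F)).range := by
  ext g
  rw [Subgroup.mem_centralizer_singleton_iff]
  refine ⟨fun h => mem_range_of_comm h2 h, ?_⟩
  rintro ⟨p, rfl⟩
  rw [quatInv, ← map_mul, ← map_mul]
  exact congrArg _ (Subtype.ext (Prod.ext ((one_mul _).trans (mul_one _).symm |>.symm) (by simp [negPair])))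

/-- The two factors. -/
noncomputable def sl2Left : SpecialLinearGroup (Fin 2) F →* G2 F :=
  (pairHom.comp slPair).comp (MonoidHom.inl _ _)

/-- See `sl2Left`. -/
noncomputable def sl2Right : SpecialLinearGroup (Fin 2) F →* G2 F :=
  (pairHom.comp slPair).comp (MonoidHom.inr _ _)

theorem slPair_eq_one_iff (a b : SpecialLinearGroup (Fin 2) F) :
    pairHom (slPair (a, b)) = 1 ↔
      ∃ t : F, t * t = 1 ∧ (a : Matrix (Fin 2) (Fin 2) F) = t • 1 ∧ (b : Matrix (Fin 2) (Fin 2) F) = t • 1 := by
  rw [pairHom_eq_one_iff]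
  constructor
  · rintro ⟨t, ha, hb⟩
    refine ⟨t, ?_, ha, hb⟩
    have := congrArg Matrix.det (show (a : Matrix (Fin 2) (Fin 2) F) = t • 1 from ha)
    rw [a.2, Matrix.det_smul, Matrix.det_one, mul_one, Fintype.card_fin, pow_two] at this
    exact this.symm
  · rintro ⟨t, -, ha, hb⟩
    exact ⟨t, ha, hb⟩

theorem sl2Left_injective : Function.Injective (sl2Left (F := F)) := by
  rw [injective_iff_map_eq_one]
  intro a ha
  obtain ⟨t, -, ha', hb'⟩ := (slPair_eq_one_iff a 1).1 ha
  have : t = 1 := by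
    have h := congrFun (congrFun hb' 0) 0
    simp at h
    exact h.symm
  exact Subtype.ext (by rw [ha', this, one_smul]; rfl)

theorem sl2Right_injective : Function.Injective (sl2Right (F := F)) := by
  rw [injective_iff_map_eq_one]
  intro b hb
  obtain ⟨t, -, ha', hb'⟩ := (slPair_eq_one_iff 1 b).1 hb
  have : t = 1 := by
    have h := congrFun (congrFun ha' 0) 0
    simp at h
    exact h.symm
  exact Subtype.ext (by rw [hb', this, one_smul]; rfl)

theorem sl2_commute (a b : SpecialLinearGroup (Fin 2) F) : sl2Left a * sl2Right b = sl2Right b * sl2Left a := by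
  show (pairHom.comp slPair) (a, 1) * (pairHom.comp slPair) (1, b) =
    (pairHom.comp slPair) (1, b) * (pairHom.comp slPair) (a, 1)
  rw [← map_mul, ← map_mul]
  simp

/-- Minus the identity. -/
def negOne (F : Type*) [Field F] : SpecialLinearGroup (Fin 2) F :=
  ⟨-1, by simp [det_fin_two]⟩

theorem sl2Right_negOne : sl2Right (negOne F) = quatInv F := by
  show pairHom (slPair (1, negOne F)) = pairHom (negPair F)
  congr 1
  refine Subtype.ext (Prod.ext (map_one (SpecialLinearGroup.toGL : SpecialLinearGroup (Fin 2) F →* GL (Fin 2) F)) (Units.ext ?_))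
  rfl

theorem quatInv_mem_left : quatInv F ∈ (sl2Left (F := F)).range := by
  have hn : (negOne F)⁻¹ = negOne F :=
    inv_eq_of_mul_eq_one_right (Subtype.ext (by
      show (-1 : Matrix (Fin 2) (Fin 2) F) * -1 = 1
      simp))
  refine ⟨negOne F, ?_⟩
  rw [← sl2Right_negOne, ← inv_mul_eq_one, ← map_inv, hn]
  show (pairHom.comp slPair) (negOne F, 1) * (pairHom.comp slPair) (1, negOne F) = 1
  rw [← map_mul, Prod.mk_mul_mk, mul_one, one_mul]
  exact (slPair_eq_one_iff _ _).2 ⟨-1, by ring, by rw [neg_one_smul]; rfl, by rw [neg_one_smul]; rfl⟩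

theorem range_inf : (sl2Left (F := F)).range ⊓ (sl2Right (F := F)).range = Subgroup.zpowers (quatInv F) := by
  refine le_antisymm ?_ (Subgroup.zpowers_le.2 ⟨quatInv_mem_left, _, sl2Right_negOne⟩)
  rintro _ ⟨⟨a, rfl⟩, b, hb⟩
  have h : pairHom (slPair (a, b⁻¹)) = 1 := by
    have e : sl2Left a * (sl2Right b)⁻¹ = 1 := by rw [hb, mul_inv_cancel]
    rw [← map_inv] at e
    have e2 : pairHom (slPair (a, b⁻¹)) = sl2Left a * sl2Right b⁻¹ := by
      show (pairHom.comp slPair) (a, b⁻¹) = (pairHom.comp slPair) (a, 1) * (pairHom.comp slPair) (1, b⁻¹)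
      rw [← map_mul]; simp
    rw [e2, e]
  obtain ⟨t, ht, -, hb'⟩ := (slPair_eq_one_iff _ _).1 h
  rcases mul_self_eq_one_iff.1 ht with rfl | rfl
  · have hb1 : b = 1 := inv_eq_one.1 (Subtype.ext (by rw [hb', one_smul]; rfl))
    rw [← hb, hb1, map_one]
    exact one_mem _
  · have hb1 : b⁻¹ = negOne F := Subtype.ext (by rw [hb', neg_one_smul]; rfl)
    rw [← hb, ← inv_inv b, hb1, map_inv, sl2Right_negOne]
    exact inv_mem (Subgroup.mem_zpowers _)

theorem range_sup : (sl2Left (F := F)).range ⊔ (sl2Right (F := F)).range = (pairHom.comp slPair).range := by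
  refine le_antisymm (sup_le ?_ ?_) ?_
  · rintro _ ⟨a, rfl⟩; exact ⟨_, rfl⟩
  · rintro _ ⟨a, rfl⟩; exact ⟨_, rfl⟩
  · rintro _ ⟨⟨a, b⟩, rfl⟩
    rw [show ((a, b) : SpecialLinearGroup (Fin 2) F × SpecialLinearGroup (Fin 2) F) = (a, 1) * (1, b) by simp,
      map_mul]
    exact mul_mem (Subgroup.mem_sup_left ⟨a, rfl⟩) (Subgroup.mem_sup_right ⟨b, rfl⟩)

theorem card_ker_slPair (h2 : (2 : F) ≠ 0) [Finite F] :
    Nat.card ((pairHom (F := F)).comp slPair).ker = 2 := by
  have hne : (negOne F, negOne F) ≠ (1 : SpecialLinearGroup (Fin 2) F × SpecialLinearGroup (Fin 2) F) := by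
    intro e
    have h := congrFun (congrFun (congrArg Subtype.val (congrArg Prod.fst e)) 0) 0
    simp [negOne] at h
    exact h2 (by linear_combination -h)
  have hset : (((pairHom (F := F)).comp slPair).ker : Set _) = {1, (negOne F, negOne F)} := by
    ext ⟨a, b⟩
    rw [SetLike.mem_coe, MonoidHom.mem_ker, MonoidHom.comp_apply, slPair_eq_one_iff, Set.mem_insert_iff,
      Set.mem_singleton_iff]
    constructor
    · rintro ⟨t, ht, ha, hb⟩
      rcases mul_self_eq_one_iff.1 ht with rfl | rfl
      · exact Or.inl (Prod.ext (Subtype.ext (by rw [ha, one_smul]; rfl)) (Subtype.ext (by rw [hb, one_smul]; rfl)))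
      · exact Or.inr (Prod.ext (Subtype.ext (by rw [ha, neg_one_smul]; rfl))
          (Subtype.ext (by rw [hb, neg_one_smul]; rfl)))
    · rintro (e | e)
      · obtain ⟨rfl, rfl⟩ := Prod.ext_iff.1 e
        exact ⟨1, one_mul _, by rw [one_smul]; rfl, by rw [one_smul]; rfl⟩
      · obtain ⟨rfl, rfl⟩ := Prod.ext_iff.1 e
        exact ⟨-1, by ring, by rw [neg_one_smul]; rfl, by rw [neg_one_smul]; rfl⟩
  rw [← SetLike.coe_sort_coe, hset, Nat.card_coe_set_eq, Set.ncard_pair hne.symm]

theorem quat_relIndex (h2 : (2 : F) ≠ 0) [Fintype F] :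
    ((sl2Left (F := F)).range ⊔ (sl2Right (F := F)).range).relIndex (pairHom (F := F)).range = 2 := by
  have hle : ((pairHom (F := F)).comp slPair).range ≤ (pairHom (F := F)).range := by
    rintro _ ⟨x, rfl⟩; exact ⟨_, rfl⟩
  rw [range_sup]
  have h1 := card_range_pairHom (F := F)
  have h3 := Subgroup.card_eq_card_quotient_mul_card_subgroup ((pairHom (F := F)).comp slPair).ker
  rw [Nat.card_congr (QuotientGroup.quotientKerEquivRange _).toEquiv, card_ker_slPair h2, Nat.card_prod] at h3
  have h4 := Subgroup.relIndex_mul_relIndex ⊥ _ _ bot_le hle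
  rw [Subgroup.relIndex_bot_left, Subgroup.relIndex_bot_left, h1, h3] at h4
  exact Nat.eq_of_mul_eq_mul_left Nat.card_pos h4

theorem card_sl2 [Fintype F] : Nat.card (SpecialLinearGroup (Fin 2) F) =
    Fintype.card F * (Fintype.card F ^ 2 - 1) := by
  have h := H40.card_SL_mul (F := F) (ι := Fin 2)
  rw [Matrix.card_GL_field (𝔽 := F) 2, Fin.prod_univ_two] at h
  simp only [Fin.val_zero, Fin.val_one, pow_zero, pow_one] at h
  have hq : 1 < Fintype.card F := Fintype.one_lt_card
  refine Nat.eq_of_mul_eq_mul_right (by omega : 0 < Fintype.card F - 1) (h.trans ?_)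
  set q := Fintype.card F
  have h2 : 1 ≤ q ^ 2 := Nat.one_le_pow _ _ (by omega)
  have h21 : q ≤ q ^ 2 := Nat.le_self_pow (by omega) _
  zify [h2, h21, hq.le]
  ring

end H55.G2
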