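import Cfsg.Agent.H55.POField
import Cfsg.Agent.H44.SimModels
import Cfsg.Agent.H44.OutPOdd

/-!
How classes of field automorphisms of orthogonal groups split under the inner automorphisms.
-/

set_option autoImplicit false

namespace H55

namespace PO

open Matrix H43 H44

section Abstract

variable {A : Type*} [Group A] {H : Subgroup (MulAut A)} {x : MulAut A}

theorem count_eq_index (hinn : Cfsg.Inn A ≤ H) {Δ : Type*} [Group Δ] (φ : H →* Δ)
    (hφ : Function.Surjective φ) (hker : φ.ker = (Cfsg.Inn A).subgroupOf H) :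
    Cfsg.splitClassCount H (Cfsg.Inn A) x =
      (((H ⊓ Subgroup.centralizer {x}).subgroupOf H).map φ).index := by
  rw [splitClassCount_eq_index H.subtype φ hφ x (Subgroup.range_subtype H).symm
    (by rw [hker, Subgroup.subgroupOf_map_subtype, inf_eq_left.2 hinn]), Subgroup.inf_subgroupOf_left]
  rfl

theorem count_eq_one (hinn : Cfsg.Inn A ≤ H)
    (h : ∀ y ∈ H, ∃ c ∈ H ⊓ Subgroup.centralizer {x}, c⁻¹ * y ∈ Cfsg.Inn A) :
    Cfsg.splitClassCount H (Cfsg.Inn A) x = 1 := by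
  haveI : ((Cfsg.Inn A).subgroupOf H).Normal := (Cfsg.innNormal A).subgroupOf _
  rw [count_eq_index hinn _ (QuotientGroup.mk'_surjective _) (QuotientGroup.ker_mk' _),
    Subgroup.index_eq_one, eq_top_iff]
  rintro a -
  induction a using QuotientGroup.induction_on with
  | _ y =>
    obtain ⟨c, hc, hcy⟩ := h y.1 y.2
    exact ⟨⟨c, hc.1⟩, hc, QuotientGroup.eq.2 hcy⟩

theorem count_two_valued (hinn : Cfsg.Inn A ≤ H) {Δ : Type*} [Group Δ] [Finite Δ] (φ : H →* Δ)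
    (hφ : Function.Surjective φ) (hker : φ.ker = (Cfsg.Inn A).subgroupOf H)
    {d : MulAut A} (hd : d ∈ H ⊓ Subgroup.centralizer {x})
    (h : ∀ c ∈ H ⊓ Subgroup.centralizer {x}, c ∈ Cfsg.Inn A ∨ c * d ∈ Cfsg.Inn A) :
    (d ∈ Cfsg.Inn A → Cfsg.splitClassCount H (Cfsg.Inn A) x = Nat.card Δ) ∧
      (d ∉ Cfsg.Inn A → 2 * Cfsg.splitClassCount H (Cfsg.Inn A) x = Nat.card Δ) := by
  have h1 : ∀ a : H, φ a = 1 ↔ (a : MulAut A) ∈ Cfsg.Inn A := fun a => by
    rw [← MonoidHom.mem_ker, hker, Subgroup.mem_subgroupOf]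
  set e : Δ := φ ⟨d, hd.1⟩
  have he2 : e * e = 1 := by
    rcases h d hd with hi | hi
    · have := (h1 ⟨d, hd.1⟩).2 hi
      simp [e, this]
    · rw [← map_mul]; exact (h1 _).2 hi
  have hmap : ((H ⊓ Subgroup.centralizer {x}).subgroupOf H).map φ = Subgroup.zpowers e := by
    refine le_antisymm ?_ (Subgroup.zpowers_le.2 ⟨⟨d, hd.1⟩, hd, rfl⟩)
    rintro _ ⟨c, hc, rfl⟩
    rcases h c.1 hc with hi | hi
    · rw [(h1 c).2 hi]; exact one_mem _
    · have := (h1 (c * ⟨d, hd.1⟩)).2 hi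
      rw [map_mul] at this
      rw [eq_inv_of_mul_eq_one_left this]
      exact inv_mem (Subgroup.mem_zpowers e)
  rw [count_eq_index hinn φ hφ hker, hmap]
  have hc := (Subgroup.zpowers e).card_mul_index
  rw [Nat.card_zpowers] at hc
  constructor <;> intro hdi
  · rw [show e = 1 from (h1 ⟨d, hd.1⟩).2 hdi, orderOf_one, one_mul] at hc
    rw [show e = 1 from (h1 ⟨d, hd.1⟩).2 hdi]
    exact hc
  · rw [← hc, orderOf_eq_prime (by rw [pow_two, he2]) (fun e1 => hdi ((h1 _).1 e1))]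

theorem mem_centralizer_singleton {a : MulAut A} :
    a ∈ Subgroup.centralizer {x} ↔ a * x * a⁻¹ = x := by
  rw [Subgroup.mem_centralizer_singleton_iff, mul_inv_eq_iff_eq_mul]

end Abstract

variable {F : Type*} [Field F] [Finite F] {ι : Type} [Fintype ι] [DecidableEq ι]
  {Q : QuadraticForm F (ι → F)}

omit [Finite F] in
theorem simMu_scalar_orth {v : ι → F} (hv : Q v ≠ 0) (c : Fˣ) (x : orthGroup Q) :
    simMu (scalarHom Q c * orthSim Q x) = c * c :=
  Units.ext (simMu_eq hv fun v => by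
    rw [Subgroup.coe_mul, Units.val_mul, ← mulVec_mulVec, scalarHom_mulVec, qmap_smul, orthSim_mulVec,
      orth_qmap, Units.val_mul])

theorem inn_of_rot (hQ : (polB Q).Nondegenerate) (hgen : ReflGenerates F (ι → F)) (c : Fˣ) {x : orthGroup Q}
    (hx : dickson x = 1) (hs : spinor x = 1) :
    simAut Q (scalarHom Q c * orthSim Q x) ∈ Cfsg.Inn (Cfsg.POmega F ⇑Q) := by
  rw [map_mul, scalarHom_mem_ker, one_mul, inn_eq]
  refine ⟨orthSim Q x, ⟨⟨(toOrth Q).symm x, ?_⟩, rfl⟩, rfl⟩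
  rw [mem_Omega_iff, MulEquiv.apply_symm_apply, H44.mem_commutator_iff hQ hgen]
  exact ⟨hx, hs⟩

theorem spinor_eq_one_of_two (h2 : (2 : F) = 0) (s : SqClass F) : s = 1 := by
  obtain ⟨a, ha, rfl⟩ := sqc_surjective s
  exact (sqc_eq_one_iff ha).2 (isSquare_of_two_eq_zero h2 a)

theorem inn_le_keep {n : ℕ} (h : EvQ Q n) :
    Cfsg.Inn (Cfsg.POmega F ⇑Q) ≤ (keep h).map (simAut Q) := by
  rw [inn_eq]
  rintro _ ⟨g, ⟨s, rfl⟩, rfl⟩
  refine ⟨omegaSim Q s, ?_, rfl⟩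
  have hs : omegaSim Q s = orthSim Q (toOrth Q s.1) :=
    simG_ext fun v => by rw [orthSim_mulVec, toOrth_apply, coe_omegaSim]
  rw [SetLike.mem_coe, mem_keep, hs, swapH_orth]
  exact ((H44.mem_commutator_iff h.nondeg h.gen _).1 ((mem_Omega_iff s.1).1 s.2)).1

theorem keep_eq_inn_two {n : ℕ} (h : EvQ Q n) (h2 : (2 : F) = 0) :
    (keep h).map (simAut Q) = Cfsg.Inn (Cfsg.POmega F ⇑Q) := by
  refine le_antisymm ?_ (inn_le_keep h)
  rintro _ ⟨g, hg, rfl⟩
  obtain ⟨c, x, rfl⟩ := exists_two_decomp h2 g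
  rw [SetLike.mem_coe, mem_keep, map_mul, swapH_scalar, one_mul, swapH_orth] at hg
  exact inn_of_rot h.nondeg h.gen c hg (spinor_eq_one_of_two h2 _)

theorem hdec_keep {n : ℕ} (h : EvQ Q n) :
    ∀ g ∈ keep h, ∀ w, simMu g = w * w → ∃ x, dickson x = 1 ∧ g = scalarHom Q w * orthSim Q x := by
  intro g hg w hw
  obtain ⟨x, rfl⟩ := exists_scalar_orth g w hw
  rw [mem_keep, map_mul, swapH_scalar, one_mul, swapH_orth] at hg
  exact ⟨x, hg, rfl⟩

section Descended

variable {σ : invAut Q} {K : Type*} [Field K] [Finite K] {j : K →+* F} (hj : FixHom σ.1 j)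
  {R : QuadraticForm K (ι → K)} (hR : ∀ v, Q (jVec j v) = j (R v))
  (hQ : (polB Q).Nondegenerate) (h5 : 5 ≤ Fintype.card ι) (X : Subgroup (simG Q))
  (hX : ∀ c, scalarHom Q c ∈ X)

omit [Finite K] in
include hQ h5 hj in
theorem simMap_mu {v₀ : ι → F} (hv₀ : Q v₀ ≠ 0) {g : simG Q} (hg : simMap σ g = g) :
    ∃ a : K, j a = (simMu g : F) := by
  have : σ.1 (simMu g : F) = (simMu g : F) := by
    refine (simMu_eq (v := v₀) hv₀ fun v => ?_).symm
    obtain ⟨u, rfl⟩ := vec_surj σ.1 v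
    conv_lhs => rw [← hg, coe_simMap, coe_mapGLι, vecMap_mulVec]
    rw [show Q (vecMap σ.1 ((g.1 : Matrix ι ι F) *ᵥ u)) = σ.1 (Q ((g.1 : Matrix ι ι F) *ᵥ u)) from σ.2 _,
      simMu_spec, map_mul, show Q (vecMap σ.1 u) = σ.1 (Q u) from σ.2 _]
  exact (hj.fix _).1 this

include hj hR hQ h5 in
/-- A fixed similarity with multiplier a square in the small field induces an inner automorphism. -/
theorem fixed_inn (hgen : ReflGenerates F (ι → F)) (hgenR : ReflGenerates K (ι → K))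
    (hsq : ∀ a : K, a ≠ 0 → IsSquare (j a)) {g : simG Q} (hg : simMap σ g = g)
    (hdec : ∀ w, simMu g = w * w → ∃ c x, c * c = w * w ∧ dickson x = 1 ∧ g = scalarHom Q c * orthSim Q x)
    {a : K} (ha : (simMu g : F) = j a * j a) :
    simAut Q g ∈ Cfsg.Inn (Cfsg.POmega F ⇑Q) := by
  have hRn := nondeg_descend hR hQ
  obtain ⟨v₀, hv₀⟩ := exists_ne_zero hQ h5
  have ha0 : j a ≠ 0 := fun e => (simMu g).ne_zero (by rw [ha, e, mul_zero])
  obtain ⟨c, x, hc, hx, hgx⟩ := hdec (Units.mk0 _ ha0) (Units.ext ha)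
  have hcσ : σ.1 (c : F) = (c : F) := by
    have e : (c : F) * c = j a * j a := by simpa using congrArg Units.val hc
    rcases mul_self_eq_mul_self_iff.1 e with e | e <;> rw [e]
    · exact hj.map a
    · rw [map_neg, hj.map a]
  have hxfix : simMap σ (orthSim Q x) = orthSim Q x := by
    rw [hgx, map_mul, simMap_scalar, show Units.map (σ.1 : F →+* F).toMonoidHom c = c from Units.ext hcσ] at hg
    exact mul_left_cancel hg
  obtain ⟨v₁, hv₁⟩ := exists_ne_zero hRn h5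
  obtain ⟨y, hy⟩ := exists_sim hj hR hv₁ (congrArg Subtype.val hxfix)
  have hyiso : y.1 ∈ Cfsg.isometryGroup K ⇑R := mem_isometry.2 fun v => j.injective (by
    rw [← hR, ← hR]
    have e := (baseExt hR).sim_mulVec y v
    rw [hy, orthSim_mulVec] at e
    show Q ((baseExt hR).f _) = Q ((baseExt hR).f v)
    rw [← e, orth_qmap])
  have hyx : (baseExt hR).orth (toOrth R ⟨y.1, hyiso⟩) = x := by
    refine orthSim_injective (Q := Q) ?_
    rw [← Ext.sim_orthSim, show orthSim R (toOrth R ⟨y.1, hyiso⟩) = y from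
      simG_ext fun v => by rw [orthSim_mulVec, toOrth_apply], hy]
  have hs : spinor x = 1 := by
    rw [← hyx]
    refine Ext.spinor_orth _ hRn hgenR hQ hgen (fun b hb => ?_) _
    show sqc (((1 : Fˣ) : F) * j b) = 1
    rw [Units.val_one, one_mul, sqc_eq_one_iff ((map_ne_zero j).2 hb)]
    exact hsq b hb
  rw [hgx]
  exact inn_of_rot hQ hgen c hx hs

include hj hR hQ h5 hX in
/-- For an involutory field automorphism, the centralizer is two-valued modulo inner automorphisms. -/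
theorem centralizer_two_valued (hgen : ReflGenerates F (ι → F)) (hgenR : ReflGenerates K (ι → K))
    (hsq : ∀ a : K, a ≠ 0 → IsSquare (j a))
    (hdec : ∀ g ∈ X, ∀ w, simMu g = w * w → ∃ c x, c * c = w * w ∧ dickson x = 1 ∧
      g = scalarHom Q c * orthSim Q x)
    {d : simG Q} (hdX : d ∈ X) (hd : simMap σ d = d)
    (hsplit : ∀ g ∈ X, ∀ a : K, simMap σ g = g → (simMu g : F) = j a →
      (∃ b, (simMu g : F) = j b * j b) ∨ ∃ b, (simMu (g * d) : F) = j b * j b) :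
    ∀ β ∈ X.map (simAut Q) ⊓ Subgroup.centralizer {fieldPO Q σ},
      β ∈ Cfsg.Inn (Cfsg.POmega F ⇑Q) ∨ β * simAut Q d ∈ Cfsg.Inn (Cfsg.POmega F ⇑Q) := by
  obtain ⟨v₀, hv₀⟩ := exists_ne_zero hQ h5
  rintro _ ⟨⟨g, hg, rfl⟩, hcen⟩
  obtain ⟨c, h, hh, rfl⟩ := (centralizes_iff σ hQ h5 g).1 (mem_centralizer_singleton.1 hcen)
  have hhX : h ∈ X := (X.mul_mem_cancel_left (hX c)).1 hg
  obtain ⟨a, ha⟩ := simMap_mu hj hQ h5 hv₀ hh
  rw [map_mul, scalarHom_mem_ker, one_mul, ← map_mul]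
  rcases hsplit h hhX a hh ha.symm with ⟨b, hb⟩ | ⟨b, hb⟩
  · exact Or.inl (fixed_inn hj hR hQ h5 hgen hgenR hsq hh (hdec h hhX) hb)
  · exact Or.inr (fixed_inn hj hR hQ h5 hgen hgenR hsq (by rw [map_mul, hh, hd])
      (hdec _ (mul_mem hhX hdX)) hb)

include hj hR hQ h5 hX in
/-- When non-squares stay non-squares, every class is met by the centralizer. -/
theorem centralizer_covers (hgen : ReflGenerates F (ι → F))
    {ν : K} (hν : ¬ IsSquare (j ν))
    (hXo : ∀ x : orthGroup Q, dickson x = 1 → orthSim Q x ∈ X)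
    (hdec : ∀ g ∈ X, ∀ w, simMu g = w * w → ∃ c x, c * c = w * w ∧ dickson x = 1 ∧
      g = scalarHom Q c * orthSim Q x)
    (hmult : ∀ g ∈ X, sqMk (simMu g) = 1 ∨
      ∃ d ∈ X, simMap σ d = d ∧ sqMk (simMu d) ≠ 1) :
    ∀ β ∈ X.map (simAut Q), ∃ c ∈ X.map (simAut Q) ⊓ Subgroup.centralizer {fieldPO Q σ},
      c⁻¹ * β ∈ Cfsg.Inn (Cfsg.POmega F ⇑Q) := by
  have hRn := nondeg_descend hR hQ
  obtain ⟨v₀, hv₀⟩ := exists_ne_zero hQ h5
  have hν0 : ν ≠ 0 := fun e => hν (by simp [e])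
  have hns : sqc (j ν) ≠ 1 := fun e => hν ((sqc_eq_one_iff ((map_ne_zero j).2 hν0)).1 e)
  have dich : ∀ s : SqClass F, s = 1 ∨ s = sqc (j ν) := fun s => sqMk_dich s hns
  have hn2 : 2 ≤ Module.finrank K (ι → K) := by simp; omega
  obtain ⟨u, hu⟩ := exists_qmap_eq hRn hn2 (1 : K) one_ne_zero
  obtain ⟨w, hw⟩ := exists_qmap_eq hRn hn2 ν hν0
  have hu0 : Q (jVec j u) ≠ 0 := by rw [hR, hu, map_one]; exact one_ne_zero
  have hw0 : Q (jVec j w) ≠ 0 := by rw [hR, hw]; exact (map_ne_zero j).2 hν0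
  set t := refl Q (jVec j u) * refl Q (jVec j w)
  have htd : dickson t = 1 := by
    rw [dickson_refl_mul hQ _ hu0, dickson_refl hQ hw0]; exact mulTwo_mul_self _
  have hts : spinor t = sqc (j ν) := by
    rw [spinor_refl_mul hQ _ hu0, spinor_refl hQ hw0, hR, hR, hu, hw, map_one, sqc_one, one_mul]
  have htfix : simMap σ (orthSim Q t) = orthSim Q t := by
    rw [map_mul, map_mul, simMap_refl σ (vecMap_jVec hj u), simMap_refl σ (vecMap_jVec hj w)]
  have hcent : ∀ g : simG Q, simMap σ g = g → g ∈ X →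
      simAut Q g ∈ X.map (simAut Q) ⊓ Subgroup.centralizer {fieldPO Q σ} := fun g hg hgX =>
    ⟨⟨g, hgX, rfl⟩, mem_centralizer_singleton.2
      ((centralizes_iff σ hQ h5 g).2 ⟨1, g, hg, by rw [map_one, one_mul]⟩)⟩
  have step : ∀ g ∈ X, sqMk (simMu g) = 1 → ∃ f, simMap σ f = f ∧ f ∈ X ∧
      simAut Q (f⁻¹ * g) ∈ Cfsg.Inn (Cfsg.POmega F ⇑Q) := by
    intro g hg hsq
    obtain ⟨r, hr⟩ := (sqMk_eq_one_iff _).1 hsq
    obtain ⟨c, x, -, hx, rfl⟩ := hdec g hg r (by rw [← hr, pow_two])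
    rcases dich (spinor x) with hs | hs
    · exact ⟨1, map_one _, one_mem _, by rw [inv_one, one_mul]; exact inn_of_rot hQ hgen c hx hs⟩
    · refine ⟨orthSim Q t, htfix, hXo t htd, ?_⟩
      have e : (orthSim Q t)⁻¹ * (scalarHom Q c * orthSim Q x) = scalarHom Q c * orthSim Q (t⁻¹ * x) := by
        rw [map_mul (orthSim Q) t⁻¹ x, map_inv (orthSim Q) t, ← mul_assoc, ← scalarHom_central, mul_assoc]
      rw [e]
      have htinv : dickson t⁻¹ = 1 ∧ spinor t⁻¹ = sqc (j ν) := by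
        have e1 := dickson_mul hQ hgen t⁻¹ t
        have e2 := spinor_mul hQ hgen t⁻¹ t
        rw [inv_mul_cancel, dickson_one, htd, mul_one] at e1
        rw [inv_mul_cancel, spinor_one hQ, hts] at e2
        refine ⟨e1.symm, ?_⟩
        rw [← mul_one (spinor t⁻¹), ← sqClass_mul_self (sqc (j ν)), ← mul_assoc, ← e2, one_mul]
      exact inn_of_rot hQ hgen c (by rw [dickson_mul hQ hgen, htinv.1, hx, one_mul])
        (by rw [spinor_mul hQ hgen, htinv.2, hs, sqClass_mul_self])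
  rintro _ ⟨g, hg, rfl⟩
  rcases hmult g hg with hsq | ⟨d, hdX, hd, hdns⟩
  · obtain ⟨f, hf, hfX, hi⟩ := step g hg hsq
    exact ⟨simAut Q f, hcent f hf hfX, by rwa [← map_inv, ← map_mul]⟩
  · rcases sqMk_dich (sqMk (simMu g)) hdns with hsq | hsq
    · obtain ⟨f, hf, hfX, hi⟩ := step g hg hsq
      exact ⟨simAut Q f, hcent f hf hfX, by rwa [← map_inv, ← map_mul]⟩
    · have hsq' : sqMk (simMu (d * g)) = 1 := by
        rw [simMu_mul hv₀, map_mul, hsq, sqClass_mul_self]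
      obtain ⟨f, hf, hfX, hi⟩ := step (d * g) (mul_mem hdX hg) hsq'
      refine ⟨simAut Q (d⁻¹ * f), hcent _ (by rw [map_mul, map_inv, hd, hf]) (mul_mem (inv_mem hdX) hfX), ?_⟩
      rw [← map_inv, ← map_mul, _root_.mul_inv_rev, inv_inv, mul_assoc]
      exact hi

end Descended

end PO

end H55
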