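import Cfsg.Agent.H55.POKeep
import Cfsg.Agent.H55.GaloisCard

/-!
Galois descent for similarities: semilinear elements of prime order are twists by coordinate changes.
-/

set_option autoImplicit false

namespace H55

namespace PO

open Matrix H43 H44

/-- `σ` applied to every coordinate. -/
def vecMap {F : Type*} [Field F] {ι : Type} (σ : F ≃+* F) (v : ι → F) : ι → F := fun i => σ (v i)

theorem vecMap_mulVec {F : Type*} [Field F] {ι κ : Type} [Fintype κ] (σ : F ≃+* F) (A : Matrix ι κ F)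
    (v : κ → F) : A.map σ *ᵥ vecMap σ v = vecMap σ (A *ᵥ v) :=
  funext fun i => (RingHom.map_mulVec (σ : F →+* F) A v i).symm

variable {F : Type*} [Field F] {K : Type*} [Field K]

/-- `j` identifies `K` with the fixed field of `σ`. -/
structure FixHom (σ : F ≃+* F) (j : K →+* F) : Prop where
  fix : ∀ x, σ x = x ↔ x ∈ j.range

theorem FixHom.map {σ : F ≃+* F} {j : K →+* F} (hj : FixHom σ j) (a : K) : σ (j a) = j a :=
  (hj.fix _).2 ⟨a, rfl⟩

variable {ι κ : Type} [Fintype ι] [DecidableEq ι] [Fintype κ] [DecidableEq κ]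
  {σ : F ≃+* F} {j : K →+* F}

/-- The points with coordinates in `K`. -/
def jVec (j : K →+* F) : (ι → K) →+ (ι → F) where
  toFun v i := j (v i)
  map_zero' := by ext; simp
  map_add' v w := by ext; simp

theorem jVec_smul (j : K →+* F) (a : K) (v : ι → K) : jVec j (a • v) = j a • jVec j v := by
  ext; simp [jVec]

theorem jVec_injective (j : K →+* F) : Function.Injective (jVec (ι := ι) j) := fun v w h =>
  funext fun i => j.injective (congrFun h i)

theorem span_jVec (j : K →+* F) : Submodule.span F (Set.range (jVec (ι := ι) j)) = ⊤ := by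
  rw [eq_top_iff, ← (Pi.basisFun F ι).span_eq]
  refine Submodule.span_mono ?_
  rintro _ ⟨i, rfl⟩
  refine ⟨Pi.single i 1, funext fun k => ?_⟩
  by_cases h : k = i
  · subst h; simp [jVec]
  · simp [jVec, h]

theorem vecMap_jVec (hj : FixHom σ j) (v : ι → K) : vecMap σ (jVec j v) = jVec j v :=
  funext fun i => hj.map (v i)

theorem exists_vec (hj : FixHom σ j) {v : ι → F} (hv : vecMap σ v = v) : ∃ w, jVec j w = v := by
  choose w hw using fun i => (hj.fix (v i)).1 (congrFun hv i)
  exact ⟨w, funext hw⟩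

/-- A fixed invertible matrix comes from the small field. -/
theorem exists_GL (hj : FixHom σ j) {g : GL ι F} (hg : mapGLι σ g = g) :
    ∃ h : GL ι K, Matrix.GeneralLinearGroup.map j h = g := by
  have hinv : mapGLι σ g⁻¹ = g⁻¹ := by rw [map_inv, hg]
  have key : ∀ u : GL ι F, mapGLι σ u = u → ∃ A : Matrix ι ι K, A.map j = (u : Matrix ι ι F) := by
    intro u hu
    have h : ∀ i k, σ ((u : Matrix ι ι F) i k) = (u : Matrix ι ι F) i k := fun i k =>
      congrArg (fun M : GL ι F => (M : Matrix ι ι F) i k) hu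
    choose A hA using fun i k => (hj.fix _).1 (h i k)
    exact ⟨A, Matrix.ext hA⟩
  obtain ⟨A, hA⟩ := key g hg
  obtain ⟨B, hB⟩ := key g⁻¹ hinv
  have hinj : Function.Injective fun M : Matrix ι ι K => M.map j := Matrix.map_injective j.injective
  refine ⟨⟨A, B, hinj ?_, hinj ?_⟩, Units.ext hA⟩
  · show (A * B).map j = (1 : Matrix ι ι K).map j
    rw [Matrix.map_mul, hA, hB, ← Units.val_mul, mul_inv_cancel, Units.val_one,
      Matrix.map_one _ (map_zero j) (map_one j)]
  · show (B * A).map j = (1 : Matrix ι ι K).map j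
    rw [Matrix.map_mul, hA, hB, ← Units.val_mul, inv_mul_cancel, Units.val_one,
      Matrix.map_one _ (map_zero j) (map_one j)]

/-- A fixed form comes from the small field. -/
theorem descend_form (hj : FixHom σ j) {Q : QuadraticForm F (ι → F)} (hσ : σ ∈ invAut Q) :
    ∃ R : QuadraticForm K (ι → K), ∀ v, Q (jVec j v) = j (R v) := by
  have hfix : ∀ v : ι → K, σ (Q (jVec j v)) = Q (jVec j v) := fun v => by
    rw [← hσ]
    exact congrArg Q (vecMap_jVec hj v)
  choose R hR using fun v => (hj.fix _).1 (hfix v)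
  have hR' : ∀ v, j (R v) = Q (jVec j v) := hR
  have hpol : ∀ v w, j (QuadraticMap.polar R v w) = polB Q (jVec j v) (jVec j w) := fun v w => by
    simp only [polB_apply, QuadraticMap.polar, map_sub, hR', ← map_add]
  let B : LinearMap.BilinForm K (ι → K) := LinearMap.mk₂ K (QuadraticMap.polar R)
    (fun a b c => j.injective (by simp [hpol, map_add, j.map_add]))
    (fun a b c => j.injective (by simp [hpol, jVec_smul, j.map_mul]))
    (fun a b c => j.injective (by simp [hpol, map_add, j.map_add]))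
    (fun a b c => j.injective (by simp [hpol, jVec_smul, j.map_mul]))
  refine ⟨⟨R, fun a v => j.injective ?_, ⟨B, fun v w => ?_⟩⟩, fun v => (hR' v).symm⟩
  · rw [hR', jVec_smul, qmap_smul, smul_eq_mul, map_mul, map_mul, hR']
  · show R (v + w) = R v + R w + QuadraticMap.polar R v w
    simp [QuadraticMap.polar]

omit [DecidableEq ι] in
theorem nondeg_descend {Q : QuadraticForm F (ι → F)} {R : QuadraticForm K (ι → K)}
    (hR : ∀ v, Q (jVec j v) = j (R v)) (hQ : (polB Q).Nondegenerate) : (polB R).Nondegenerate := by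
  classical
  refine nondeg_of_left _ fun u hu => jVec_injective j ?_
  rw [map_zero]
  refine hQ.1 _ fun x => ?_
  have hx : x ∈ Submodule.span F (Set.range (jVec (ι := ι) j)) := by rw [span_jVec]; trivial
  induction hx using Submodule.span_induction with
  | mem y hy =>
    obtain ⟨w, rfl⟩ := hy
    have : j (polB R u w) = polB Q (jVec j u) (jVec j w) := by
      simp only [polB_apply, QuadraticMap.polar, map_sub, ← hR, ← map_add]
    rw [← this, hu, map_zero]
  | zero => simp
  | add y z _ _ hy hz => rw [map_add, hy, hz, add_zero]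
  | smul a y _ hy => rw [map_smul, hy, smul_zero]

/-- Base change from the small field. -/
noncomputable def baseExt {Q : QuadraticForm F (ι → F)} {R : QuadraticForm K (ι → K)}
    (hR : ∀ v, Q (jVec j v) = j (R v)) : Ext R Q := extOfHom j hR

/-- A fixed similarity comes from the small field. -/
theorem exists_sim (hj : FixHom σ j) {Q : QuadraticForm F (ι → F)} {R : QuadraticForm K (ι → K)}
    (hR : ∀ v, Q (jVec j v) = j (R v)) {v₀ : ι → K} (hv₀ : R v₀ ≠ 0) {g : simG Q}
    (hg : mapGLι σ g.1 = g.1) : ∃ y : simG R, (baseExt hR).sim y = g := by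
  obtain ⟨h, hh⟩ := exists_GL hj hg
  have hval : ∀ v, Q ((g.1 : Matrix ι ι F) *ᵥ jVec j v) = j (R ((h : Matrix ι ι K) *ᵥ v)) := fun v => by
    rw [← hR]
    congr 1
    rw [← hh]
    exact map_mulVec j (h : Matrix ι ι K) v
  have hmu : (simMu g : F) = j (R ((h : Matrix ι ι K) *ᵥ v₀) / R v₀) := by
    have h1 := hval v₀
    rw [simMu_spec, hR] at h1
    rw [map_div₀, ← h1, mul_div_cancel_right₀]
    exact (map_ne_zero j).2 hv₀
  have hc : R ((h : Matrix ι ι K) *ᵥ v₀) / R v₀ ≠ 0 := fun e => (simMu g).ne_zero (by rw [hmu, e, map_zero])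
  refine ⟨⟨h, Units.mk0 _ hc, fun v => j.injective ?_⟩, Subtype.ext hh⟩
  rw [← hval, simMu_spec, hmu, hR, Units.val_mk0, map_mul]

/-! ### Twists -/

/-- `T` carries the standard semilinear map to `g σ`, up to a scalar. -/
def Twist (σ : F ≃+* F) (g : GL ι F) (T : (κ → F) ≃ₗ[F] (ι → F)) (c : Fˣ) : Prop :=
  ∀ v, (g : Matrix ι ι F) *ᵥ vecMap σ (T v) = (c : F) • T (vecMap σ v)

/-- A twist carries a field automorphism to a semilinear one. -/
theorem transport_twist {Q : QuadraticForm F (ι → F)} {Q' : QuadraticForm F (κ → F)} {g : simG Q}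
    {T : (κ → F) ≃ₗ[F] (ι → F)} {c : Fˣ} {z : F} (hz : z ≠ 0) (hT : ∀ v, Q (T v) = z * Q' v)
    (hσ : σ ∈ invAut Q) (hσ' : σ ∈ invAut Q') (htw : Twist σ g.1 T c) :
    autConj (pIso (glConj T) (glConj_mem_isometry T hz hT)) (fieldPO Q' ⟨σ, hσ'⟩) =
      simAut Q g * fieldPO Q ⟨σ, hσ⟩ := by
  apply MulEquiv.ext
  intro x
  obtain ⟨x, rfl⟩ := (pIso (glConj T) (glConj_mem_isometry T hz hT)).surjective x
  rw [autConj_apply, MulEquiv.symm_apply_apply]
  induction x using QuotientGroup.induction_on with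
  | _ s =>
    show QuotientGroup.mk _ = QuotientGroup.mk _
    congr 1
    refine Subtype.ext (Subtype.ext ?_)
    show glConj T (mapGLι σ s.1.1) = g.1 * mapGLι σ (glConj T s.1.1) * g.1⁻¹
    rw [eq_mul_inv_iff_mul_eq]
    refine Units.ext (Matrix.ext_iff_mulVec.2 fun w => ?_)
    obtain ⟨v, rfl⟩ : ∃ v, vecMap σ (T v) = w := by
      obtain ⟨v, hv⟩ := T.surjective fun i => σ.symm (w i)
      exact ⟨v, funext fun i => by simp [vecMap, hv]⟩
    rw [Units.val_mul, Units.val_mul, ← mulVec_mulVec, ← mulVec_mulVec, htw, mulVec_smul, glConj_mulVec,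
      coe_mapGLι, vecMap_mulVec, coe_mapGLι, vecMap_mulVec, glConj_mulVec, htw]

/-- A semilinear element whose order divides that of its field automorphism is a twist. -/
theorem exists_twist [Finite F] (hj : FixHom σ j) {Q : QuadraticForm F (ι → F)} (hQ : (polB Q).Nondegenerate)
    (h5 : 5 ≤ Fintype.card ι) (hσ : σ ∈ invAut Q) (g : simG Q)
    (h : (simAut Q g * fieldPO Q ⟨σ, hσ⟩) ^ orderOf σ = 1) :
    ∃ (T : (ι → F) ≃ₗ[F] (ι → F)) (c z : Fˣ) (R : QuadraticForm K (ι → K)),
      (polB R).Nondegenerate ∧ Twist σ g.1 T c ∧ ∀ v, Q (T (jVec j v)) = (z : F) * j (R v) := by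
  haveI : Finite (F ≃+* F) := Finite.of_injective _ DFunLike.coe_injective
  have hr := orderOf_pos σ
  haveI : Nonempty ι := Fintype.card_pos_iff.1 (by omega)
  obtain ⟨G, hG, hp⟩ := semilinear_pow ⟨σ, hσ⟩ g (orderOf σ)
  rw [h] at hp
  obtain ⟨-, c₀, hc₀⟩ := semilinear_eq_one hQ h5 hp.symm
  rw [hc₀] at hG
  replace hG : twProd σ g.1 (orderOf σ) = GeneralLinearGroup.scalar ι c₀ := hG.symm
  have hinj : Function.Injective (GeneralLinearGroup.scalar ι : Fˣ → GL ι F) := by
    intro a b e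
    obtain ⟨i⟩ := (inferInstance : Nonempty ι)
    have := congrArg (fun M : GL ι F => (M : Matrix ι ι F) i i) e
    simp at this
    exact Units.ext this
  have hcomm : ∀ (a : Fˣ) (u : GL ι F),
      GeneralLinearGroup.scalar ι a * u = u * GeneralLinearGroup.scalar ι a := fun a u => by
    apply Units.ext
    simp [← smul_one_eq_diagonal]
  have hmap : ∀ a : Fˣ, mapGLι σ (GeneralLinearGroup.scalar ι a) =
      GeneralLinearGroup.scalar ι (Units.map (σ : F →+* F).toMonoidHom a) := fun a =>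
    Matrix.GeneralLinearGroup.map_scalar _ _
  have hc0 : σ c₀ = c₀ := by
    have h1 := twProd_succ σ g.1 (orderOf σ)
    rw [twProd_succ', pow_orderOf_eq_one, mapGLι_one, hG, hmap, hcomm] at h1
    exact (congrArg Units.val (hinj (mul_left_cancel h1))).symm
  obtain ⟨w, hw⟩ := exists_norm_eq σ hc0
  set g' : simG Q := scalarHom Q w⁻¹ * g with hg'
  have h90 : twProd σ g'.1 (orderOf σ) = 1 := by
    have hmul : ∀ k, twProd σ g'.1 k =
        twProd σ (GeneralLinearGroup.scalar ι w⁻¹) k * twProd σ g.1 k := by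
      intro k
      induction k with
      | zero => simp [twProd]
      | succ k ih =>
        obtain ⟨d, hd⟩ : ∃ d, mapGLι σ (twProd σ (GeneralLinearGroup.scalar ι w⁻¹) k) =
            GeneralLinearGroup.scalar ι d := by
          rw [twProd_one_by_one]; exact ⟨_, hmap _⟩
        rw [twProd_succ, ih, map_mul, hd, twProd_succ σ (GeneralLinearGroup.scalar ι w⁻¹), hd,
          twProd_succ σ g.1]
        show GeneralLinearGroup.scalar ι w⁻¹ * g.1 * _ = _
        rw [mul_assoc, ← mul_assoc g.1, ← hcomm d]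
        group
    rw [hmul, hG, twProd_one_by_one, ← map_mul]
    show GeneralLinearGroup.scalar ι (normUnits σ w⁻¹ * c₀) = 1
    rw [map_inv, hw, inv_mul_cancel, map_one]
  obtain ⟨k, hk⟩ := hilbert90_GL σ hr h90
  have hkσ : ∀ v, (g'.1 : Matrix ι ι F) *ᵥ vecMap σ ((k : Matrix ι ι F) *ᵥ v) =
      (k : Matrix ι ι F) *ᵥ vecMap σ v := fun v => by
    have e := congrArg (fun M : GL ι F => (M : Matrix ι ι F) *ᵥ vecMap σ v) (eq_mul_inv_iff_mul_eq.1 hk)
    simp only [Units.val_mul, coe_mapGLι, ← mulVec_mulVec, vecMap_mulVec] at e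
    exact e
  let Qk : QuadraticForm F (ι → F) := Q.comp (Matrix.toLin' (k : Matrix ι ι F))
  have hQk : ∀ v, Qk v = Q ((k : Matrix ι ι F) *ᵥ v) := fun v => by simp [Qk]
  have hμ : ∀ v, Qk (vecMap σ v) = (simMu g' : F) * σ (Qk v) := fun v => by
    rw [hQk, hQk, ← hkσ, simMu_spec]
    exact congrArg _ (hσ _)
  have hiter : ∀ (i : ℕ) (v : ι → F), Qk (vecMap (σ ^ i) v) =
      (∏ k ∈ Finset.range i, (σ ^ k) (simMu g' : F)) * (σ ^ i) (Qk v) := by
    intro i
    induction i with
    | zero => intro v; rw [pow_zero, Finset.range_zero, Finset.prod_empty, one_mul]; rfl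
    | succ i ih =>
      intro v
      have e : vecMap (σ ^ (i + 1)) v = vecMap σ (vecMap (σ ^ i) v) :=
        funext fun l => by simp [vecMap, pow_succ']
      rw [e, hμ, ih, Finset.prod_range_succ', map_mul, map_prod, pow_zero, RingAut.one_apply, pow_succ']
      have e1 : ∀ k : ℕ, σ ((σ ^ k) (simMu g' : F)) = (σ ^ (k + 1)) (simMu g' : F) := fun k => by
        rw [pow_succ']; rfl
      simp only [e1]
      show _ = _ * σ ((σ ^ i) (Qk v))
      ring
  have hnorm : normUnits σ (simMu g') = 1 := by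
    obtain ⟨v₁, hv₁⟩ := exists_ne_zero hQ h5
    set v₀ := ((k⁻¹ : GL ι F) : Matrix ι ι F) *ᵥ v₁
    have hv₀ : Qk v₀ ≠ 0 := by
      rw [hQk, mulVec_mulVec, ← Units.val_mul, mul_inv_cancel, Units.val_one, one_mulVec]; exact hv₁
    have h1 := hiter (orderOf σ) v₀
    rw [pow_orderOf_eq_one] at h1
    have h2 : vecMap (1 : F ≃+* F) v₀ = v₀ := rfl
    rw [h2, RingAut.one_apply, eq_comm, mul_eq_right₀ hv₀] at h1
    apply Units.ext
    simpa [normUnits] using h1
  obtain ⟨z, hz⟩ := hilbert90_units σ hr hnorm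
  let Q₁ : QuadraticForm F (ι → F) := ((z⁻¹ : Fˣ) : F) • Qk
  have hQ₁ : ∀ v, Q₁ v = (z : F)⁻¹ * Qk v := fun v => by
    simp [Q₁]
  have hinv : σ ∈ invAut Q₁ := fun v => by
    have h1 := hμ v
    rw [hz] at h1
    show Q₁ (vecMap σ v) = σ (Q₁ v)
    rw [hQ₁, hQ₁, h1, map_mul, map_inv₀]
    simp only [Units.val_mul, Units.val_inv_eq_inv_val, Units.coe_map]
    have hσz : σ (z : F) ≠ 0 := (map_ne_zero σ).2 z.ne_zero
    show (z : F)⁻¹ * ((z : F) * (σ (z : F))⁻¹ * σ (Qk v)) = _
    field_simp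
  obtain ⟨R, hR⟩ := descend_form hj hinv
  let T : (ι → F) ≃ₗ[F] (ι → F) := glEquiv k
  refine ⟨T, w, z, R, nondeg_descend hR (nondeg_of_left _ fun u hu => ?_), fun v => ?_, fun v => ?_⟩
  · have h1 : T u = 0 := hQ.1 _ fun y => by
      obtain ⟨y, rfl⟩ := T.surjective y
      have := hu y
      simp only [polB_apply, QuadraticMap.polar, hQ₁, hQk] at this ⊢
      rw [← mul_sub, ← mul_sub, mul_eq_zero, inv_eq_zero] at this
      have := this.resolve_left z.ne_zero
      rw [← map_add, glEquiv_apply, glEquiv_apply, glEquiv_apply]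
      exact this
    exact T.injective (by rw [h1, map_zero])
  · have hgg : g = scalarHom Q w * g' := by rw [hg', ← mul_assoc, ← map_mul, mul_inv_cancel, map_one, one_mul]
    rw [glEquiv_apply, glEquiv_apply, hgg, Subgroup.coe_mul, Units.val_mul, ← mulVec_mulVec, hkσ,
      scalarHom_mulVec]
  · rw [← hR, hQ₁, hQk, glEquiv_apply, mul_inv_cancel_left₀ z.ne_zero]

/-- A change of coordinates over the small field, extended. -/
noncomputable def liftEquiv (j : K →+* F) (W : (κ → K) ≃ₗ[K] (ι → K)) : (κ → F) ≃ₗ[F] (ι → F) :=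
  LinearEquiv.ofLinearMap (Matrix.toLin' ((LinearMap.toMatrix' W.toLinearMap).map j))
    (Matrix.toLin' ((LinearMap.toMatrix' W.symm.toLinearMap).map j))
    (by rw [← Matrix.toLin'_mul, ← Matrix.map_mul, ← LinearMap.toMatrix'_comp, LinearEquiv.comp_coe,
      LinearEquiv.symm_trans_self, LinearEquiv.refl_toLinearMap, LinearMap.toMatrix'_id,
      Matrix.map_one _ (map_zero j) (map_one j), Matrix.toLin'_one])
    (by rw [← Matrix.toLin'_mul, ← Matrix.map_mul, ← LinearMap.toMatrix'_comp, LinearEquiv.comp_coe,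
      LinearEquiv.self_trans_symm, LinearEquiv.refl_toLinearMap, LinearMap.toMatrix'_id,
      Matrix.map_one _ (map_zero j) (map_one j), Matrix.toLin'_one])

theorem liftEquiv_jVec (W : (κ → K) ≃ₗ[K] (ι → K)) (v : κ → K) :
    liftEquiv j W (jVec j v) = jVec j (W v) := by
  show (LinearMap.toMatrix' W.toLinearMap).map j *ᵥ jVec j v = _
  refine (map_mulVec j (LinearMap.toMatrix' W.toLinearMap) v).trans ?_
  rw [LinearMap.toMatrix'_mulVec]
  rfl

theorem liftEquiv_vecMap (hj : FixHom σ j) (W : (κ → K) ≃ₗ[K] (ι → K)) (v : κ → F) :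
    liftEquiv j W (vecMap σ v) = vecMap σ (liftEquiv j W v) := by
  show (LinearMap.toMatrix' W.toLinearMap).map j *ᵥ vecMap σ v =
    vecMap σ ((LinearMap.toMatrix' W.toLinearMap).map j *ᵥ v)
  rw [← vecMap_mulVec]
  congr 1
  ext a b
  exact (hj.map _).symm

/-- Replace the descended form by an equivalent one. -/
theorem twist_reduce (hj : FixHom σ j) {Q : QuadraticForm F (ι → F)} {g : GL ι F}
    {T : (ι → F) ≃ₗ[F] (ι → F)} {c z : Fˣ} {R : QuadraticForm K (ι → K)}
    (hT : Twist σ g T c) (hR : ∀ v, Q (T (jVec j v)) = (z : F) * j (R v))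
    {R' : QuadraticForm K (κ → K)} {Q' : QuadraticForm F (κ → F)}
    (hQ' : ∀ v, Q' (jVec j v) = j (R' v))
    (W : (κ → K) ≃ₗ[K] (ι → K)) (d : Kˣ) (hW : ∀ v, R (W v) = (d : K) * R' v) :
    ∃ (T' : (κ → F) ≃ₗ[F] (ι → F)) (z' : Fˣ),
      Twist σ g T' c ∧ ∀ v, Q (T' v) = (z' : F) * Q' v := by
  refine ⟨(liftEquiv j W).trans T, z * Units.map j.toMonoidHom d, fun v => ?_, fun v => ?_⟩
  · rw [LinearEquiv.trans_apply, LinearEquiv.trans_apply, hT, liftEquiv_vecMap hj]
  · have := qext (A := Q.comp ((liftEquiv j W).trans T).toLinearMap)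
      (B := (((z * Units.map j.toMonoidHom d : Fˣ) : F)) • Q') (jVec (ι := κ) j) (span_jVec j)
      (fun v => by
        simp only [QuadraticMap.comp_apply, QuadraticMap.smul_apply, smul_eq_mul, LinearEquiv.coe_coe,
          LinearEquiv.trans_apply]
        rw [liftEquiv_jVec, hR, hW, hQ', map_mul, Units.val_mul, mul_assoc]
        rfl) v
    simpa using this

end PO

end H55
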