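import Cfsg.Agent.H55.POTwist
import Cfsg.Agent.H55.SplitCount
import Cfsg.Agent.H55.PSLField
import Cfsg.Agent.H43.AutPO.Gamma

/-!
Field and graph-field automorphisms of orthogonal groups as semilinear elements; centralizers.
-/

set_option autoImplicit false

namespace H55

namespace PO

open Matrix H43 H44

variable {F : Type*} [Field F] {ι κ : Type} [Fintype ι] [DecidableEq ι] [Fintype κ] [DecidableEq κ]
  {Q : QuadraticForm F (ι → F)} {Q' : QuadraticForm F (κ → F)}

theorem vecMap_comm [Finite F] (σ τ : F ≃+* F) : σ * τ = τ * σ := ringAut_comm σ τ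

theorem invAut_comm [Finite F] (σ τ : invAut Q) : σ * τ = τ * σ := Subtype.ext (ringAut_comm σ.1 τ.1)

theorem simAut_mul_eq (g : simG Q) (σ : invAut Q) (u : simG Q) :
    simAut Q u * (simAut Q g * fieldPO Q σ) * (simAut Q u)⁻¹ =
      simAut Q (u * g * (simMap σ u)⁻¹) * fieldPO Q σ := by
  rw [map_mul, map_mul, map_inv, mul_inv_eq_iff_eq_mul, mul_assoc (_ * _) (fieldPO Q σ), fieldPO_mul_simAut]
  group

theorem semilinear_exponent [Finite F] (hQ : (polB Q).Nondegenerate) (h5 : 5 ≤ Fintype.card ι)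
    {σ : invAut Q} {g : simG Q} {r : ℕ} (h : (simAut Q g * fieldPO Q σ) ^ r = 1) :
    σ ^ r = 1 ∧ ∃ c, twProd σ.1 g.1 r = GeneralLinearGroup.scalar ι c := by
  obtain ⟨G, hG, hp⟩ := semilinear_pow σ g r
  rw [h] at hp
  obtain ⟨h1, c, hc⟩ := semilinear_eq_one hQ h5 hp.symm
  exact ⟨h1, c, by rw [← hG, hc]; rfl⟩

theorem orderOf_field [Finite F] (hQ : (polB Q).Nondegenerate) (h5 : 5 ≤ Fintype.card ι)
    {σ : invAut Q} (hσ : σ.1 ≠ RingEquiv.refl F) {g : simG Q} {r : ℕ} (hr : r.Prime)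
    (h : orderOf (simAut Q g * fieldPO Q σ) = r) : orderOf σ.1 = r := by
  have h1 := (semilinear_exponent hQ h5 (r := r) (by rw [← h, pow_orderOf_eq_one])).1
  haveI := Fact.mk hr
  exact orderOf_eq_prime (congrArg Subtype.val h1) hσ

/-- Every automorphism is induced by a semisimilarity. -/
theorem exists_pair [Finite F] (hG : AutPO.Good Q) (γ : MulAut (Cfsg.POmega F ⇑Q)) :
    ∃ (g : GL ι F) (τ : F ≃+* F), Cfsg.IsSemisimilarityPair ⇑Q g τ ∧
      Cfsg.IsInducedBySemilinearPOmega ⇑Q g τ γ := by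
  obtain ⟨g, hg⟩ := AutPO.exists_semi hG
    (((H43.pomegaEquiv Q).symm.trans γ).trans (H43.pomegaEquiv Q) : MulAut (AutPO.POm Q))
  refine ⟨AutPO.semiMatrix g, g.σ, AutPO.isSemisimilarityPair_semiMatrix g,
    AutPO.isInduced_semiMatrix g γ fun x => ?_⟩
  rw [hg]
  show _ = H43.pomegaEquiv Q (γ ((H43.pomegaEquiv Q).symm (H43.pomegaEquiv Q x)))
  rw [MulEquiv.symm_apply_apply]

/-- The automorphism of a pair over a field automorphism fixing the form. -/
theorem eq_of_induced {g : GL ι F} {τ : invAut Q} {β : MulAut (Cfsg.POmega F ⇑Q)}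
    (hp : Cfsg.IsSemisimilarityPair ⇑Q g τ.1) (hi : Cfsg.IsInducedBySemilinearPOmega ⇑Q g τ.1 β) :
    ∃ u : simG Q, u.1 = g ∧ β = simAut Q u * fieldPO Q τ := by
  obtain ⟨c, hc⟩ := hp
  have hu : g ∈ simG Q := ⟨c, fun w => by
    obtain ⟨v, rfl⟩ := vec_surj τ.1 w
    rw [show Q (vecMap τ.1 v) = τ.1 (Q v) from τ.2 v]
    exact hc v⟩
  refine ⟨⟨g, hu⟩, rfl, MulEquiv.ext fun x => ?_⟩
  induction x using QuotientGroup.induction_on with
  | _ s =>
    obtain ⟨s', hs', e⟩ := coe_semilinear τ ⟨g, hu⟩ s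
    rw [e]
    exact hi s s' (by rw [hs', Units.val_mul, Units.val_mul]; rfl)

/-- A conjugate of `C σ` is a semilinear element over `σ` in the same coset. -/
theorem class_decomp [Finite F] (hG : AutPO.Good Q) (hinv : ∀ τ : F ≃+* F, τ ∈ invAut Q)
    {M : Type*} [CommGroup M] (χ : simG Q →* M) (hχ : ∀ (τ : invAut Q) g, χ (simMap τ g) = χ g)
    {x α : MulAut (Cfsg.POmega F ⇑Q)} (C : simG Q) (σ : invAut Q)
    (hx : α * x * α⁻¹ = simAut Q C * fieldPO Q σ) :
    ∃ g : simG Q, χ g = χ C ∧ x = simAut Q g * fieldPO Q σ := by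
  obtain ⟨g, τ, hp, hi⟩ := exists_pair hG α⁻¹
  obtain ⟨u, -, hu⟩ := eq_of_induced (τ := ⟨τ, hinv τ⟩) hp hi
  refine ⟨u * simMap ⟨τ, hinv τ⟩ C * (simMap σ u)⁻¹, ?_, ?_⟩
  · rw [map_mul, map_mul, map_inv, hχ, hχ, mul_comm (χ u), mul_inv_cancel_right]
  have hxα : x = α⁻¹ * (simAut Q C * fieldPO Q σ) * α⁻¹⁻¹ := by rw [← hx]; group
  set t := fieldPO Q ⟨τ, hinv τ⟩
  have e : t * (simAut Q C * fieldPO Q σ) * t⁻¹ = simAut Q (simMap ⟨τ, hinv τ⟩ C) * fieldPO Q σ := by
    rw [← mul_assoc, fieldPO_mul_simAut, mul_assoc (simAut Q _), mul_assoc (simAut Q _), ← map_inv,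
      ← map_mul, ← map_mul, invAut_comm ⟨τ, hinv τ⟩ σ, mul_inv_cancel_right]
  rw [hxα, hu, ← simAut_mul_eq, ← e]
  group

/-! ### Centralizers -/

section Centralizer

variable [Finite F] (σ : invAut Q)

theorem centralizes_iff (hQ : (polB Q).Nondegenerate) (h5 : 5 ≤ Fintype.card ι) (g : simG Q) :
    simAut Q g * fieldPO Q σ * (simAut Q g)⁻¹ = fieldPO Q σ ↔
      ∃ c h, simMap σ h = h ∧ g = scalarHom Q c * h := by
  haveI : Finite (F ≃+* F) := Finite.of_injective _ DFunLike.coe_injective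
  haveI : Nonempty ι := Fintype.card_pos_iff.1 (by omega)
  have hinj : Function.Injective (GeneralLinearGroup.scalar ι : Fˣ → GL ι F) := by
    intro a b e
    obtain ⟨i⟩ := (inferInstance : Nonempty ι)
    have := congrArg (fun M : GL ι F => (M : Matrix ι ι F) i i) e
    simp at this
    exact Units.ext this
  constructor
  · intro h
    rw [mul_inv_eq_iff_eq_mul, fieldPO_mul_simAut] at h
    have h1 : simAut Q (g⁻¹ * simMap σ g) = 1 := by
      rw [map_mul, map_inv, ← mul_right_cancel h, inv_mul_cancel]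
    obtain ⟨c, hc⟩ := (simAut_eq_one_iff hQ h5 _).1 h1
    have hgc : simMap σ g = g * scalarHom Q c := by rw [← hc, mul_inv_cancel_left]
    have hk : ∀ k : ℕ, mapGLι (σ.1 ^ k) g.1 = g.1 * twProd σ.1 (GeneralLinearGroup.scalar ι c) k := by
      intro k
      induction k with
      | zero => simp [twProd, mapGLι_one]
      | succ k ih =>
        rw [pow_succ', mapGLι_mul, ih, map_mul, ← coe_simMap, hgc, twProd_succ]
        show g.1 * GeneralLinearGroup.scalar ι c * _ = _
        rw [mul_assoc]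
    have hN : normUnits σ.1 c = 1 := by
      have := hk (orderOf σ.1)
      rw [pow_orderOf_eq_one, mapGLι_one, twProd_one_by_one, eq_comm, mul_eq_left] at this
      rw [← map_one (GeneralLinearGroup.scalar ι)] at this
      exact hinj this
    obtain ⟨w, hw⟩ := hilbert90_units σ.1 (orderOf_pos σ.1) hN
    refine ⟨w⁻¹, scalarHom Q w * g, ?_, by rw [← mul_assoc, ← map_mul, inv_mul_cancel, map_one, one_mul]⟩
    rw [map_mul, simMap_scalar, hgc, ← scalarHom_central c g, ← mul_assoc, ← map_mul]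
    congr 2
    rw [hw, mul_left_comm, mul_inv_cancel, mul_one]
  · rintro ⟨c, h, hh, rfl⟩
    rw [map_mul, scalarHom_mem_ker, one_mul, mul_inv_eq_iff_eq_mul, fieldPO_mul_simAut, hh]

variable {K : Type*} [Field K] [Finite K]

/-- The centralizer of a field automorphism is the group of similarities over the fixed field. -/
theorem centralizer_field (hQ : (polB Q).Nondegenerate) (h5 : 5 ≤ Fintype.card ι) {j : K →+* F}
    (hj : FixHom σ.1 j) {R : QuadraticForm K (ι → K)} (hR : ∀ v, Q (jVec j v) = j (R v))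
    (X : Subgroup (simG Q)) (hX : ∀ c, scalarHom Q c ∈ X) (Y : Subgroup (simG R))
    (hY : ∀ y, (baseExt hR).sim y ∈ X ↔ y ∈ Y) :
    Nonempty (↥(X.map (simAut Q) ⊓ Subgroup.centralizer {fieldPO Q σ}) ≃* ↥(Y.map (simAut R))) := by
  have hRn := nondeg_descend hR hQ
  obtain ⟨v₀, hv₀⟩ := exists_ne_zero hRn h5
  let θ : Y →* X := MonoidHom.codRestrict ((baseExt hR).sim.comp Y.subtype) X fun y => (hY y.1).2 y.2
  set Φ := (simAut Q).comp X.subtype
  have hker : ∀ y : Y, Φ (θ y) = 1 ↔ simAut R y.1 = 1 := by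
    intro y
    rw [simAut_eq_one_iff hRn h5]
    show simAut Q ((baseExt hR).sim y.1) = 1 ↔ _
    rw [simAut_eq_one_iff hQ h5]
    constructor
    · rintro ⟨c, hc⟩
      obtain ⟨v₁, hv₁⟩ : ∃ v : ι → K, v ≠ 0 := ⟨v₀, fun e => hv₀ (by rw [e, map_zero])⟩
      obtain ⟨i, hi⟩ : ∃ i, v₁ i ≠ 0 := Function.ne_iff.1 hv₁
      have hv : ∀ v, jVec j ((y.1.1 : Matrix ι ι K) *ᵥ v) = (c : F) • jVec j v := fun v => by
        have := (baseExt hR).sim_mulVec y.1 v
        rw [hc] at this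
        exact this.symm.trans (scalarHom_mulVec c _)
      have hci : (c : F) = j (((y.1.1 : Matrix ι ι K) *ᵥ v₁) i / v₁ i) := by
        rw [map_div₀, eq_div_iff ((map_ne_zero j).2 hi)]
        exact (congrFun (hv v₁) i).symm
      have hne : ((y.1.1 : Matrix ι ι K) *ᵥ v₁) i / v₁ i ≠ 0 := fun e => c.ne_zero (by rw [hci, e, map_zero])
      refine ⟨Units.mk0 _ hne, simG_ext fun v => jVec_injective j ?_⟩
      rw [hv, scalarHom_mulVec, Units.val_mk0, jVec_smul, hci]
    · rintro ⟨c, hc⟩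
      exact ⟨_, by rw [hc, Ext.sim_scalar]⟩
  refine ⟨(nonempty_centralizer_mulEquiv Φ (H := X.map (simAut Q)) ?_ (fieldPO Q σ) θ
    ((simAut R).comp Y.subtype).ker ?_ hker).some.trans ?_⟩
  · rw [MonoidHom.range_comp, Subgroup.range_subtype]
  · ext β
    constructor
    · rintro ⟨g, hg, rfl⟩
      have hg' := mem_preCentralizer.1 hg
      obtain ⟨c, h, hh, hgh⟩ := (centralizes_iff σ hQ h5 g.1).1 hg'
      obtain ⟨y, hy⟩ := exists_sim hj hR hv₀ (g := h) (congrArg Subtype.val hh)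
      have hyY : y ∈ Y := (hY y).1 (by
        rw [hy, show h = (scalarHom Q c)⁻¹ * g.1 by rw [hgh, inv_mul_cancel_left]]
        exact mul_mem (inv_mem (hX c)) g.2)
      refine ⟨θ ⟨y, hyY⟩, ⟨⟨y, hyY⟩, rfl⟩, ?_⟩
      show simAut Q ((baseExt hR).sim y) = simAut Q g.1
      rw [hy, hgh, map_mul, scalarHom_mem_ker, one_mul]
    · rintro ⟨_, ⟨y, rfl⟩, rfl⟩
      refine ⟨θ y, mem_preCentralizer.2 ((centralizes_iff σ hQ h5 _).2
        ⟨1, _, Subtype.ext ?_, by rw [map_one, one_mul]⟩), rfl⟩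
      show mapGLι σ.1 (Matrix.GeneralLinearGroup.map j y.1.1) = Matrix.GeneralLinearGroup.map j y.1.1
      exact Units.ext (Matrix.ext fun a b => hj.map _)
  · exact (QuotientGroup.quotientKerEquivRange _).trans (MulEquiv.subgroupCongr (by
      rw [MonoidHom.range_comp, Subgroup.range_subtype]))

end Centralizer

/-! ### Transport along coordinate changes -/

section Transport

variable {T : (κ → F) ≃ₗ[F] (ι → F)} {z : Fˣ} (hT : ∀ v, Q (T v) = (z : F) * Q' v)

/-- The isomorphism of projective groups of a coordinate change. -/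
noncomputable abbrev trIso : Cfsg.POmega F ⇑Q' ≃* Cfsg.POmega F ⇑Q :=
  pIso (glConj T) (glConj_mem_isometry T z.ne_zero hT)

theorem autConj_trIso (g : simG Q') :
    autConj (trIso hT) (simAut Q' g) = simAut Q ((extOfEquiv T z hT).sim g) :=
  pIso_simAut (glConj T) (glConj_mem_isometry T z.ne_zero hT) g _

theorem sim_equiv_surjective (g : simG Q) : ∃ g' : simG Q', (extOfEquiv T z hT).sim g' = g :=
  ⟨⟨(glConj T).symm g.1, (glConj_mem_simG T z.ne_zero hT _).1 (by rw [MulEquiv.apply_symm_apply]; exact g.2)⟩,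
    Subtype.ext ((glConj T).apply_symm_apply g.1)⟩

theorem map_keep [Finite F] {n : ℕ} (h' : EvQ Q' n) (h : EvQ Q n) :
    ((keep h').map (simAut Q')).map (autConj (trIso hT)).toMonoidHom = (keep h).map (simAut Q) := by
  ext β
  constructor
  · rintro ⟨_, ⟨g, hg, rfl⟩, rfl⟩
    exact ⟨_, by rw [SetLike.mem_coe, mem_keep, swapH_sim _ h' h]; exact hg, (autConj_trIso hT g).symm⟩
  · rintro ⟨g, hg, rfl⟩
    obtain ⟨g', rfl⟩ := sim_equiv_surjective hT g
    rw [SetLike.mem_coe, mem_keep, swapH_sim _ h' h] at hg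
    exact ⟨_, ⟨g', hg, rfl⟩, autConj_trIso hT g'⟩

end Transport

/-- Conjugation inside a subgroup fixes the statistics. -/
theorem conj_invariants {A : Type*} [Group A] (H : Subgroup (MulAut A)) {a : MulAut A} (ha : a ∈ H)
    (x : MulAut A) :
    Nonempty (↥(H ⊓ Subgroup.centralizer {a * x * a⁻¹}) ≃* ↥(H ⊓ Subgroup.centralizer {x})) ∧
      Cfsg.splitClassCount H (Cfsg.Inn A) (a * x * a⁻¹) = Cfsg.splitClassCount H (Cfsg.Inn A) x := by
  have hH : H.map (autConj (a : A ≃* A)).toMonoidHom = H := by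
    ext y
    rw [Subgroup.mem_map_equiv]
    have e : (autConj (a : A ≃* A)).symm y = a⁻¹ * y * a := rfl
    rw [e]
    constructor
    · intro h
      have := mul_mem (mul_mem ha h) (inv_mem ha)
      simpa [mul_assoc] using this
    · exact fun h => mul_mem (mul_mem (inv_mem ha) h) ha
  constructor
  · have := centralizer_equiv (autConj (a : A ≃* A)) H x
    rw [hH, autConj_self] at this
    exact ⟨this.some.symm⟩
  · have := splitClassCount_map (autConj (a : A ≃* A)) H (Cfsg.Inn A) x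
    rwa [hH, map_Inn, autConj_self] at this

end PO

end H55
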