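import Cfsg.Agent.H55.POSwap

/-!
The invariant is the action on the two classes of maximal singular subspaces; inner-diagonal groups.
-/

set_option autoImplicit false

universe u

namespace H55

namespace PO

open Matrix H43 H44

section Plus

variable {F : Type*} [Field F] [Finite F] {m : ℕ}

theorem evQ_plus (hm : 3 ≤ m) : EvQ (qPlus m F) m := ⟨qPlus_nondeg m, by simp; ring, hm⟩

/-- The invariant is trivial exactly on the similarities preserving the classes. -/
theorem preserves_plus_iff (h : EvQ (qPlus m F) m) (g : simG (qPlus m F)) :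
    Cfsg.PreservesSingularClasses ⇑(qPlus m F) (g.1 : Matrix (Fin m ⊕ Fin m) (Fin m ⊕ Fin m) F) ↔
      swapH h g = 1 := by
  by_cases h2 : (2 : F) = 0
  · obtain ⟨c, x, rfl⟩ := exists_two_decomp h2 g
    rw [map_mul, swapH_scalar, one_mul, swapH_orth]
    have himg : ∀ U : Submodule F (Fin m ⊕ Fin m → F),
        Cfsg.imageSubmodule ((scalarHom (qPlus m F) c * orthSim (qPlus m F) x).1 :
          Matrix (Fin m ⊕ Fin m) (Fin m ⊕ Fin m) F) U = U.map (x.1 : _ →ₗ[F] _) := by
      intro U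
      ext w
      constructor
      · rintro ⟨u, hu, rfl⟩
        refine ⟨(c : F) • u, U.smul_mem _ hu, ?_⟩
        rw [toLin'_apply, Subgroup.coe_mul, Units.val_mul, ← mulVec_mulVec, scalarHom_mulVec, orthSim_mulVec,
          map_smul]
        rfl
      · rintro ⟨u, hu, rfl⟩
        refine ⟨(c : F)⁻¹ • u, U.smul_mem _ hu, ?_⟩
        rw [toLin'_apply, Subgroup.coe_mul, Units.val_mul, ← mulVec_mulVec, scalarHom_mulVec, orthSim_mulVec,
          map_smul, smul_smul, mul_inv_cancel₀ c.ne_zero, one_smul]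
        rfl
    have key : ∀ U, IsTS (qPlus m F) m U →
        (Cfsg.SameParityClass U (U.map (x.1 : _ →ₗ[F] _)) ↔ dickson x = 1) := by
      intro U hU
      have := even_inf_map_iff h.nondeg h.gen (finrank_qPlus m) x hU.2 hU.2 hU.1 hU.1
      rw [inf_idem, hU.1, Nat.sub_self] at this
      rw [Cfsg.SameParityClass, hU.1, this]
      simp
    constructor
    · intro hp
      have := hp _ ((isMaxTS_iff _).2 (stdTS_isTS m F))
      rw [himg] at this
      exact (key _ (stdTS_isTS m F)).1 this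
    · intro he U hU
      rw [himg]
      exact (key U ((isMaxTS_iff U).1 hU)).2 he
  · rw [H44.preserves_iff (h.evenQ h2)]
    exact (swapFun_odd h h2 g).symm

theorem inndiag_plus_keep (h : EvQ (qPlus m F) m) :
    Cfsg.autSubgroupOf (X := Cfsg.POmega F ⇑(qPlus m F)) (fun β => ∃ g : GL (Fin m ⊕ Fin m) F,
      g ∈ simG (qPlus m F) ∧ Cfsg.PreservesSingularClasses ⇑(qPlus m F) (g : Matrix (Fin m ⊕ Fin m) (Fin m ⊕ Fin m) F) ∧
      Cfsg.IsInducedBySemilinearPOmega ⇑(qPlus m F) g (RingEquiv.refl F) β) =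
    (keep h).map (simAut (qPlus m F)) := by
  refine autSubgroupOf_eq _ fun β => ⟨?_, ?_⟩
  · rintro ⟨g, hg, hc, hi⟩
    exact ⟨⟨g, hg⟩, (preserves_plus_iff h ⟨g, hg⟩).1 hc, hi⟩
  · rintro ⟨g, hg, hi⟩
    exact ⟨g.1, g.2, (preserves_plus_iff h g).2 hg, hi⟩

end Plus

section Minus

variable {F : Type u} [Field F] [Finite F] {m : ℕ} {a b : F}

theorem evQ_minus (hm : 2 ≤ m) (hab : ∀ z₁ z₂ : F, z₁ ^ 2 + a * z₁ * z₂ + b * z₂ ^ 2 = 0 → z₁ = 0 ∧ z₂ = 0) :
    EvQ (qMinus m F a b) (m + 1) :=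
  ⟨qMinus_nondeg m hab, by simp; ring, by omega⟩

omit [Finite F] in
theorem irreducible_binary (hab : ∀ z₁ z₂ : F, z₁ ^ 2 + a * z₁ * z₂ + b * z₂ ^ 2 = 0 → z₁ = 0 ∧ z₂ = 0) :
    Irreducible (Polynomial.X ^ 2 + Polynomial.C a * Polynomial.X + Polynomial.C b) ∧
      (Polynomial.X ^ 2 + Polynomial.C a * Polynomial.X + Polynomial.C b).natDegree = 2 := by
  set f : Polynomial F := Polynomial.X ^ 2 + Polynomial.C a * Polynomial.X + Polynomial.C b
  have hmon : f.Monic := by simp only [f]; monicity!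
  have hdeg : f.natDegree = 2 := by simp only [f]; compute_degree!
  refine ⟨?_, hdeg⟩
  rw [hmon.irreducible_iff_roots_eq_zero_of_degree_le_three (by omega) (by omega)]
  refine Multiset.eq_zero_of_forall_notMem fun z hz => ?_
  rw [Polynomial.mem_roots hmon.ne_zero] at hz
  simp [f, Polynomial.IsRoot] at hz
  have := hab z 1 (by linear_combination hz)
  exact one_ne_zero this.2

/-- An irreducible binary part splits in a quadratic extension. -/
theorem exists_roots (hab : ∀ z₁ z₂ : F, z₁ ^ 2 + a * z₁ * z₂ + b * z₂ ^ 2 = 0 → z₁ = 0 ∧ z₂ = 0)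
    (K : Type u) [Field K] [Algebra F K] (hK : Module.finrank F K = 2) :
    ∃ r r' : K, r ≠ r' ∧ r + r' = -algebraMap F K a ∧ r * r' = algebraMap F K b := by
  classical
  obtain ⟨hirr, hdeg⟩ := irreducible_binary hab
  set f : Polynomial F := Polynomial.X ^ 2 + Polynomial.C a * Polynomial.X + Polynomial.C b with hf
  haveI : Fact (Irreducible f) := ⟨hirr⟩
  haveI : Module.Finite F K := Module.finite_of_finrank_eq_succ hK
  haveI : Finite K := Module.finite_of_finite F
  haveI : Module.Finite F (AdjoinRoot f) := (AdjoinRoot.powerBasis hirr.ne_zero).finite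
  haveI : Finite (AdjoinRoot f) := Module.finite_of_finite F
  have h2 : Module.finrank F (AdjoinRoot f) = 2 := by
    rw [(AdjoinRoot.powerBasis hirr.ne_zero).finrank, AdjoinRoot.powerBasis_dim, hdeg]
  obtain ⟨φ⟩ := FiniteField.nonempty_algHom_of_finrank_dvd (F := F) (K := AdjoinRoot f) (L := K)
    (by rw [h2, hK])
  set r := φ (AdjoinRoot.root f)
  have hr : r ^ 2 + algebraMap F K a * r + algebraMap F K b = 0 := by
    have h0 : Polynomial.aeval (AdjoinRoot.root f) f = 0 := by rw [AdjoinRoot.aeval_eq, AdjoinRoot.mk_self]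
    have h1 := congrArg φ h0
    rw [← Polynomial.aeval_algHom_apply, map_zero] at h1
    simpa [hf, r] using h1
  refine ⟨r, -algebraMap F K a - r, fun e => ?_, by ring, by linear_combination -hr⟩
  have h3 : algebraMap F K (a ^ 2 - 4 * b) = 0 := by
    rw [map_sub, map_mul, map_pow, map_ofNat]
    linear_combination (2 * r + algebraMap F K a) * e - 4 * hr
  exact disc_ne_zero_of_anisotropic hab ((map_eq_zero _).1 h3)

omit [Finite F] in
theorem exists_quadratic (hab : ∀ z₁ z₂ : F, z₁ ^ 2 + a * z₁ * z₂ + b * z₂ ^ 2 = 0 → z₁ = 0 ∧ z₂ = 0) :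
    ∃ (K : Type u) (_ : Field K) (_ : Algebra F K), Module.finrank F K = 2 := by
  obtain ⟨hirr, hdeg⟩ := irreducible_binary hab
  haveI : Fact (Irreducible (Polynomial.X ^ 2 + Polynomial.C a * Polynomial.X + Polynomial.C b)) := ⟨hirr⟩
  exact ⟨AdjoinRoot (Polynomial.X ^ 2 + Polynomial.C a * Polynomial.X + Polynomial.C b), inferInstance,
    inferInstance, by rw [(AdjoinRoot.powerBasis hirr.ne_zero).finrank, AdjoinRoot.powerBasis_dim, hdeg]⟩

omit [Finite F] in
theorem qMinus_map {K : Type*} [Field K] (j : F →+* K) (v : (Fin m ⊕ Fin m) ⊕ Fin 2 → F) :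
    qMinus m K (j a) (j b) (fun i => j (v i)) = j (qMinus m F a b v) := by
  rw [coe_qMinus, coe_qMinus]
  simp [Cfsg.quadFormMinus]

theorem preserves_minus_iff (h : EvQ (qMinus m F a b) (m + 1))
    (hab : ∀ z₁ z₂ : F, z₁ ^ 2 + a * z₁ * z₂ + b * z₂ ^ 2 = 0 → z₁ = 0 ∧ z₂ = 0)
    (g : simG (qMinus m F a b)) :
    Cfsg.PreservesSingularClassesMinus m a b (g.1 : Matrix ((Fin m ⊕ Fin m) ⊕ Fin 2) ((Fin m ⊕ Fin m) ⊕ Fin 2) F) ↔
      swapH h g = 1 := by
  have key : ∀ (K : Type u) [Field K] [Algebra F K], Module.finrank F K = 2 →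
      (Cfsg.PreservesSingularClasses (Cfsg.quadFormMinus m K (algebraMap F K a) (algebraMap F K b))
        ((g.1 : Matrix ((Fin m ⊕ Fin m) ⊕ Fin 2) ((Fin m ⊕ Fin m) ⊕ Fin 2) F).map (algebraMap F K)) ↔
          swapH h g = 1) := by
    intro K _ _ hK
    haveI : Module.Finite F K := Module.finite_of_finrank_eq_succ hK
    haveI : Finite K := Module.finite_of_finite F
    obtain ⟨r, r', hrr, ha, hb⟩ := exists_roots hab K hK
    let Q₂ := qMinus m K (algebraMap F K a) (algebraMap F K b)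
    let T := splitEquiv m hrr
    have hT : ∀ v, qPlus (m + 1) K (T v) = ((1 : Kˣ) : K) * Q₂ v := fun v => by
      rw [Units.val_one, one_mul]
      exact qPlus_splitEquiv hrr ha hb v
    let E₁ : Ext (qMinus m F a b) Q₂ := extOfHom (algebraMap F K) (qMinus_map _)
    let E₂ : Ext Q₂ (qPlus (m + 1) K) := extOfEquiv T 1 hT
    have hP : EvQ (qPlus (m + 1) K) (m + 1) := evQ_plus h.three
    have h₂ : EvQ Q₂ (m + 1) := by
      refine ⟨nondeg_of_left _ fun u hu => ?_, h.card, h.three⟩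
      have hTp : ∀ x y, polB (qPlus (m + 1) K) (T x) (T y) = polB Q₂ x y := fun x y => by
        simp only [polB_apply, QuadraticMap.polar, ← map_add, hT, Units.val_one, one_mul]
      exact T.injective (by
        rw [map_zero]
        exact hP.nondeg.1 _ fun w => by
          obtain ⟨y, rfl⟩ := T.surjective w
          rw [hTp]; exact hu y)
    rw [← coe_qMinus]
    refine (preserves_transport (K := K) _ ⇑(qPlus (m + 1) K) T (fun v => qPlus_splitEquiv hrr ha hb v) _
      ((E₂.sim (E₁.sim g)).1 : Matrix (Fin (m + 1) ⊕ Fin (m + 1)) (Fin (m + 1) ⊕ Fin (m + 1)) K)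
      (fun v => glConj_mulVec T (E₁.sim g).1 v)).trans ?_
    rw [preserves_plus_iff hP, swapH_sim E₂ h₂ hP, swapH_sim E₁ h h₂]
  constructor
  · rintro ⟨K, _, _, hK, hp⟩
    exact (key K hK).1 hp
  · intro he
    obtain ⟨K, i1, i2, hK⟩ := exists_quadratic hab
    exact ⟨K, i1, i2, hK, (key K hK).2 he⟩

theorem inndiag_minus_keep (h : EvQ (qMinus m F a b) (m + 1))
    (hab : ∀ z₁ z₂ : F, z₁ ^ 2 + a * z₁ * z₂ + b * z₂ ^ 2 = 0 → z₁ = 0 ∧ z₂ = 0) :
    Cfsg.autSubgroupOf (X := Cfsg.POmega F ⇑(qMinus m F a b)) (fun β => ∃ g : GL ((Fin m ⊕ Fin m) ⊕ Fin 2) F,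
      g ∈ simG (qMinus m F a b) ∧
      Cfsg.PreservesSingularClassesMinus m a b (g : Matrix ((Fin m ⊕ Fin m) ⊕ Fin 2) ((Fin m ⊕ Fin m) ⊕ Fin 2) F) ∧
      Cfsg.IsInducedBySemilinearPOmega ⇑(qMinus m F a b) g (RingEquiv.refl F) β) =
    (keep h).map (simAut (qMinus m F a b)) := by
  refine autSubgroupOf_eq _ fun β => ⟨?_, ?_⟩
  · rintro ⟨g, hg, hc, hi⟩
    exact ⟨⟨g, hg⟩, (preserves_minus_iff h hab ⟨g, hg⟩).1 hc, hi⟩
  · rintro ⟨g, hg, hi⟩
    exact ⟨g.1, g.2, (preserves_minus_iff h hab g).2 hg, hi⟩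

end Minus

end PO

end H55
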