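import Cfsg.Agent.H55.POBase

/-!
Field automorphisms of `Ω_{2m+1}(q)`.
-/

set_option autoImplicit false

namespace H55

namespace PO

open Matrix H43 H44

variable {F : Type*} [Field F] [Fintype F] {m : ℕ}

theorem odd_five (hm : 3 ≤ m) : 5 ≤ Fintype.card (Unit ⊕ (Fin m ⊕ Fin m)) := by simp; omega

theorem odd_card (m : ℕ) : Odd (Fintype.card (Unit ⊕ (Fin m ⊕ Fin m))) := ⟨m, by simp; ring⟩

theorem odd_pgo : Cfsg.autSubgroupOf (fun β => Cfsg.IsSimilarityInducedAutPOmega (⇑(qOdd m F)) β) =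
    (⊤ : Subgroup (simG (qOdd m F))).map (simAut (qOdd m F)) :=
  (pgoAut_eq (Q := qOdd m F)).trans (MonoidHom.range_eq_map _)

set_option maxHeartbeats 4000000 in
theorem odd_decomp (h2 : (2 : F) ≠ 0) (hm : 3 ≤ m) {x : MulAut (Cfsg.POmega F ⇑(qOdd m F))}
    (hx : Cfsg.IsFieldAutClassPOmega ⇑(qOdd m F) x) {r : ℕ} (hr : r.Prime) (hxr : orderOf x = r) :
    ∃ (σ : F ≃+* F) (u : simG (qOdd m F)), orderOf σ = r ∧
      x = simAut _ u * fieldPO _ ⟨σ, invAut_qOdd σ m⟩ * (simAut _ u)⁻¹ := by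
  obtain ⟨α, φ, σ, hσ, hφ, hα⟩ := hx
  rw [isFieldAutOf_iff ⟨σ, invAut_qOdd σ m⟩] at hφ
  subst hφ
  obtain ⟨g, -, hg⟩ := class_decomp (AutPO.good_qOdd hm h2) (fun τ => invAut_qOdd τ m)
    (1 : simG (qOdd m F) →* Multiplicative (ZMod 2)) (fun _ _ => rfl) 1 ⟨σ, invAut_qOdd σ m⟩
    (show α * x * α⁻¹ = _ by rw [hα, map_one, one_mul])
  subst hg
  have hord : orderOf σ = r := orderOf_field (qOdd_nondeg h2 m) (odd_five hm) hσ hr hxr
  obtain ⟨u, hu⟩ := coset_odd (fixHom_subtype σ) h2 (by omega) g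
    (by rw [hord, ← hxr, pow_orderOf_eq_one])
  exact ⟨σ, u, hord, hu⟩

set_option maxHeartbeats 4000000 in
theorem odd_coset (h2 : (2 : F) ≠ 0) (hm : 3 ≤ m) {x δ : MulAut (Cfsg.POmega F ⇑(qOdd m F))}
    (hx : Cfsg.IsFieldAutClassPOmega ⇑(qOdd m F) x) {r : ℕ} (hr : r.Prime) (hxr : orderOf x = r)
    {H : Subgroup (MulAut (Cfsg.POmega F ⇑(qOdd m F)))}
    (hH : H = Cfsg.autSubgroupOf (fun β => Cfsg.IsSimilarityInducedAutPOmega (⇑(qOdd m F)) β)) (hδ : δ ∈ H) :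
    orderOf (δ * x) = r ↔ Cfsg.IsConjUnder H x (δ * x) := by
  rw [hH, odd_pgo] at hδ ⊢
  constructor
  · intro ho
    obtain ⟨σ, u, hord, hxu⟩ := odd_decomp h2 hm hx hr hxr
    obtain ⟨d, -, rfl⟩ := hδ
    set s : invAut (qOdd m F) := ⟨σ, invAut_qOdd σ m⟩
    have hy : simAut _ d * x = simAut _ (d * (u * 1 * (simMap s u)⁻¹)) * fieldPO _ s := by
      rw [map_mul, mul_assoc, ← simAut_mul_eq, map_one, one_mul, ← hxu]
    obtain ⟨v, hv⟩ := coset_odd (fixHom_subtype σ) h2 (by omega) (d * (u * 1 * (simMap s u)⁻¹))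
      (by rw [← hy, hord, ← ho, pow_orderOf_eq_one])
    refine ⟨simAut _ (v * u⁻¹), ⟨_, trivial, rfl⟩, ?_⟩
    rw [hy, hv, hxu, map_mul, map_inv]
    simp only [s]
    group
  · rintro ⟨h, -, e⟩
    rw [e, ← hxr]
    exact orderOf_injective (MulAut.conj h).toMonoidHom (MulEquiv.injective _) x

set_option maxHeartbeats 4000000 in
theorem odd_invariants (h2 : (2 : F) ≠ 0) (hm : 3 ≤ m) {p f : ℕ} (hp : p.Prime) (hF : Fintype.card F = p ^ f)
    {x : MulAut (Cfsg.POmega F ⇑(qOdd m F))}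
    (hx : Cfsg.IsFieldAutClassPOmega ⇑(qOdd m F) x) {r : ℕ} (hr : r.Prime) (hxr : orderOf x = r)
    (K : Type*) [Field K] [Fintype K] (hK : Fintype.card K = p ^ (f / r))
    {H : Subgroup (MulAut (Cfsg.POmega F ⇑(qOdd m F)))}
    (hH : H = Cfsg.autSubgroupOf (fun β => Cfsg.IsSimilarityInducedAutPOmega (⇑(qOdd m F)) β))
    {H₀ : Subgroup (MulAut (Cfsg.POmega K ⇑(qOdd m K)))}
    (hH₀ : H₀ = Cfsg.autSubgroupOf (fun β => Cfsg.IsSimilarityInducedAutPOmega (⇑(qOdd m K)) β)) :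
    r ∣ f ∧ Nonempty (↥(H ⊓ Subgroup.centralizer {x}) ≃* ↥H₀) ∧
      (Odd r → Cfsg.splitClassCount H (Cfsg.Inn _) x = 1) ∧
      (r = 2 → Cfsg.splitClassCount H (Cfsg.Inn _) x = 2) := by
  have hF' : Nat.card F = p ^ f := by rw [Nat.card_eq_fintype_card, hF]
  obtain ⟨σ, u, hord, rfl⟩ := odd_decomp h2 hm hx hr hxr
  rw [hH, hH₀, odd_pgo, odd_pgo]
  obtain ⟨⟨e₁⟩, hcount⟩ := conj_invariants ((⊤ : Subgroup (simG (qOdd m F))).map (simAut _))
    (Subgroup.mem_map_of_mem _ (Subgroup.mem_top u)) (fieldPO _ ⟨σ, invAut_qOdd σ m⟩)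
  rw [hcount]
  obtain ⟨j, hj⟩ := exists_fixHom σ hp hF' K (by rw [hK, hord])
  have h2K := two_ne_zero_small j h2
  set s : invAut (qOdd m F) := ⟨σ, invAut_qOdd σ m⟩
  have hQ := qOdd_nondeg (F := F) h2 m
  have h5 := odd_five hm
  have hR : ∀ v, qOdd m F (jVec j v) = j (qOdd m K v) := qOdd_jVec j m
  have hgen : ReflGenerates F (Unit ⊕ (Fin m ⊕ Fin m) → F) := H43.reflGenerates_of_two_ne_zero h2
  obtain ⟨v₀, hv₀⟩ := exists_ne_zero hQ h5
  have hdec : ∀ g ∈ (⊤ : Subgroup (simG (qOdd m F))), ∀ w, simMu g = w * w → ∃ c x, c * c = w * w ∧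
      dickson x = 1 ∧ g = scalarHom _ c * orthSim _ x := by
    intro g _ w hw
    obtain ⟨c, x, hx, rfl⟩ := exists_rotation_scalar h2 hQ (odd_card m) g
    exact ⟨c, x, by rw [← hw, simMu_scalar_orth hv₀], (dickson_eq_one_iff hQ h2 x).2 hx, rfl⟩
  have hinn : Cfsg.Inn (Cfsg.POmega F ⇑(qOdd m F)) ≤ (⊤ : Subgroup (simG (qOdd m F))).map (simAut _) := by
    rw [inn_eq]; exact Subgroup.map_mono le_top
  refine ⟨dvd_of_prime hp hF' hord, ?_, fun hodd => ?_, fun h22 => ?_⟩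
  · obtain ⟨e₂⟩ := centralizer_field s hQ h5 hj hR ⊤ (fun _ => trivial) ⊤ (fun _ => iff_of_true trivial trivial)
    exact ⟨e₁.trans e₂⟩
  · obtain ⟨ν, hν⟩ := exists_nonsquare_map hj (hord ▸ hodd) h2
    refine count_eq_one hinn (centralizer_covers (σ := s) hj hR hQ h5 ⊤ (fun _ => trivial) hgen hν
      (fun _ _ => trivial) hdec fun g _ => Or.inl ?_)
    obtain ⟨c, y, -, rfl⟩ := exists_rotation_scalar h2 hQ (odd_card m) g
    rw [simMu_scalar_orth hv₀, map_mul, sqClass_mul_self]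
  · obtain ⟨φ, hφ, hker⟩ := quot_range_odd h2 hQ h5 (odd_card m)
    let e := MulEquiv.subgroupCongr (MonoidHom.range_eq_map (simAut (qOdd m F))).symm
    have hall := centralizer_two_valued (σ := s) hj hR hQ h5 ⊤ (fun _ => trivial) hgen
      (H43.reflGenerates_of_two_ne_zero h2K) (fun a => isSquare_map hj (hord.trans h22) h2) hdec
      (d := 1) trivial (map_one _) (fun g _ a hg ha => Or.inl ?_)
    · have h1 : (1 : MulAut (Cfsg.POmega F ⇑(qOdd m F))) ∈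
          (⊤ : Subgroup (simG (qOdd m F))).map (simAut _) ⊓ Subgroup.centralizer {fieldPO _ s} := one_mem _
      have hker' : (φ.comp e.toMonoidHom).ker =
          (Cfsg.Inn (Cfsg.POmega F ⇑(qOdd m F))).subgroupOf ((⊤ : Subgroup (simG (qOdd m F))).map (simAut _)) := by
        ext a
        rw [MonoidHom.mem_ker, MonoidHom.comp_apply, ← MonoidHom.mem_ker, hker, Subgroup.mem_subgroupOf,
          Subgroup.mem_subgroupOf]
        rfl
      rw [(count_two_valued hinn _ (hφ.comp e.surjective) hker' h1 fun c hc => by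
        simpa using hall c hc).1 (one_mem _)]
      simp
    · obtain ⟨v₁, hv₁⟩ := exists_ne_zero (qOdd_nondeg h2K m) h5
      obtain ⟨y, rfl⟩ := exists_sim hj hR hv₁ (congrArg Subtype.val hg)
      obtain ⟨c, z, -, rfl⟩ := exists_rotation_scalar h2K (qOdd_nondeg h2K m) (odd_card m) y
      refine ⟨c, ?_⟩
      rw [map_mul, Ext.sim_scalar, Ext.sim_orthSim, simMu_scalar_orth hv₀]
      rfl

theorem S2714_core (h2 : (2 : F) ≠ 0) (hm : 3 ≤ m) {p f : ℕ} (hp : p.Prime) (hF : Fintype.card F = p ^ f)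
    (Φ : (Unit ⊕ (Fin m ⊕ Fin m) → F) → F) (hΦ : ⇑(qOdd m F) = Φ) {x : MulAut (Cfsg.POmega F Φ)}
    (hx : Cfsg.IsFieldAutClassPOmega Φ x) {r : ℕ} (hr : r.Prime) (hxr : orderOf x = r)
    (K : Type*) [Field K] [Fintype K] (hK : Fintype.card K = p ^ (f / r))
    (Φ₀ : (Unit ⊕ (Fin m ⊕ Fin m) → K) → K) (hΦ₀ : ⇑(qOdd m K) = Φ₀)
    (H : Subgroup (MulAut (Cfsg.POmega F Φ)))
    (hH : H = Cfsg.autSubgroupOf (fun β => Cfsg.IsSimilarityInducedAutPOmega Φ β))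
    (H₀ : Subgroup (MulAut (Cfsg.POmega K Φ₀)))
    (hH₀ : H₀ = Cfsg.autSubgroupOf (fun β => Cfsg.IsSimilarityInducedAutPOmega Φ₀ β)) :
    r ∣ f ∧ Nonempty (↥(H ⊓ Subgroup.centralizer {x}) ≃* ↥H₀) ∧
      (Odd r → Cfsg.splitClassCount H (Cfsg.Inn _) x = 1) ∧
      (r = 2 → Cfsg.splitClassCount H (Cfsg.Inn _) x = 2) := by
  subst hΦ hΦ₀
  exact odd_invariants h2 hm hp hF hx hr hxr K hK hH hH₀

theorem S2735_core (h2 : (2 : F) ≠ 0) (hm : 3 ≤ m) (Φ : (Unit ⊕ (Fin m ⊕ Fin m) → F) → F)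
    (hΦ : ⇑(qOdd m F) = Φ) {x δ : MulAut (Cfsg.POmega F Φ)}
    (hx : Cfsg.IsFieldAutClassPOmega Φ x) {r : ℕ} (hr : r.Prime) (hxr : orderOf x = r)
    (H : Subgroup (MulAut (Cfsg.POmega F Φ)))
    (hH : H = Cfsg.autSubgroupOf (fun β => Cfsg.IsSimilarityInducedAutPOmega Φ β)) (hδ : δ ∈ H) :
    orderOf (δ * x) = r ↔ Cfsg.IsConjUnder H x (δ * x) := by
  subst hΦ
  exact odd_coset h2 hm hx hr hxr hH hδ

end PO

end H55
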