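import Cfsg.Agent.H55.POBase
import Cfsg.Agent.H44.OutPO

/-!
Field and graph-field automorphisms of `PΩ⁺_{2m}(q)`.
-/

set_option autoImplicit false

namespace H55

namespace PO

open Matrix H43 H44

variable {F : Type*} [Field F] [Fintype F] {k : ℕ}

/-- Conjugates of fixed semilinear elements stay in their coset; for `m ≥ 5` this follows from the
structure of the automorphism group. -/
def PlusDecomp (k : ℕ) (F : Type*) [Field F] [Finite F] (h : EvQ (qPlus (k + 1) F) (k + 1))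
    (C : simG (qPlus (k + 1) F)) : Prop :=
  ∀ (x α : MulAut (Cfsg.POmega F ⇑(qPlus (k + 1) F))) (σ : F ≃+* F),
    α * x * α⁻¹ = simAut _ C * fieldPO _ ⟨σ, invAut_qPlus σ _⟩ →
    ∃ g, swapH h g = swapH h C ∧ x = simAut _ g * fieldPO _ ⟨σ, invAut_qPlus σ _⟩

theorem plusDecomp_of_five (hk : 4 ≤ k) (h : EvQ (qPlus (k + 1) F) (k + 1)) (C : simG (qPlus (k + 1) F)) :
    PlusDecomp k F h C := fun _ _ σ hx =>
  class_decomp (AutPO.good_qPlus (by omega)) (fun τ => invAut_qPlus τ _) (swapH h)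
    (fun τ g => swapH_simMap h τ g) C ⟨σ, invAut_qPlus σ _⟩ hx

/-- The standard twisting element of the given parity. -/
noncomputable def twC (k : ℕ) (F : Type*) [Field F] (e : Multiplicative (ZMod 2)) : simG (qPlus (k + 1) F) :=
  if e = 1 then 1 else pSwap k F

omit [Fintype F] in
theorem swapH_twC [Finite F] (h : EvQ (qPlus (k + 1) F) (k + 1)) (e : Multiplicative (ZMod 2)) :
    swapH h (twC k F e) = e := by
  rcases mulTwo_cases e with rfl | rfl
  · rw [twC, if_pos rfl, map_one]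
  · rw [twC, if_neg (by decide), swapH_pSwap h]

set_option maxHeartbeats 4000000 in
theorem coset_plus' {σ : F ≃+* F} (hr : (orderOf σ).Prime) (h : EvQ (qPlus (k + 1) F) (k + 1))
    (g : simG (qPlus (k + 1) F))
    (hpow : (simAut _ g * fieldPO _ ⟨σ, invAut_qPlus σ _⟩) ^ orderOf σ = 1) :
    (swapH h g ≠ 1 → orderOf σ = 2) ∧
    ∃ u ∈ keep h, simAut _ g * fieldPO _ ⟨σ, invAut_qPlus σ _⟩ =
      simAut _ u * (simAut _ (twC k F (swapH h g)) * fieldPO _ ⟨σ, invAut_qPlus σ _⟩) * (simAut _ u)⁻¹ := by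
  rcases coset_plus (fixHom_subtype σ) hr h g hpow with ⟨hg, u, hu, e⟩ | ⟨h2, hg, u, hu, e⟩
  · refine ⟨fun hne => absurd hg hne, u, hu, ?_⟩
    rw [twC, if_pos hg, map_one, one_mul]; exact e
  · refine ⟨fun _ => h2, u, hu, ?_⟩
    rw [twC, if_neg (by rw [hg]; decide)]; exact e

set_option maxHeartbeats 4000000 in
theorem plus_reduce (h : EvQ (qPlus (k + 1) F) (k + 1)) {C : simG (qPlus (k + 1) F)} (hD : PlusDecomp k F h C)
    {x α : MulAut (Cfsg.POmega F ⇑(qPlus (k + 1) F))} {σ : F ≃+* F} (hσ : σ ≠ RingEquiv.refl F)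
    (hx : α * x * α⁻¹ = simAut _ C * fieldPO _ ⟨σ, invAut_qPlus σ _⟩)
    {r : ℕ} (hr : r.Prime) (hxr : orderOf x = r) :
    orderOf σ = r ∧ (swapH h C ≠ 1 → r = 2) ∧ ∃ u ∈ keep h,
      x = simAut _ u * (simAut _ (twC k F (swapH h C)) * fieldPO _ ⟨σ, invAut_qPlus σ _⟩) * (simAut _ u)⁻¹ := by
  obtain ⟨g, hg, hgx⟩ := hD x α σ hx
  rw [hgx] at hxr
  have hord : orderOf σ = r := orderOf_field h.nondeg h.five hσ hr hxr
  obtain ⟨h2, u, hu, he⟩ := coset_plus' (σ := σ) (hord ▸ hr) h g (by rw [hord, ← hxr, pow_orderOf_eq_one])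
  rw [hg] at h2 he
  exact ⟨hord, fun hne => hord ▸ h2 hne, u, hu, hgx.trans he⟩

set_option maxHeartbeats 4000000 in
theorem plus_coset (h : EvQ (qPlus (k + 1) F) (k + 1)) {C : simG (qPlus (k + 1) F)} (hD : PlusDecomp k F h C)
    {x α δ : MulAut (Cfsg.POmega F ⇑(qPlus (k + 1) F))} {σ : F ≃+* F} (hσ : σ ≠ RingEquiv.refl F)
    (hx : α * x * α⁻¹ = simAut _ C * fieldPO _ ⟨σ, invAut_qPlus σ _⟩)
    {r : ℕ} (hr : r.Prime) (hxr : orderOf x = r) (hδ : δ ∈ (keep h).map (simAut _)) :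
    orderOf (δ * x) = r ↔ Cfsg.IsConjUnder ((keep h).map (simAut _)) x (δ * x) := by
  constructor
  · intro ho
    obtain ⟨hord, -, u, hu, hxu⟩ := plus_reduce h hD hσ hx hr hxr
    obtain ⟨d, hd, rfl⟩ := hδ
    set s : invAut (qPlus (k + 1) F) := ⟨σ, invAut_qPlus σ _⟩ with hs
    set c := twC k F (swapH h C)
    set g := d * (u * c * (simMap s u)⁻¹) with hg
    have hy : simAut _ d * x = simAut _ g * fieldPO _ s := by
      rw [hg, map_mul, mul_assoc, ← simAut_mul_eq, ← hxu]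
    have hsw : swapH h g = swapH h C := by
      rw [hg, map_mul, map_mul, map_mul, map_inv, swapH_simMap, mem_keep.1 hd, mem_keep.1 hu, swapH_twC,
        inv_one, one_mul, one_mul, mul_one]
    obtain ⟨-, v, hv, he⟩ := coset_plus' (σ := σ) (hord ▸ hr) h g
      (by rw [← hs, ← hy, hord, ← ho, pow_orderOf_eq_one])
    refine ⟨simAut _ (v * u⁻¹), Subgroup.mem_map_of_mem _ (mul_mem hv (inv_mem hu)), ?_⟩
    rw [hy, hs, he, hsw, hxu, map_mul, map_inv]
    simp only [c, s, mul_assoc, inv_mul_cancel_left, _root_.mul_inv_rev, inv_inv]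
  · rintro ⟨a, -, e⟩
    rw [e, ← hxr]
    exact orderOf_injective (MulAut.conj a).toMonoidHom (MulEquiv.injective _) x

omit [Fintype F] in
/-- The twisting element of a graph automorphism given by a reflection. -/
theorem graph_twist [Finite F] (h : EvQ (qPlus (k + 1) F) (k + 1)) {v : Fin (k + 1) ⊕ Fin (k + 1) → F}
    {R : GL (Fin (k + 1) ⊕ Fin (k + 1)) F} {γ : MulAut (Cfsg.POmega F ⇑(qPlus (k + 1) F))}
    (hv : qPlus (k + 1) F v ≠ 0)
    (hR : (R : Matrix (Fin (k + 1) ⊕ Fin (k + 1)) (Fin (k + 1) ⊕ Fin (k + 1)) F) =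
      Cfsg.reflectionMatrix ⇑(qPlus (k + 1) F) v)
    (hγ : Cfsg.IsInducedBySemilinearPOmega ⇑(qPlus (k + 1) F) R (RingEquiv.refl F) γ) :
    ∃ C, swapH h C = Multiplicative.ofAdd 1 ∧ γ = simAut _ C := by
  refine ⟨orthSim _ (refl _ v), swapH_refl h hv, (isInduced_iff _).1 ?_⟩
  have : (orthSim (qPlus (k + 1) F) (refl _ v)).1 = R :=
    Units.ext (Matrix.ext_iff_mulVec.2 fun w => by rw [orthSim_mulVec, hR, reflectionMatrix_mulVec_eq])
  rw [this]
  exact hγ

/-- Involutory field automorphisms of a finite field are unique. -/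
theorem involution_unique {σ τ : F ≃+* F} (hσ : orderOf σ = 2) (hτ : orderOf τ = 2) : σ = τ := by
  classical
  obtain ⟨p, f, hp, -, hF⟩ : ∃ p f : ℕ, p.Prime ∧ 0 < f ∧ Fintype.card F = p ^ f := by
    obtain ⟨p, hchar⟩ := CharP.exists F
    obtain ⟨n, hp, hn⟩ := FiniteField.card F p
    exact ⟨p, n, hp, n.pos, hn⟩
  haveI := Fact.mk hp
  obtain ⟨e⟩ := exists_gal_equiv hF
  haveI : Finite (F ≃+* F) := Finite.of_injective _ DFunLike.coe_injective
  haveI : Fintype (F ≃+* F) := Fintype.ofFinite _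
  haveI : IsCyclic (F ≃+* F) := isCyclic_of_surjective e.symm e.symm.surjective
  have hc := IsCyclic.card_orderOf_eq_totient (α := F ≃+* F) (d := 2) (hσ ▸ orderOf_dvd_card)
  rw [show Nat.totient 2 = 1 by decide, Finset.card_eq_one] at hc
  obtain ⟨a, ha⟩ := hc
  have h1 : σ = a := Finset.mem_singleton.1 (ha ▸ Finset.mem_filter.2 ⟨Finset.mem_univ _, hσ⟩)
  have h2 : τ = a := Finset.mem_singleton.1 (ha ▸ Finset.mem_filter.2 ⟨Finset.mem_univ _, hτ⟩)
  rw [h1, h2]

section Descended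

variable {σ : F ≃+* F} {K : Type*} [Field K] [Fintype K] {j : K →+* F}

omit [Fintype F] [Fintype K] in
/-- Split data over a quadratic extension. -/
theorem split_data [Finite F] (hj : FixHom σ j) (h : orderOf σ = 2) :
    ∃ (θ : F) (a₀ b₀ : K), θ ≠ σ θ ∧ σ (σ θ) = θ ∧ j a₀ = -(θ + σ θ) ∧ j b₀ = θ * σ θ ∧
      ∀ z₁ z₂ : K, z₁ ^ 2 + a₀ * z₁ * z₂ + b₀ * z₂ ^ 2 = 0 → z₁ = 0 ∧ z₂ = 0 := by
  obtain ⟨θ, hθ⟩ := exists_ne_of_order (σ := σ) (by omega)
  have hσσ : σ (σ θ) = θ := by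
    have := pow_orderOf_eq_one σ
    rw [h, pow_two] at this
    exact DFunLike.congr_fun this θ
  obtain ⟨a₀, ha₀⟩ := (hj.fix (-(θ + σ θ))).1 (by rw [map_neg, map_add, hσσ, add_comm])
  obtain ⟨b₀, hb₀⟩ := (hj.fix (θ * σ θ)).1 (by rw [map_mul, hσσ, mul_comm])
  refine ⟨θ, a₀, b₀, Ne.symm hθ, hσσ, ha₀, hb₀, fun z₁ z₂ hz => ?_⟩
  have hz' := congrArg j hz
  simp only [map_add, map_mul, map_pow, map_zero, ha₀, hb₀] at hz'
  have hz2 : z₂ = 0 := by
    by_contra hne
    have hne' : j z₂ ≠ 0 := (map_ne_zero j).2 hne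
    have : (j z₁ - θ * j z₂) * (j z₁ - σ θ * j z₂) = 0 := by linear_combination hz'
    refine hθ ?_
    rcases mul_eq_zero.1 this with e | e
    · have e1 : θ = j (z₁ / z₂) := by
        rw [map_div₀, eq_div_iff hne']; linear_combination -e
      rw [e1, hj.map]
    · have e1 : σ θ = j (z₁ / z₂) := by
        rw [map_div₀, eq_div_iff hne']; linear_combination -e
      have := congrArg σ e1
      rw [hσσ, hj.map] at this
      rw [e1, this]
  subst hz2
  exact ⟨by simpa using hz, rfl⟩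

omit [Fintype F] in
/-- Whether the square root of a non-square of the small field is a square. -/
theorem sqrt_nonsquare_iff [Finite F] (hj : FixHom σ j) (h : orderOf σ = 2) (h2 : (2 : F) ≠ 0) {ν : K}
    (hν0 : ν ≠ 0) (hν : ¬ IsSquare ν) {w : F} (hw : w * w = j ν) :
    IsSquare w ↔ Fintype.card K % 4 ≠ 1 := by
  letI := Fintype.ofFinite F
  have h2K := two_ne_zero_small j h2
  have hcharF : ringChar F ≠ 2 := fun e => h2 (by
    have : CharP F 2 := ringChar.of_eq e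
    exact CharTwo.two_eq_zero)
  have hcharK : ringChar K ≠ 2 := fun e => h2K (by
    have : CharP K 2 := ringChar.of_eq e
    exact CharTwo.two_eq_zero)
  have hodd : Fintype.card K % 2 = 1 := FiniteField.odd_card_of_char_ne_two hcharK
  obtain ⟨l, hl⟩ : ∃ l, Fintype.card K = 2 * l + 1 := ⟨Fintype.card K / 2, by omega⟩
  have hc : Fintype.card F = Fintype.card K ^ 2 := by
    rw [← Nat.card_eq_fintype_card, ← Nat.card_eq_fintype_card, card_eq_pow hj, h]
  have hw0 : w ≠ 0 := fun e => (map_ne_zero j).2 hν0 (by rw [← hw, e, mul_zero])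
  have hνl : ν ^ l = -1 := by
    have h1 := FiniteField.pow_dichotomy hcharK hν0
    rw [show Fintype.card K / 2 = l by omega] at h1
    refine h1.resolve_left fun e => hν ((FiniteField.isSquare_iff hcharK hν0).2 ?_)
    rw [show Fintype.card K / 2 = l by omega, e]
  have e : Fintype.card F / 2 = 2 * (l * (l + 1)) := by
    rw [hc, hl, show (2 * l + 1) ^ 2 = 2 * (2 * (l * (l + 1))) + 1 by ring]
    omega
  rw [FiniteField.isSquare_iff hcharF hw0, e, pow_mul, pow_two, hw, ← map_pow, pow_mul, hνl, map_pow,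
    map_neg, map_one]
  rcases Nat.even_or_odd (l + 1) with hp | hp
  · rw [hp.neg_one_pow]
    obtain ⟨t, ht⟩ := hp
    simp only [true_iff]
    omega
  · rw [hp.neg_one_pow]
    obtain ⟨t, ht⟩ := hp
    have : (-1 : F) ≠ 1 := fun e => h2 (by linear_combination -e)
    simp only [this, false_iff]
    omega

omit [Fintype F] in
theorem halfScale_fixed {m : ℕ} (hj : FixHom σ j) (c : Fˣ) {a : K} (ha : (c : F) = j a) :
    simMap ⟨σ, invAut_qPlus σ m⟩ (halfScale m c) = halfScale m c := by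
  refine simG_ext fun w => ?_
  obtain ⟨v, rfl⟩ := vec_surj σ w
  rw [coe_simMap, coe_mapGLι, vecMap_mulVec]
  show vecMap σ ((halfScaleGL m c : Matrix (Fin m ⊕ Fin m) (Fin m ⊕ Fin m) F) *ᵥ v) =
    (halfScaleGL m c : Matrix (Fin m ⊕ Fin m) (Fin m ⊕ Fin m) F) *ᵥ vecMap σ v
  rw [halfScale_apply, halfScale_apply]
  funext s
  rcases s with i | i
  · simp [vecMap, ha, hj.map]
  · simp [vecMap]

omit [Fintype F] in
theorem halfScale_keep [Finite F] {m : ℕ} (h : EvQ (qPlus m F) m) (h2 : (2 : F) ≠ 0) (c : Fˣ) :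
    halfScale m c ∈ keep h :=
  (swapFun_odd h h2 _).2 (etaHom_halfScale (h.evenQ h2) c)

omit [Fintype F] in
theorem simMu_halfScale [Finite F] {m : ℕ} (h : EvQ (qPlus m F) m) (c : Fˣ) :
    simMu (halfScale m c) = c := by
  obtain ⟨v, hv⟩ := exists_ne_zero h.nondeg h.five
  refine Units.ext (simMu_eq hv fun v => ?_)
  show qPlus m F ((halfScaleGL m c : Matrix (Fin m ⊕ Fin m) (Fin m ⊕ Fin m) F) *ᵥ v) = _
  rw [halfScale_apply, coe_qPlus]
  simp [Cfsg.quadFormPlus, Finset.mul_sum, mul_assoc]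

omit [Fintype F] in
/-- A half scaling by a square is a scalar times a product of hyperbolic scalings. -/
theorem halfScale_square [Finite F] {m : ℕ} (h2 : (2 : F) ≠ 0) (w : Fˣ) :
    ∃ x, detHom (qPlus m F) x = 1 ∧ spinor x = sqMk w ^ m ∧
      halfScale m (w * w) = scalarHom (qPlus m F) w * orthSim (qPlus m F) x := by
  classical
  let c : ℕ → (Fin m ⊕ Fin m → F) := fun i => if hi : i < m then Pi.single (Sum.inl ⟨i, hi⟩) 1 else 0
  let c' : ℕ → (Fin m ⊕ Fin m → F) := fun i => if hi : i < m then Pi.single (Sum.inr ⟨i, hi⟩) 1 else 0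
  have hp : ∀ i, i < m → HypPair (qPlus m F) (c i) (c' i) := fun i hi =>
    ⟨by rw [coe_qPlus]; simp [c, hi, Cfsg.quadFormPlus, Pi.single_apply],
      by rw [coe_qPlus]; simp [c', hi, Cfsg.quadFormPlus, Pi.single_apply],
      by simp [c, c', hi, polB_qPlus, Pi.single_apply]⟩
  have ho : ∀ i i', i < m → i' < m → i ≠ i' → polB (qPlus m F) (c i) (c i') = 0 ∧
      polB (qPlus m F) (c i) (c' i') = 0 ∧ polB (qPlus m F) (c' i) (c i') = 0 ∧
      polB (qPlus m F) (c' i) (c' i') = 0 := by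
    intro i i' hi hi' hne
    simp [c, c', hi, hi', polB_qPlus, Pi.single_apply, Fin.mk.injEq, hne, Ne.symm hne]
  have hdet : ∀ j, j ≤ m → detHom (qPlus m F) (scaleProd (qPlus m F) c c' (w : F) j) = 1 := by
    intro j hj
    induction j with
    | zero => rw [scaleProd, map_one]
    | succ j ih =>
      obtain ⟨e, q1, q2⟩ := hscale_eq_refl (hp j (by omega)) w.ne_zero
      rw [scaleProd, map_mul, ih (by omega), mul_one, e, map_mul,
        detHom_refl (by rw [q1]; exact inv_ne_zero w.ne_zero), detHom_refl (by rw [q2]; exact one_ne_zero),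
        neg_one_mul, neg_neg]
  refine ⟨scaleProd (qPlus m F) c c' (w : F) m, hdet m le_rfl, ?_, ?_⟩
  · rw [spinor_scaleProd (qPlus_nondeg m) h2 w.ne_zero hp, sqc_of_ne_zero w.ne_zero]
    congr 2; exact Units.ext rfl
  · refine simG_ext fun v => ?_
    rw [Subgroup.coe_mul, Units.val_mul, ← mulVec_mulVec, scalarHom_mulVec, orthSim_mulVec,
      scaleProd_apply w.ne_zero hp ho]
    show (halfScaleGL m (w * w) : Matrix (Fin m ⊕ Fin m) (Fin m ⊕ Fin m) F) *ᵥ v = _
    rw [halfScale_apply]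
    funext s
    rcases s with i | i
    · simp only [Sum.elim_inl, Pi.smul_apply, Pi.add_apply, Finset.sum_apply, smul_eq_mul]
      rw [Finset.sum_eq_single (i : ℕ)]
      · simp [c, c', i.2, polB_qPlus, Pi.single_apply]; ring
      · intro l hl hne
        have hl' := Finset.mem_range.1 hl
        simp [c, c', hl', Pi.single_apply, Fin.ext_iff, Ne.symm hne]
      · simp [i.2]
    · simp only [Sum.elim_inr, Pi.smul_apply, Pi.add_apply, Finset.sum_apply, smul_eq_mul]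
      rw [Finset.sum_eq_single (i : ℕ)]
      · simp [c, c', i.2, polB_qPlus, Pi.single_apply]; field_simp; ring
      · intro l hl hne
        have hl' := Finset.mem_range.1 hl
        simp [c, c', hl', Pi.single_apply, Fin.ext_iff, Ne.symm hne]
      · simp [i.2]

omit [Fintype F] in
set_option maxHeartbeats 4000000 in
/-- Inndiag modulo Inn has order four when `−1` is in `Ω`. -/
theorem quot_keep_four [Finite F] {m : ℕ} (h : EvQ (qPlus m F) m) (h2 : (2 : F) ≠ 0)
    (hneg : spinor (negOrth (qPlus m F)) = 1) :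
    ∃ (Δ : Type) (_ : Group Δ) (_ : Finite Δ) (φ : (keep h).map (simAut (qPlus m F)) →* Δ),
      Function.Surjective φ ∧ Nat.card Δ = 4 ∧
      φ.ker = (Cfsg.Inn (Cfsg.POmega F ⇑(qPlus m F))).subgroupOf ((keep h).map (simAut (qPlus m F))) := by
  obtain ⟨d, ν, k', hd⟩ := exists_diagSim_plus (h.evenQ h2)
  have hH : (keep h).map (simAut (qPlus m F)) = (etaHom (h.evenQ h2)).ker.map (simAut (qPlus m F)) := by
    congr 1
    ext g
    rw [mem_keep, MonoidHom.mem_ker]
    exact swapFun_odd h h2 g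
  obtain ⟨h1, h1'⟩ := quot_inndiag_inside hneg (h.evenQ h2) hd hH
  rcases Nat.even_or_odd m with hm | hm
  · obtain ⟨φ, hφ, hk⟩ := h1' hm
    exact ⟨_, inferInstance, inferInstance, φ, hφ, by simp, hk⟩
  · obtain ⟨φ, hφ, hk⟩ := h1 hm
    exact ⟨_, inferInstance, inferInstance, φ, hφ, by simp, hk⟩

theorem spinor_neg_quadratic {m : ℕ} (h : EvQ (qPlus m F) m) (h2 : (2 : F) ≠ 0) (hj : FixHom σ j)
    (hord : orderOf σ = 2) : spinor (negOrth (qPlus m F)) = 1 := by
  refine (spinor_negOrth_plus (h.evenQ h2)).2 fun hc => ?_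
  have e : Fintype.card F = Fintype.card K ^ 2 := by
    rw [← Nat.card_eq_fintype_card, ← Nat.card_eq_fintype_card, card_eq_pow hj, hord]
  rw [e, Nat.pow_mod] at hc
  have := hc.2
  have hlt := Nat.mod_lt (Fintype.card K) (show 4 > 0 by norm_num)
  interval_cases hh : Fintype.card K % 4 <;> simp_all

omit [Fintype F] in
/-- Splitting in the small field. -/
theorem square_or_mul {ν a : K} (hν0 : ν ≠ 0) (hν : ¬ IsSquare ν) (ha : a ≠ 0) :
    IsSquare a ∨ IsSquare (a * ν) := by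
  by_cases h : IsSquare a
  · exact Or.inl h
  · exact Or.inr ((isSquare_mul_iff ha hν0).2 ⟨fun e => absurd e h, fun e => absurd e hν⟩)

omit [Fintype F] in
/-- The centralizer of a split involutory field automorphism, modulo inner automorphisms. -/
theorem two_valued_keep [Finite F] {ι : Type} [Fintype ι] [DecidableEq ι] {Q : QuadraticForm F (ι → F)} {n : ℕ}
    (hQ : EvQ Q n) (s : invAut Q) (hj : FixHom s.1 j) {R : QuadraticForm K (ι → K)}
    (hR : ∀ v, Q (jVec j v) = j (R v)) (hgenR : ReflGenerates K (ι → K))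
    (hord : orderOf s.1 = 2) (h2 : (2 : F) ≠ 0) {d : simG Q} (hd : d ∈ keep hQ) (hdfix : simMap s d = d)
    {ν : K} (hν0 : ν ≠ 0) (hν : ¬ IsSquare ν) (hmu : (simMu d : F) = j ν) :
    ∀ β ∈ (keep hQ).map (simAut Q) ⊓ Subgroup.centralizer {fieldPO Q s},
      β ∈ Cfsg.Inn (Cfsg.POmega F ⇑Q) ∨ β * simAut Q d ∈ Cfsg.Inn (Cfsg.POmega F ⇑Q) := by
  obtain ⟨v₀, hv₀⟩ := exists_ne_zero hQ.nondeg hQ.five
  refine centralizer_two_valued (σ := s) hj hR hQ.nondeg hQ.five (keep hQ) (fun c => swapH_scalar hQ c) hQ.gen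
    hgenR (fun a => isSquare_map hj hord h2) (fun g hg w hw => ?_) hd hdfix fun g _ a _ ha => ?_
  · obtain ⟨z, hz, e⟩ := hdec_keep hQ g hg w hw
    exact ⟨w, z, rfl, hz, e⟩
  · have ha0 : a ≠ 0 := fun e => (simMu g).ne_zero (by rw [ha, e, map_zero])
    rcases square_or_mul hν0 hν ha0 with ⟨b, hb⟩ | ⟨b, hb⟩
    · exact Or.inl ⟨b, by rw [ha, hb, map_mul]⟩
    · exact Or.inr ⟨b, by rw [simMu_mul hv₀, Units.val_mul, ha, hmu, ← map_mul, hb, map_mul]⟩

set_option maxHeartbeats 4000000 in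
theorem plus_field_invariants (h : EvQ (qPlus (k + 1) F) (k + 1)) (hj : FixHom σ j) (hr : (orderOf σ).Prime)
    (hK : EvQ (qPlus (k + 1) K) (k + 1)) :
    Nonempty (↥((keep h).map (simAut (qPlus (k + 1) F)) ⊓
        Subgroup.centralizer {fieldPO _ ⟨σ, invAut_qPlus σ (k + 1)⟩}) ≃*
      ↥((keep hK).map (simAut (qPlus (k + 1) K)))) ∧
    ((Odd (orderOf σ) ∨ (2 : F) = 0) → Cfsg.splitClassCount ((keep h).map (simAut (qPlus (k + 1) F)))
      (Cfsg.Inn _) (fieldPO _ ⟨σ, invAut_qPlus σ (k + 1)⟩) = 1) ∧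
    ((orderOf σ = 2 ∧ (2 : F) ≠ 0) → Cfsg.splitClassCount ((keep h).map (simAut (qPlus (k + 1) F)))
      (Cfsg.Inn _) (fieldPO _ ⟨σ, invAut_qPlus σ (k + 1)⟩) =
        if Odd (k + 1) ∧ Fintype.card K % 4 = 1 then 2 else 4) := by
  set s : invAut (qPlus (k + 1) F) := ⟨σ, invAut_qPlus σ (k + 1)⟩
  have hR : ∀ v, qPlus (k + 1) F (jVec j v) = j (qPlus (k + 1) K v) := qPlus_jVec j (k + 1)
  refine ⟨centralizer_field s h.nondeg h.five hj hR (keep h) (fun c => swapH_scalar h c) (keep hK)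
    (fun y => by rw [mem_keep, mem_keep, swapH_sim _ hK h]), fun hc => ?_, fun hc => ?_⟩
  · by_cases h2 : (2 : F) = 0
    · refine count_eq_one (inn_le_keep h) fun y hy => ⟨1, one_mem _, ?_⟩
      rw [inv_one, one_mul, ← keep_eq_inn_two h h2]; exact hy
    · obtain ⟨ν, hν⟩ := exists_nonsquare_map hj (hc.resolve_right h2) h2
      have hν0 : j ν ≠ 0 := fun e => hν (by rw [e]; exact IsSquare.zero)
      refine count_eq_one (inn_le_keep h) (centralizer_covers (σ := s) hj hR h.nondeg h.five (keep h)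
        (fun c => swapH_scalar h c) h.gen hν (fun z hz => by rw [mem_keep, swapH_orth, hz]) (fun g hg w hw => ?_)
        fun g _ => Or.inr ⟨halfScale (k + 1) (Units.mk0 _ hν0), halfScale_keep h h2 _,
          halfScale_fixed hj _ (Units.val_mk0 hν0), ?_⟩)
      · obtain ⟨z, hz, e⟩ := hdec_keep h g hg w hw
        exact ⟨w, z, rfl, hz, e⟩
      · rw [simMu_halfScale h]
        intro e
        exact hν ((sqc_eq_one_iff hν0).1 (by rw [sqc_of_ne_zero hν0]; exact e))
  · obtain ⟨hord, h2⟩ := hc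
    have h2K := two_ne_zero_small j h2
    obtain ⟨ν, hν0, hne, -⟩ := exists_sqc_cases K
    have hν : ¬ IsSquare ν := fun e => hne h2K ((sqc_eq_one_iff hν0).2 e)
    obtain ⟨w, hw⟩ := isSquare_map hj hord h2 hν0
    have hw0 : w ≠ 0 := fun e => (map_ne_zero j).2 hν0 (by rw [hw, e, mul_zero])
    set W := Units.mk0 w hw0
    have hd : ((W * W : Fˣ) : F) = j ν := by rw [hw]; rfl
    have hdmem : simAut _ (halfScale (k + 1) (W * W)) ∈
        (keep h).map (simAut (qPlus (k + 1) F)) ⊓ Subgroup.centralizer {fieldPO _ s} :=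
      ⟨Subgroup.mem_map_of_mem _ (halfScale_keep h h2 _), mem_centralizer_singleton.2
        ((centralizes_iff s h.nondeg h.five _).2 ⟨1, _, halfScale_fixed hj _ hd, by rw [map_one, one_mul]⟩)⟩
    have hneg := spinor_neg_quadratic h h2 hj hord
    obtain ⟨Δ, _, _, φ, hφ, hcard, hker⟩ := quot_keep_four h h2 hneg
    obtain ⟨c1, c2⟩ := count_two_valued (inn_le_keep h) φ hφ hker hdmem
      (two_valued_keep h s hj hR hK.gen hord h2 (halfScale_keep h h2 _) (halfScale_fixed hj _ hd) hν0 hν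
        (by rw [simMu_halfScale h, hd]))
    rw [hcard] at c1 c2
    obtain ⟨x, hx, hxs, he⟩ := halfScale_square (m := k + 1) h2 W
    have hiff : simAut _ (halfScale (k + 1) (W * W)) ∈ Cfsg.Inn (Cfsg.POmega F ⇑(qPlus (k + 1) F)) ↔
        ¬ (Odd (k + 1) ∧ Fintype.card K % 4 = 1) := by
      rw [he, innPre_inside hneg (h.evenQ h2) W hx, hxs]
      have hW : sqMk W = 1 ↔ IsSquare w := by
        rw [← sqc_eq_one_iff hw0, sqc_of_ne_zero hw0]
      rcases Nat.even_or_odd (k + 1) with hp | hp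
      · rw [sqMk_pow_even hp]
        exact iff_of_true rfl fun e => Nat.not_even_iff_odd.2 e.1 hp
      · rw [sqMk_pow_odd hp, hW, sqrt_nonsquare_iff hj hord h2 hν0 hν hw.symm]
        simp [hp]
    split_ifs with hif
    · have := c2 fun e => hiff.1 e hif
      omega
    · exact c1 (hiff.2 hif)

omit [Fintype F] in
theorem pSwap_apply [Finite F] (v : Fin (k + 1) ⊕ Fin (k + 1) → F) :
    ((pSwap k F).1 : Matrix (Fin (k + 1) ⊕ Fin (k + 1)) (Fin (k + 1) ⊕ Fin (k + 1)) F) *ᵥ v =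
      Sum.elim (Function.update (fun i => v (.inl i)) (Fin.last k) (v (.inr (Fin.last k))))
        (Function.update (fun i => v (.inr i)) (Fin.last k) (v (.inl (Fin.last k)))) := by
  rw [pSwap, orthSim_mulVec, refl_apply, q_pvec, polB_qPlus, Finset.sum_eq_single (Fin.last k)]
  · funext s
    rcases s with i | i <;> by_cases hi : i = Fin.last k
    · subst hi; simp [pvec]
    · simp [pvec, hi]
    · subst hi; simp [pvec]
    · simp [pvec, hi]
  · intro i _ hi; simp [pvec, hi]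
  · simp

set_option maxHeartbeats 4000000 in
theorem plus_graph_invariants (hk : 2 ≤ k) (h : EvQ (qPlus (k + 1) F) (k + 1)) (hj : FixHom σ j)
    (hord : orderOf σ = 2) :
    ∃ (a₀ b₀ : K) (hab : ∀ z₁ z₂ : K, z₁ ^ 2 + a₀ * z₁ * z₂ + b₀ * z₂ ^ 2 = 0 → z₁ = 0 ∧ z₂ = 0),
      Nonempty (↥((keep h).map (simAut (qPlus (k + 1) F)) ⊓
          Subgroup.centralizer {simAut _ (pSwap k F) * fieldPO _ ⟨σ, invAut_qPlus σ (k + 1)⟩}) ≃*
        ↥((keep (evQ_minus hk hab)).map (simAut (qMinus k K a₀ b₀)))) ∧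
      ((2 : F) = 0 → Cfsg.splitClassCount ((keep h).map (simAut (qPlus (k + 1) F))) (Cfsg.Inn _)
        (simAut _ (pSwap k F) * fieldPO _ ⟨σ, invAut_qPlus σ (k + 1)⟩) = 1) ∧
      ((2 : F) ≠ 0 → Cfsg.splitClassCount ((keep h).map (simAut (qPlus (k + 1) F))) (Cfsg.Inn _)
        (simAut _ (pSwap k F) * fieldPO _ ⟨σ, invAut_qPlus σ (k + 1)⟩) =
          if Odd (k + 1) ∧ Fintype.card K % 4 = 1 then 4 else 2) := by
  obtain ⟨θ, a₀, b₀, hθ, hσσ, ha₀, hb₀, hab⟩ := split_data hj hord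
  refine ⟨a₀, b₀, hab, ?_⟩
  have hK := evQ_minus hk hab
  set Q₁ := qMinus k F (j a₀) (j b₀)
  let E := splitEquiv k hθ
  have hE : ∀ v, qPlus (k + 1) F (E v) = ((1 : Fˣ) : F) * Q₁ v := fun v => by
    rw [Units.val_one, one_mul]
    exact qPlus_splitEquiv hθ (by rw [ha₀, neg_neg]) hb₀.symm v
  have hQ₁ : EvQ Q₁ (k + 1) := by
    refine ⟨qMinus_nondeg_of_disc k fun e => ?_, by simp; ring, h.three⟩
    have : a₀ ^ 2 - 4 * b₀ = 0 := (map_eq_zero j).1 (by rw [map_sub, map_mul, map_pow, map_ofNat]; exact e)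
    exact disc_ne_zero_of_anisotropic hab this
  set s : invAut (qPlus (k + 1) F) := ⟨σ, invAut_qPlus σ (k + 1)⟩
  set s₁ : invAut Q₁ := ⟨σ, invAut_qMinus (hj.map a₀) (hj.map b₀) k⟩
  have htr : autConj (trIso hE) (fieldPO Q₁ s₁) = simAut _ (pSwap k F) * fieldPO _ s :=
    transport_twist (c := 1) (Units.ne_zero 1) hE s.2 s₁.2 fun v => by
      rw [Units.val_one, one_smul]; exact pSwap_split hθ hσσ k v
  rw [← htr, ← map_keep hE hQ₁ h]
  have hR : ∀ v, Q₁ (jVec j v) = j (qMinus k K a₀ b₀ v) := qMinus_jVec j a₀ b₀ k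
  have hmap : ∀ (H : Subgroup (MulAut (Cfsg.POmega F ⇑Q₁))) (x : MulAut (Cfsg.POmega F ⇑Q₁)),
      Cfsg.splitClassCount (H.map (autConj (trIso hE)).toMonoidHom) (Cfsg.Inn _) (autConj (trIso hE) x) =
        Cfsg.splitClassCount H (Cfsg.Inn _) x := fun H x => by
    rw [← map_Inn (trIso hE), splitClassCount_map]
  refine ⟨?_, fun h2 => ?_, fun h2 => ?_⟩
  · obtain ⟨e₀⟩ := centralizer_equiv (autConj (trIso hE)) ((keep hQ₁).map (simAut Q₁)) (fieldPO Q₁ s₁)
    obtain ⟨e₂⟩ := centralizer_field s₁ hQ₁.nondeg hQ₁.five hj hR (keep hQ₁) (fun c => swapH_scalar hQ₁ c)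
      (keep hK) (fun y => by rw [mem_keep, mem_keep, swapH_sim _ hK hQ₁])
    exact ⟨e₀.symm.trans e₂⟩
  · rw [map_keep hE hQ₁ h]
    refine count_eq_one (inn_le_keep h) fun y hy => ⟨1, one_mem _, ?_⟩
    rw [inv_one, one_mul, ← keep_eq_inn_two h h2]; exact hy
  have h2K := two_ne_zero_small j h2
  obtain ⟨ν, hν0, hne, -⟩ := exists_sqc_cases K
  have hν : ¬ IsSquare ν := fun e => hne h2K ((sqc_eq_one_iff hν0).2 e)
  obtain ⟨w, hw⟩ := isSquare_map hj hord h2 hν0
  have hw0 : w ≠ 0 := fun e => (map_ne_zero j).2 hν0 (by rw [hw, e, mul_zero])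
  set W := Units.mk0 w hw0
  have hd : ((W * W : Fˣ) : F) = j ν := by rw [hw]; rfl
  obtain ⟨lam, hlam⟩ := exists_norm_eq σ (c := W * W) (by rw [hd]; exact hj.map ν)
  have hnorm : (lam : F) * σ (lam : F) = j ν := by
    rw [← hd, ← hlam]
    simp [normUnits, hord, Finset.prod_range_succ]
  have hlamsq : ¬ IsSquare (σ (lam : F)) := by
    rintro ⟨t, ht⟩
    have ht' : (lam : F) = σ t * σ t := by
      have e2 : σ (σ (lam : F)) = lam := by
        have := pow_orderOf_eq_one σ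
        rw [hord, pow_two] at this
        exact DFunLike.congr_fun this (lam : F)
      rw [← e2, ht, map_mul]
    have htt : σ (σ t) = t := by
      have := pow_orderOf_eq_one σ
      rw [hord, pow_two] at this
      exact DFunLike.congr_fun this t
    obtain ⟨u, hu⟩ := (hj.fix (t * σ t)).1 (by rw [map_mul, htt, mul_comm])
    refine hν ⟨u, j.injective ?_⟩
    rw [← hnorm, map_mul, hu, ht, ht']
    ring
  set l : F := (σ (lam : F))⁻¹
  have hl : l ≠ 0 := inv_ne_zero ((map_ne_zero σ).2 lam.ne_zero)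
  have hls : sqc l ≠ 1 := fun e => hlamsq (by
    obtain ⟨t, ht⟩ := (sqc_eq_one_iff hl).1 e
    exact ⟨t⁻¹, by rw [← inv_inv (σ (lam : F)), ← mul_inv, ← ht]⟩)
  let c : ℕ → (Fin (k + 1) ⊕ Fin (k + 1) → F) := fun _ => Pi.single (Sum.inl (Fin.last k)) 1
  let c' : ℕ → (Fin (k + 1) ⊕ Fin (k + 1) → F) := fun _ => Pi.single (Sum.inr (Fin.last k)) 1
  have hp : ∀ i, i < 1 → HypPair (qPlus (k + 1) F) (c i) (c' i) := fun i _ =>
    ⟨by rw [coe_qPlus]; simp [c, Cfsg.quadFormPlus, Pi.single_apply],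
      by rw [coe_qPlus]; simp [c', Cfsg.quadFormPlus, Pi.single_apply],
      by simp [c, c', polB_qPlus, Pi.single_apply]⟩
  set z := scaleProd (qPlus (k + 1) F) c c' l 1
  have hz : ∀ v, z.1 v = v + ((l - 1) * v (.inl (Fin.last k))) • c 0 +
      ((l⁻¹ - 1) * v (.inr (Fin.last k))) • c' 0 := fun v => by
    simp only [z, scaleProd, mul_one]
    rw [hscale_apply (hp 0 one_pos) hl]
    simp [c, c', polB_qPlus, Pi.single_apply]
  have hzd : detHom (qPlus (k + 1) F) z = 1 := by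
    obtain ⟨e, q1, q2⟩ := hscale_eq_refl (hp 0 one_pos) hl
    simp only [z, scaleProd, mul_one]
    rw [e, map_mul, detHom_refl (by rw [q1]; exact inv_ne_zero hl), detHom_refl (by rw [q2]; exact one_ne_zero),
      neg_one_mul, neg_neg]
  have hzs : spinor z = sqc l := by
    rw [spinor_scaleProd h.nondeg h2 hl hp, pow_one]
  obtain ⟨g, hgdef⟩ : ∃ g, g = halfScale (k + 1) (W * W) * orthSim (qPlus (k + 1) F) z := ⟨_, rfl⟩
  have hzkeep : orthSim (qPlus (k + 1) F) z ∈ keep h := by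
    rw [mem_keep, swapH_orth]; exact (dickson_eq_one_iff h.nondeg h2 z).2 hzd
  have hgk : g ∈ keep h := hgdef ▸ mul_mem (halfScale_keep h h2 _) hzkeep
  have hg : ∀ v, (g.1 : Matrix (Fin (k + 1) ⊕ Fin (k + 1)) (Fin (k + 1) ⊕ Fin (k + 1)) F) *ᵥ v =
      Sum.elim (fun i => (if i = Fin.last k then (lam : F) else j ν) * v (.inl i))
        (fun i => (if i = Fin.last k then σ (lam : F) else 1) * v (.inr i)) := fun v => by
    rw [hgdef, Subgroup.coe_mul, Units.val_mul, ← mulVec_mulVec, orthSim_mulVec, hz]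
    show (halfScaleGL (k + 1) (W * W) : Matrix (Fin (k + 1) ⊕ Fin (k + 1)) (Fin (k + 1) ⊕ Fin (k + 1)) F) *ᵥ _ = _
    rw [halfScale_apply, hd]
    funext t
    rcases t with i | i <;> by_cases hi : i = Fin.last k
    · subst hi
      simp only [Sum.elim_inl, if_true, Pi.add_apply, Pi.smul_apply, smul_eq_mul, c, c']
      rw [Pi.single_eq_same, Pi.single_eq_of_ne (by simp), ← hnorm]
      simp only [l]
      field_simp [(map_ne_zero σ).2 lam.ne_zero]
      ring
    · simp [c, c', hi]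
    · subst hi
      simp only [Sum.elim_inr, if_true, Pi.add_apply, Pi.smul_apply, smul_eq_mul, c, c']
      rw [Pi.single_eq_of_ne (by simp), Pi.single_eq_same]
      simp only [l, inv_inv]
      ring
    · simp [c, c', hi]
  have hgP : g * pSwap k F = pSwap k F * simMap s g := by
    refine simG_ext fun x => ?_
    obtain ⟨v, rfl⟩ := vec_surj σ x
    rw [Subgroup.coe_mul, Subgroup.coe_mul, Units.val_mul, Units.val_mul, ← mulVec_mulVec, ← mulVec_mulVec,
      coe_simMap, coe_mapGLι, vecMap_mulVec, hg, hg, pSwap_apply, pSwap_apply]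
    have e2 : σ (σ (lam : F)) = lam := by
      have := pow_orderOf_eq_one σ
      rw [hord, pow_two] at this
      exact DFunLike.congr_fun this (lam : F)
    funext t
    rcases t with i | i <;> by_cases hi : i = Fin.last k
    · subst hi; simp [vecMap, s, e2]
    · simp [vecMap, s, hi, hj.map]
    · subst hi; simp [vecMap, s]
    · simp [vecMap, s, hi]
  obtain ⟨d₁, hd₁⟩ := sim_equiv_surjective hE g
  have hd₁fix : simMap s₁ d₁ = d₁ := by
    refine simG_ext fun x => E.injective ?_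
    obtain ⟨v, rfl⟩ := vec_surj σ x
    have key : ∀ v, (g.1 : Matrix (Fin (k + 1) ⊕ Fin (k + 1)) (Fin (k + 1) ⊕ Fin (k + 1)) F) *ᵥ E v =
        E ((d₁.1 : Matrix ((Fin k ⊕ Fin k) ⊕ Fin 2) ((Fin k ⊕ Fin k) ⊕ Fin 2) F) *ᵥ v) := fun v => by
      rw [← hd₁]; exact glConj_mulVec E d₁.1 v
    rw [coe_simMap, coe_mapGLι, vecMap_mulVec, ← key, ← pSwap_split hθ hσσ k, ← key,
      ← pSwap_split hθ hσσ k v]
    have := congrArg (fun a : simG (qPlus (k + 1) F) =>
      (a.1 : Matrix (Fin (k + 1) ⊕ Fin (k + 1)) (Fin (k + 1) ⊕ Fin (k + 1)) F) *ᵥ vecMap σ (E v)) hgP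
    simp only [Subgroup.coe_mul, Units.val_mul, ← mulVec_mulVec, coe_simMap, coe_mapGLι, s] at this
    rw [vecMap_mulVec] at this
    exact this.symm
  have hd₁k : d₁ ∈ keep hQ₁ := by
    rw [mem_keep, ← swapH_sim (extOfEquiv E 1 hE) hQ₁ h, hd₁]; exact hgk
  obtain ⟨v₀, hv₀⟩ := exists_ne_zero h.nondeg h.five
  obtain ⟨v₁, hv₁⟩ := exists_ne_zero hQ₁.nondeg hQ₁.five
  have hmu : (simMu d₁ : F) = j ν := by
    have e1 : (simMu g : F) = (simMu d₁ : F) := by
      rw [← hd₁]; exact simMu_eq hv₀ ((extOfEquiv E 1 hE).map_similar (simMu_spec d₁))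
    rw [← e1, hgdef, simMu_mul hv₀, simMu_halfScale h, show simMu (orthSim (qPlus (k + 1) F) z) = 1 from
      Units.ext (simMu_eq hv₀ fun v => by rw [orthSim_mulVec, orth_qmap, Units.val_one, one_mul]), mul_one, hd]
  have hC₁ := two_valued_keep hQ₁ s₁ hj hR hK.gen hord h2 hd₁k hd₁fix hν0 hν hmu
  have hgim : autConj (trIso hE) (simAut Q₁ d₁) = simAut _ g := by rw [autConj_trIso, hd₁]
  have hgC : simAut _ g ∈ ((keep hQ₁).map (simAut Q₁)).map (autConj (trIso hE)).toMonoidHom ⊓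
      Subgroup.centralizer {autConj (trIso hE) (fieldPO Q₁ s₁)} := by
    rw [← map_centralizer, ← hgim]
    exact Subgroup.mem_map_of_mem _ ⟨Subgroup.mem_map_of_mem _ hd₁k, mem_centralizer_singleton.2
      ((centralizes_iff s₁ hQ₁.nondeg hQ₁.five _).2 ⟨1, d₁, hd₁fix, by rw [map_one, one_mul]⟩)⟩
  have hall : ∀ β ∈ ((keep hQ₁).map (simAut Q₁)).map (autConj (trIso hE)).toMonoidHom ⊓
      Subgroup.centralizer {autConj (trIso hE) (fieldPO Q₁ s₁)},
      β ∈ Cfsg.Inn (Cfsg.POmega F ⇑(qPlus (k + 1) F)) ∨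
        β * simAut _ g ∈ Cfsg.Inn (Cfsg.POmega F ⇑(qPlus (k + 1) F)) := by
    intro β hβ
    rw [← map_centralizer] at hβ
    obtain ⟨β₁, hβ₁, rfl⟩ := hβ
    rw [← map_Inn (trIso hE)]
    rcases hC₁ β₁ hβ₁ with hi | hi
    · exact Or.inl ⟨_, hi, rfl⟩
    · refine Or.inr ⟨_, hi, ?_⟩
      rw [map_mul, ← hgim]; rfl
  have hneg := spinor_neg_quadratic h h2 hj hord
  obtain ⟨Δ, _, _, φ, hφ, hcard, hker⟩ := quot_keep_four h h2 hneg
  obtain ⟨x, hx, hxs, he⟩ := halfScale_square (m := k + 1) h2 W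
  have hiff : simAut _ g ∈ Cfsg.Inn (Cfsg.POmega F ⇑(qPlus (k + 1) F)) ↔
      (Odd (k + 1) ∧ Fintype.card K % 4 = 1) := by
    rw [hgdef, he, mul_assoc, ← map_mul (orthSim (qPlus (k + 1) F)),
      innPre_inside hneg (h.evenQ h2) W (by rw [map_mul, hx, hzd, one_mul]),
      spinor_mul_two (h.evenQ h2), hxs, hzs]
    have hW : sqMk W = 1 ↔ IsSquare w := by
      rw [← sqc_eq_one_iff hw0, sqc_of_ne_zero hw0]
    rcases Nat.even_or_odd (k + 1) with hp' | hp'
    · rw [sqMk_pow_even hp', one_mul]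
      exact iff_of_false hls fun e => Nat.not_even_iff_odd.2 e.1 hp'
    · rw [sqMk_pow_odd hp']
      constructor
      · intro e
        refine ⟨hp', ?_⟩
        by_contra hq
        rw [hW.2 ((sqrt_nonsquare_iff hj hord h2 hν0 hν hw.symm).2 hq), one_mul] at e
        exact hls e
      · rintro ⟨-, hq⟩
        have hWn : sqMk W ≠ 1 := fun e => (sqrt_nonsquare_iff hj hord h2 hν0 hν hw.symm).1 (hW.1 e) hq
        exact sqClass_mul_of_ne_one hWn hls
  rw [map_keep hE hQ₁ h] at hgC hall ⊢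
  obtain ⟨c1, c2⟩ := count_two_valued (inn_le_keep h) φ hφ hker hgC hall
  rw [hcard] at c1 c2
  split_ifs with hif
  · exact c1 (hiff.2 hif)
  · have := c2 fun e => hif (hiff.1 e)
    omega

end Descended

end PO

end H55
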