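import Cfsg.Agent.H55.POPlus
import Cfsg.Agent.H55.POMinus

/-!
Field and graph-field automorphisms of `PΩ⁺_{2m}(q)`: the forms used by the statements.
-/

set_option autoImplicit false

namespace H55

namespace PO

open Matrix H43 H44

variable {F : Type*} [Field F] [Fintype F] {k : ℕ}

theorem eq_two_iff {p f : ℕ} (hp : p.Prime) (hF : Fintype.card F = p ^ f) : (2 : F) = 0 ↔ p = 2 := by
  obtain ⟨q, hq⟩ := CharP.exists F
  obtain ⟨n, hqp, hn⟩ := FiniteField.card F q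
  have e : q = p := by
    have h1 : q ∣ p ^ f := by rw [← hF, hn]; exact dvd_pow_self q n.ne_zero
    exact (Nat.prime_dvd_prime_iff_eq hqp hp).1 (hqp.dvd_of_dvd_pow h1)
  subst e
  constructor
  · intro h2
    exact ((Nat.prime_dvd_prime_iff_eq hqp Nat.prime_two).1 ((CharP.cast_eq_zero_iff F q 2).1 (by exact_mod_cast h2)))
  · rintro rfl
    exact_mod_cast CharP.cast_eq_zero F 2

/-- The inner-diagonal predicate for any way of writing the form. -/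
def plusInn (k : ℕ) (F : Type*) [Field F] (Φ : (Fin (k + 1) ⊕ Fin (k + 1) → F) → F) : Subgroup (MulAut (Cfsg.POmega F Φ)) :=
  Cfsg.autSubgroupOf (fun β => ∃ g : GL (Fin (k + 1) ⊕ Fin (k + 1)) F,
    g ∈ Cfsg.Geo.quadSimilarityGroup (F := F) Φ ∧
    Cfsg.PreservesSingularClasses Φ (g : Matrix (Fin (k + 1) ⊕ Fin (k + 1)) (Fin (k + 1) ⊕ Fin (k + 1)) F) ∧
    Cfsg.IsInducedBySemilinearPOmega Φ g (RingEquiv.refl F) β)

omit [Fintype F] in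
theorem plusInn_eq [Finite F] (h : EvQ (qPlus (k + 1) F) (k + 1)) :
    plusInn k F ⇑(qPlus (k + 1) F) = (keep h).map (simAut (qPlus (k + 1) F)) :=
  inndiag_plus_keep h

/-- Field class. -/
def FieldHyp (Φ : (Fin (k + 1) ⊕ Fin (k + 1) → F) → F) (x : MulAut (Cfsg.POmega F Φ)) : Prop :=
  ∃ (α φ : MulAut (Cfsg.POmega F Φ)) (σ : F ≃+* F),
    σ ≠ RingEquiv.refl F ∧ Cfsg.IsFieldAutPOmegaOf Φ σ φ ∧ α * x * α⁻¹ = φ

/-- Graph-field class. -/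
def GraphFieldHyp (Φ : (Fin (k + 1) ⊕ Fin (k + 1) → F) → F) (x : MulAut (Cfsg.POmega F Φ)) : Prop :=
  ∃ (α γ φ : MulAut (Cfsg.POmega F Φ)) (σ : F ≃+* F) (v : Fin (k + 1) ⊕ Fin (k + 1) → F)
      (r : GL (Fin (k + 1) ⊕ Fin (k + 1)) F),
    σ ≠ RingEquiv.refl F ∧ Φ v ≠ 0 ∧ (∀ i, σ (v i) = v i) ∧
    (r : Matrix (Fin (k + 1) ⊕ Fin (k + 1)) (Fin (k + 1) ⊕ Fin (k + 1)) F) = Cfsg.reflectionMatrix Φ v ∧
    Cfsg.IsInducedBySemilinearPOmega Φ r (RingEquiv.refl F) γ ∧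
    Cfsg.IsFieldAutPOmegaOf Φ σ φ ∧ α * x * α⁻¹ = γ * φ

omit [Fintype F] in
theorem fieldHyp_form {x : MulAut (Cfsg.POmega F ⇑(qPlus (k + 1) F))} (hx : FieldHyp _ x) :
    ∃ (α : MulAut (Cfsg.POmega F ⇑(qPlus (k + 1) F))) (σ : F ≃+* F), σ ≠ RingEquiv.refl F ∧
      α * x * α⁻¹ = simAut _ (1 : simG (qPlus (k + 1) F)) * fieldPO _ ⟨σ, invAut_qPlus σ _⟩ := by
  obtain ⟨α, φ, σ, hσ, hφ, e⟩ := hx
  exact ⟨α, σ, hσ, by rw [map_one, one_mul, e, ← (isFieldAutOf_iff ⟨σ, invAut_qPlus σ _⟩).1 hφ]⟩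

omit [Fintype F] in
theorem graphHyp_form [Finite F] (h : EvQ (qPlus (k + 1) F) (k + 1))
    {x : MulAut (Cfsg.POmega F ⇑(qPlus (k + 1) F))} (hx : GraphFieldHyp _ x) :
    ∃ (α : MulAut (Cfsg.POmega F ⇑(qPlus (k + 1) F))) (σ : F ≃+* F) (C : simG (qPlus (k + 1) F)),
      σ ≠ RingEquiv.refl F ∧ swapH h C = Multiplicative.ofAdd 1 ∧
      α * x * α⁻¹ = simAut _ C * fieldPO _ ⟨σ, invAut_qPlus σ _⟩ := by
  obtain ⟨α, γ, φ, σ, v, r, hσ, hv, -, hr, hγ, hφ, e⟩ := hx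
  obtain ⟨C, hC, rfl⟩ := graph_twist h hv hr hγ
  exact ⟨α, σ, C, hσ, hC, by rw [e, ← (isFieldAutOf_iff ⟨σ, invAut_qPlus σ _⟩).1 hφ]⟩

set_option maxHeartbeats 4000000 in
theorem S2715_core (hk : 3 ≤ k) (hD : ∀ h, PlusDecomp k F h 1)
    (Φ : (Fin (k + 1) ⊕ Fin (k + 1) → F) → F) (hΦ : ⇑(qPlus (k + 1) F) = Φ) {x : MulAut (Cfsg.POmega F Φ)}
    (hx : FieldHyp Φ x) {p f : ℕ} (hp : p.Prime) (hF : Fintype.card F = p ^ f)
    {r : ℕ} (hr : r.Prime) (hxr : orderOf x = r) (K : Type*) [Field K] [Fintype K]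
    (hK : Fintype.card K = p ^ (f / r)) (ΦK : (Fin (k + 1) ⊕ Fin (k + 1) → K) → K)
    (hΦK : ⇑(qPlus (k + 1) K) = ΦK) :
    r ∣ f ∧ Nonempty (↥(plusInn k F Φ ⊓ Subgroup.centralizer {x}) ≃* ↥(plusInn k K ΦK)) ∧
      ((Odd r ∨ p = 2) → Cfsg.splitClassCount (plusInn k F Φ) (Cfsg.Inn _) x = 1) ∧
      ((r = 2 ∧ p ≠ 2 ∧ Odd (k + 1) ∧ p ^ (f / 2) % 4 = 1) →
        Cfsg.splitClassCount (plusInn k F Φ) (Cfsg.Inn _) x = 2) ∧
      ((r = 2 ∧ p ≠ 2 ∧ ¬ (Odd (k + 1) ∧ p ^ (f / 2) % 4 = 1)) →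
        Cfsg.splitClassCount (plusInn k F Φ) (Cfsg.Inn _) x = 4) := by
  subst hΦ; subst hΦK
  have h : EvQ (qPlus (k + 1) F) (k + 1) := evQ_plus (by omega)
  have hKe : EvQ (qPlus (k + 1) K) (k + 1) := evQ_plus (by omega)
  obtain ⟨α, σ, hσ, hx⟩ := fieldHyp_form hx
  obtain ⟨hord, -, u, hu, hxu⟩ := plus_reduce h (hD h) hσ hx hr hxr
  rw [map_one, twC, if_pos rfl, map_one, one_mul] at hxu
  have hFn : Nat.card F = p ^ f := by rw [Nat.card_eq_fintype_card]; exact hF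
  obtain ⟨j, hj⟩ := exists_fixHom σ hp hFn K (by rw [hK, hord])
  obtain ⟨⟨e₁⟩, hc1, hc2⟩ := plus_field_invariants h hj (hord ▸ hr) hKe
  obtain ⟨⟨e₀⟩, hcount⟩ := conj_invariants ((keep h).map (simAut (qPlus (k + 1) F)))
    (a := simAut _ u) (Subgroup.mem_map_of_mem _ hu) (fieldPO _ ⟨σ, invAut_qPlus σ (k + 1)⟩)
  rw [← hxu] at hcount
  simp only [plusInn_eq h, plusInn_eq hKe, hcount, ← eq_two_iff hp hF]
  refine ⟨dvd_of_prime hp hFn hord, ?_, fun hh => hc1 (hord ▸ hh), fun ⟨h2, h2', h3, h4⟩ => ?_,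
    fun ⟨h2, h2', h3⟩ => ?_⟩
  · rw [plusInn_eq h, plusInn_eq hKe, hxu]; exact ⟨e₀.trans e₁⟩
  · subst h2
    rw [hc2 ⟨hord, fun e => h2' ((eq_two_iff hp hF).1 e)⟩, if_pos ⟨h3, by rw [hK]; exact h4⟩]
  · subst h2
    rw [hc2 ⟨hord, fun e => h2' ((eq_two_iff hp hF).1 e)⟩, if_neg (by rw [hK]; exact h3)]

set_option maxHeartbeats 4000000 in
theorem S2717_core (hk : 4 ≤ k) (Φ : (Fin (k + 1) ⊕ Fin (k + 1) → F) → F) (hΦ : ⇑(qPlus (k + 1) F) = Φ)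
    {x : MulAut (Cfsg.POmega F Φ)} (hx : GraphFieldHyp Φ x) (hx2 : orderOf x = 2)
    {p f : ℕ} (hp : p.Prime) (hF : Fintype.card F = p ^ f)
    (K : Type*) [Field K] [Fintype K] (hK : Fintype.card K = p ^ (f / 2)) :
    Even f ∧
      (∀ y : MulAut (Cfsg.POmega F Φ), GraphFieldHyp Φ y → orderOf y = 2 →
        Cfsg.IsConjUnder (plusInn k F Φ) x y) ∧
      (∃ (a₀ b₀ : K) (hab : ∀ z₁ z₂ : K, z₁ ^ 2 + a₀ * z₁ * z₂ + b₀ * z₂ ^ 2 = 0 → z₁ = 0 ∧ z₂ = 0),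
        Nonempty (↥(plusInn k F Φ ⊓ Subgroup.centralizer {x}) ≃*
          ↥((keep (evQ_minus (m := k) (by omega) hab)).map (simAut (qMinus k K a₀ b₀))))) ∧
      (p = 2 → Cfsg.splitClassCount (plusInn k F Φ) (Cfsg.Inn _) x = 1) ∧
      ((p ≠ 2 ∧ Odd (k + 1) ∧ p ^ (f / 2) % 4 = 1) →
        Cfsg.splitClassCount (plusInn k F Φ) (Cfsg.Inn _) x = 4) ∧
      ((p ≠ 2 ∧ ¬ (Odd (k + 1) ∧ p ^ (f / 2) % 4 = 1)) →
        Cfsg.splitClassCount (plusInn k F Φ) (Cfsg.Inn _) x = 2) := by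
  subst hΦ
  have h : EvQ (qPlus (k + 1) F) (k + 1) := evQ_plus (by omega)
  have hred : ∀ y : MulAut (Cfsg.POmega F ⇑(qPlus (k + 1) F)), GraphFieldHyp _ y → orderOf y = 2 →
      ∃ (σ : F ≃+* F), orderOf σ = 2 ∧ ∃ u ∈ keep h,
        y = simAut _ u * (simAut _ (pSwap k F) * fieldPO _ ⟨σ, invAut_qPlus σ _⟩) * (simAut _ u)⁻¹ := by
    intro y hy hy2
    obtain ⟨α, σ, C, hσ, hC, hy⟩ := graphHyp_form h hy
    obtain ⟨hord, -, u, hu, e⟩ := plus_reduce h (plusDecomp_of_five hk h C) hσ hy Nat.prime_two hy2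
    rw [hC, twC, if_neg (by decide)] at e
    exact ⟨σ, hord, u, hu, e⟩
  obtain ⟨σ, hord, u, hu, hxu⟩ := hred x hx hx2
  have hFn : Nat.card F = p ^ f := by rw [Nat.card_eq_fintype_card]; exact hF
  obtain ⟨j, hj⟩ := exists_fixHom σ hp hFn K (by rw [hK, hord])
  obtain ⟨a₀, b₀, hab, ⟨e₁⟩, hc1, hc2⟩ := plus_graph_invariants (k := k) (by omega) h hj hord
  obtain ⟨⟨e₀⟩, hcount⟩ := conj_invariants ((keep h).map (simAut (qPlus (k + 1) F)))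
    (a := simAut _ u) (Subgroup.mem_map_of_mem _ hu)
    (simAut _ (pSwap k F) * fieldPO _ ⟨σ, invAut_qPlus σ (k + 1)⟩)
  rw [← hxu] at hcount
  simp only [plusInn_eq h, hcount]
  refine ⟨even_iff_two_dvd.2 (dvd_of_prime hp hFn hord), fun y hy hy2 => ?_,
    ⟨a₀, b₀, hab, by rw [plusInn_eq h, hxu]; exact ⟨e₀.trans e₁⟩⟩, fun hp2 => hc1 ((eq_two_iff hp hF).2 hp2),
    fun ⟨hp2, h3, h4⟩ => ?_, fun ⟨hp2, h3⟩ => ?_⟩
  · obtain ⟨τ, hτ, v, hv, hyv⟩ := hred y hy hy2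
    obtain rfl := involution_unique hord hτ
    refine ⟨simAut _ (v * u⁻¹), Subgroup.mem_map_of_mem _ (mul_mem hv (inv_mem hu)), ?_⟩
    rw [hxu, hyv, map_mul, map_inv]
    group
  · rw [hc2 fun e => hp2 ((eq_two_iff hp hF).1 e), if_pos ⟨h3, by rw [hK]; exact h4⟩]
  · rw [hc2 fun e => hp2 ((eq_two_iff hp hF).1 e), if_neg (by rw [hK]; exact h3)]

set_option maxHeartbeats 4000000 in
theorem S2736_core (hk : 4 ≤ k) (Φ : (Fin (k + 1) ⊕ Fin (k + 1) → F) → F) (hΦ : ⇑(qPlus (k + 1) F) = Φ)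
    (x δ : MulAut (Cfsg.POmega F Φ)) (hx : FieldHyp Φ x ∨ GraphFieldHyp Φ x) {r : ℕ} (hr : r.Prime)
    (hxr : orderOf x = r) (hδ : δ ∈ plusInn k F Φ) :
    orderOf (δ * x) = r ↔ Cfsg.IsConjUnder (plusInn k F Φ) x (δ * x) := by
  subst hΦ
  have h : EvQ (qPlus (k + 1) F) (k + 1) := evQ_plus (by omega)
  rw [plusInn_eq h] at hδ ⊢
  rcases hx with hx | hx
  · obtain ⟨α, σ, hσ, hx⟩ := fieldHyp_form hx
    exact plus_coset h (plusDecomp_of_five hk h 1) hσ hx hr hxr hδ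
  · obtain ⟨α, σ, C, hσ, -, hx⟩ := graphHyp_form h hx
    exact plus_coset h (plusDecomp_of_five hk h C) hσ hx hr hxr hδ

end PO

end H55
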