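import Cfsg.Agent.H55.POTrans
import Cfsg.Agent.H44.SimClassesMinus
import Cfsg.Agent.H44.Classes
import Cfsg.Agent.H44.Omega

/-!
Base change of forms, and the invariant of similarities that detects the interchange of the two classes
of maximal singular subspaces, in every characteristic.
-/

set_option autoImplicit false

namespace H55

namespace PO

open Matrix H43 H44

section Ext

variable {K F : Type*} [Field K] [Field F] {κ ι : Type} [Fintype κ] [DecidableEq κ] [Fintype ι] [DecidableEq ι]

/-- A form `Q` obtained from `R` by a change of scalars and of coordinates. -/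
structure Ext (R : QuadraticForm K (κ → K)) (Q : QuadraticForm F (ι → F)) where
  j : K →+* F
  f : (κ → K) →+ (ι → F)
  f_smul : ∀ (a : K) v, f (a • v) = j a • f v
  span : Submodule.span F (Set.range f) = ⊤
  z : Fˣ
  qf : ∀ v, Q (f v) = (z : F) * j (R v)
  e : GL κ K →* GL ι F
  e_f : ∀ h v, (e h : Matrix ι ι F) *ᵥ f v = f ((h : Matrix κ κ K) *ᵥ v)
  det_e : ∀ h : GL κ K, (e h : Matrix ι ι F).det = j (h : Matrix κ κ K).det

/-- Quadratic forms agreeing on a spanning additive subgroup are equal. -/
theorem qext {V : Type*} [AddCommGroup V] [Module F V] {A B : QuadraticForm F V} {M : Type*}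
    [AddCommGroup M] (f : M →+ V) (hspan : Submodule.span F (Set.range f) = ⊤)
    (h : ∀ v, A (f v) = B (f v)) (x : V) : A x = B x := by
  have hpol : ∀ v w, polB A (f v) (f w) = polB B (f v) (f w) := fun v w => by
    simp only [polB_apply, QuadraticMap.polar, ← map_add, h]
  have hB : polB A = polB B := LinearMap.ext_on_range hspan fun v =>
    LinearMap.ext_on_range hspan fun w => hpol v w
  have hx : x ∈ Submodule.span F (Set.range f) := by rw [hspan]; trivial
  induction hx using Submodule.span_induction with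
  | mem y hy => obtain ⟨v, rfl⟩ := hy; exact h v
  | zero => simp
  | add y w _ _ hy hw => rw [qmap_add, qmap_add, hy, hw, hB]
  | smul a y _ hy => rw [qmap_smul, qmap_smul, hy]

theorem mat_ext {M : Type*} [AddCommGroup M] (f : M →+ (ι → F))
    (hspan : Submodule.span F (Set.range f) = ⊤) {A B : GL ι F}
    (h : ∀ v, (A : Matrix ι ι F) *ᵥ f v = (B : Matrix ι ι F) *ᵥ f v) : A = B := by
  apply Units.ext
  apply Matrix.toLin'.injective
  exact LinearMap.ext_on_range hspan fun v => by simpa [Matrix.toLin'_apply] using h v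

variable {R : QuadraticForm K (κ → K)} {Q : QuadraticForm F (ι → F)} (E : Ext R Q)

theorem Ext.map_similar {g : GL κ K} {c : K} (hg : ∀ v, R ((g : Matrix κ κ K) *ᵥ v) = c * R v)
    (x : ι → F) : Q ((E.e g : Matrix ι ι F) *ᵥ x) = E.j c * Q x :=
  qext (A := Q.comp (Matrix.toLin' (E.e g : Matrix ι ι F))) (B := E.j c • Q) E.f E.span
    (fun v => by
      simp only [QuadraticMap.comp_apply, Matrix.toLin'_apply, QuadraticMap.smul_apply, smul_eq_mul,
        E.e_f, E.qf, hg, map_mul]
      ring) x

/-- Base change on similarities. -/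
noncomputable def Ext.sim : simG R →* simG Q :=
  MonoidHom.codRestrict (E.e.comp (simG R).subtype) _ fun g => by
    obtain ⟨c, hc⟩ := g.2
    exact ⟨Units.map E.j.toMonoidHom c, E.map_similar hc⟩

theorem Ext.coe_sim (g : simG R) : (E.sim g).1 = E.e g.1 := rfl

theorem Ext.sim_mulVec (g : simG R) (v : κ → K) :
    ((E.sim g).1 : Matrix ι ι F) *ᵥ E.f v = E.f ((g.1 : Matrix κ κ K) *ᵥ v) := E.e_f g.1 v

theorem Ext.sim_scalar (c : Kˣ) :
    E.sim (scalarHom R c) = scalarHom Q (Units.map E.j.toMonoidHom c) := by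
  refine Subtype.ext (mat_ext E.f E.span fun v => ?_)
  rw [Ext.sim_mulVec, scalarHom_mulVec, scalarHom_mulVec, E.f_smul]
  rfl

/-- Base change on isometries. -/
noncomputable def Ext.orth : orthGroup R →* orthGroup Q :=
  (toOrth Q).toMonoidHom.comp ((MonoidHom.codRestrict (E.e.comp (Cfsg.isometryGroup K ⇑R).subtype) _
    (fun g => mem_isometry.2 fun x => by
      rw [MonoidHom.comp_apply, E.map_similar (c := 1) (fun v => by
        rw [one_mul]; exact mem_isometry.1 g.2 v), map_one, one_mul])).comp (toOrth R).symm.toMonoidHom)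

theorem Ext.orth_apply (x : orthGroup R) (v : κ → K) : (E.orth x).1 (E.f v) = E.f (x.1 v) := by
  show (toOrth Q _).1 (E.f v) = _
  rw [toOrth_apply]
  show (E.e _ : Matrix ι ι F) *ᵥ E.f v = _
  rw [E.e_f]
  show E.f ((((toOrth R).symm x).1 : Matrix κ κ K) *ᵥ v) = _
  rw [← toOrth_apply, MulEquiv.apply_symm_apply]

theorem Ext.sim_orthSim (x : orthGroup R) : E.sim (orthSim R x) = orthSim Q (E.orth x) := by
  refine Subtype.ext (mat_ext E.f E.span fun v => ?_)
  rw [Ext.sim_mulVec, orthSim_mulVec, orthSim_mulVec, E.orth_apply]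

theorem Ext.polB_f (v w : κ → K) : polB Q (E.f v) (E.f w) = (E.z : F) * E.j (polB R v w) := by
  simp only [polB_apply, QuadraticMap.polar, ← map_add, E.qf, map_sub]
  ring

theorem Ext.q_ne_zero {v : κ → K} (hv : R v ≠ 0) : Q (E.f v) ≠ 0 := by
  rw [E.qf]
  exact mul_ne_zero E.z.ne_zero ((map_ne_zero E.j).2 hv)

theorem Ext.orth_refl {v : κ → K} (hv : R v ≠ 0) : E.orth (refl R v) = refl Q (E.f v) := by
  refine Subtype.ext (LinearEquiv.toLinearMap_injective (LinearMap.ext_on_range E.span fun w => ?_))
  show (E.orth (refl R v)).1 (E.f w) = (refl Q (E.f v)).1 (E.f w)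
  rw [E.orth_apply, refl_apply, refl_apply, map_sub, E.f_smul, E.qf, E.polB_f]
  congr 2
  rw [map_mul, map_inv₀]
  field_simp

theorem Ext.dickson_orth (hR : (polB R).Nondegenerate) (hgR : ReflGenerates K (κ → K))
    (hQ : (polB Q).Nondegenerate) (hgQ : ReflGenerates F (ι → F)) (x : orthGroup R) :
    dickson (E.orth x) = dickson x := by
  have hx : x ∈ Subgroup.closure (reflSet R) := by rw [closure_reflSet hR hgR]; trivial
  induction hx using Subgroup.closure_induction with
  | mem y hy =>
    obtain ⟨v, hv, rfl⟩ := hy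
    rw [E.orth_refl hv, dickson_refl hQ (E.q_ne_zero hv), dickson_refl hR hv]
  | one => rw [map_one, dickson_one, dickson_one]
  | mul a b _ _ ha hb => rw [map_mul, dickson_mul hQ hgQ, dickson_mul hR hgR, ha, hb]
  | inv a _ ha =>
    have h1 := dickson_mul hQ hgQ (E.orth a⁻¹) (E.orth a)
    rw [← map_mul, inv_mul_cancel, map_one, dickson_one, ha] at h1
    have h2 := dickson_mul hR hgR a⁻¹ a
    rw [inv_mul_cancel, dickson_one] at h2
    exact mul_right_cancel (h1.symm.trans h2)

theorem Ext.spinor_orth (hR : (polB R).Nondegenerate) (hgR : ReflGenerates K (κ → K))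
    (hQ : (polB Q).Nondegenerate) (hgQ : ReflGenerates F (ι → F))
    (hsq : ∀ a : K, a ≠ 0 → sqc ((E.z : F) * E.j a) = 1) (x : orthGroup R) :
    spinor (E.orth x) = 1 := by
  have hx : x ∈ Subgroup.closure (reflSet R) := by rw [closure_reflSet hR hgR]; trivial
  induction hx using Subgroup.closure_induction with
  | mem y hy =>
    obtain ⟨v, hv, rfl⟩ := hy
    rw [E.orth_refl hv, spinor_refl hQ (E.q_ne_zero hv), E.qf]
    exact hsq _ hv
  | one => rw [map_one, spinor_one hQ]
  | mul a b _ _ ha hb => rw [map_mul, spinor_mul hQ hgQ, ha, hb, one_mul]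
  | inv a _ ha =>
    have h1 := spinor_mul hQ hgQ (E.orth a⁻¹) (E.orth a)
    rw [← map_mul, inv_mul_cancel, map_one, spinor_one hQ, ha, mul_one] at h1
    exact h1.symm

end Ext

/-- Change of coordinates as a base change. -/
noncomputable def extOfEquiv {F : Type*} [Field F] {κ ι : Type} [Fintype κ] [DecidableEq κ] [Fintype ι]
    [DecidableEq ι] {R : QuadraticForm F (κ → F)} {Q : QuadraticForm F (ι → F)}
    (T : (κ → F) ≃ₗ[F] (ι → F)) (z : Fˣ) (hT : ∀ v, Q (T v) = (z : F) * R v) : Ext R Q where
  j := RingHom.id F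
  f := T.toLinearMap.toAddMonoidHom
  f_smul a v := T.map_smul a v
  span := by
    rw [show Set.range (T.toLinearMap.toAddMonoidHom) = Set.univ from T.surjective.range_eq,
      Submodule.span_univ]
  z := z
  qf := hT
  e := (glConj T).toMonoidHom
  e_f h v := glConj_mulVec T h v
  det_e h := by
    show (glConj T h : Matrix ι ι F).det = (h : Matrix κ κ F).det
    rw [← LinearMap.det_toLin', ← LinearMap.det_toLin', ← LinearMap.det_conj (Matrix.toLin' (h : Matrix κ κ F)) T]
    congr 1
    refine LinearMap.ext fun w => ?_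
    obtain ⟨v, rfl⟩ := T.surjective w
    simp [glConj_mulVec]

/-- A homomorphism of fields as a base change. -/
noncomputable def extOfHom {K F : Type*} [Field K] [Field F] {ι : Type} [Fintype ι] [DecidableEq ι]
    {R : QuadraticForm K (ι → K)} {Q : QuadraticForm F (ι → F)} (j : K →+* F)
    (hj : ∀ v : ι → K, Q (fun i => j (v i)) = j (R v)) : Ext R Q where
  j := j
  f := { toFun := fun v i => j (v i), map_zero' := by ext; simp, map_add' := fun v w => by ext; simp }
  f_smul a v := by ext; simp
  span := by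
    rw [eq_top_iff, ← (Pi.basisFun F ι).span_eq]
    refine Submodule.span_mono ?_
    rintro _ ⟨i, rfl⟩
    refine ⟨Pi.single i 1, funext fun k => ?_⟩
    by_cases h : k = i
    · subst h; simp
    · simp [h]
  z := 1
  qf v := by rw [Units.val_one, one_mul]; exact hj v
  e := Matrix.GeneralLinearGroup.map j
  e_f h v := map_mulVec j (h : Matrix ι ι K) v
  det_e h := (RingHom.map_det j (h : Matrix ι ι K)).symm

/-! ### The invariant -/

section Swap

variable {F : Type*} [Field F] [Finite F] {ι : Type} [Fintype ι] [DecidableEq ι]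
  {Q : QuadraticForm F (ι → F)} {n : ℕ}

/-- A non-degenerate form in dimension `2n ≥ 6`, any characteristic. -/
structure EvQ (Q : QuadraticForm F (ι → F)) (n : ℕ) : Prop where
  nondeg : (polB Q).Nondegenerate
  card : Fintype.card ι = 2 * n
  three : 3 ≤ n

omit [Finite F] in
theorem EvQ.five (h : EvQ Q n) : 5 ≤ Fintype.card ι := by
  have := h.three; rw [h.card]; omega

omit [Finite F] in
theorem EvQ.evenQ (h : EvQ Q n) (h2 : (2 : F) ≠ 0) : EvenQ Q n := ⟨h.nondeg, h.card, h.three, h2⟩

theorem exists_ne_zero (hQ : (polB Q).Nondegenerate) (h5 : 5 ≤ Fintype.card ι) : ∃ v, Q v ≠ 0 := by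
  obtain ⟨v, hv⟩ := exists_qmap_eq hQ (by simp; omega) (1 : F) one_ne_zero
  exact ⟨v, by rw [hv]; exact one_ne_zero⟩

omit [Finite F] in
theorem simMu_eq {v : ι → F} (hv : Q v ≠ 0) {g : simG Q} {c : F}
    (hc : ∀ v, Q ((g.1 : Matrix ι ι F) *ᵥ v) = c * Q v) : (simMu g : F) = c :=
  mul_right_cancel₀ hv ((simMu_spec g v).symm.trans (hc v))

omit [Finite F] in
theorem simMu_mul {v : ι → F} (hv : Q v ≠ 0) (g g' : simG Q) : simMu (g * g') = simMu g * simMu g' :=
  Units.ext (simMu_eq hv fun v => by
    rw [Subgroup.coe_mul, Units.val_mul, ← mulVec_mulVec, simMu_spec, simMu_spec, Units.val_mul, mul_assoc])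

omit [Finite F] in
/-- A similarity with square multiplier is a scalar times an isometry. -/
theorem exists_scalar_orth (g : simG Q) (w : Fˣ) (hw : simMu g = w * w) :
    ∃ x, g = scalarHom Q w * orthSim Q x := by
  set y : simG Q := scalarHom Q w⁻¹ * g
  have hy : y.1 ∈ Cfsg.isometryGroup F ⇑Q := mem_isometry.2 fun v => by
    rw [Subgroup.coe_mul, Units.val_mul, ← mulVec_mulVec, scalarHom_mulVec, qmap_smul, simMu_spec, hw,
      Units.val_mul, Units.val_inv_eq_inv_val]
    field_simp
  refine ⟨toOrth Q ⟨y.1, hy⟩, ?_⟩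
  have : orthSim Q (toOrth Q ⟨y.1, hy⟩) = y := simG_ext fun v => by rw [orthSim_mulVec, toOrth_apply]
  rw [this, ← mul_assoc, ← map_mul, mul_inv_cancel, map_one, one_mul]

theorem exists_sqrt (h2 : (2 : F) = 0) (c : Fˣ) : ∃ w : Fˣ, c = w * w := by
  obtain ⟨w, hw⟩ := isSquare_of_two_eq_zero h2 (c : F)
  exact ⟨Units.mk0 w fun h => c.ne_zero (by rw [hw, h, mul_zero]), Units.ext hw⟩

omit [Finite F] in
theorem sqrt_unique (h2 : (2 : F) = 0) {a b : Fˣ} (h : a * a = b * b) : a = b := by
  have e : (a : F) * a = b * b := congrArg Units.val h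
  have : ((a : F) - b) * ((a : F) - b) = 0 := by linear_combination e + ((b : F) * b - a * b) * h2
  exact Units.ext (sub_eq_zero.1 (mul_self_eq_zero.1 this))

theorem EvQ.gen (h : EvQ Q n) : ReflGenerates F (ι → F) := by
  haveI := Fintype.ofFinite F
  have := h.three
  exact H43.reflGenerates_of_card (Or.inr (by simp [h.card]; omega))

open Classical in
/-- The value of the invariant. -/
noncomputable def swapFun (h : EvQ Q n) (g : simG Q) : Multiplicative (ZMod 2) :=
  if h2 : (2 : F) = 0 then dickson (exists_scalar_orth g _ (exists_sqrt h2 (simMu g)).choose_spec).choose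
  else if etaHom (h.evenQ h2) g = 1 then 1 else Multiplicative.ofAdd 1

theorem swapFun_two (h : EvQ Q n) (h2 : (2 : F) = 0) (c : Fˣ) (x : orthGroup Q) :
    swapFun h (scalarHom Q c * orthSim Q x) = dickson x := by
  rw [swapFun, dif_pos h2]
  obtain ⟨v, hv⟩ := exists_ne_zero h.nondeg h.five
  have hmu : simMu (scalarHom Q c * orthSim Q x) = c * c := Units.ext (simMu_eq hv fun v => by
    rw [Subgroup.coe_mul, Units.val_mul, ← mulVec_mulVec, scalarHom_mulVec, qmap_smul, orthSim_mulVec,
      orth_qmap, Units.val_mul])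
  have key : ∀ (w : Fˣ), w * w = simMu (scalarHom Q c * orthSim Q x) →
      ∀ hx : ∃ y, scalarHom Q c * orthSim Q x = scalarHom Q w * orthSim Q y, dickson hx.choose = dickson x := by
    intro w hw hx
    obtain rfl : w = c := sqrt_unique h2 (hw.trans hmu)
    have h1 := hx.choose_spec
    rw [mul_right_inj] at h1
    exact congrArg dickson (orthSim_injective h1).symm
  exact key _ (exists_sqrt h2 _).choose_spec.symm _

theorem exists_two_decomp (h2 : (2 : F) = 0) (g : simG Q) :
    ∃ c x, g = scalarHom Q c * orthSim Q x := by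
  obtain ⟨w, hw⟩ := exists_sqrt h2 (simMu g)
  exact ⟨w, exists_scalar_orth g w hw⟩

theorem swapFun_odd (h : EvQ Q n) (h2 : (2 : F) ≠ 0) (g : simG Q) :
    swapFun h g = 1 ↔ etaHom (h.evenQ h2) g = 1 := by
  rw [swapFun, dif_neg h2]
  split_ifs with he
  · simp [he]
  · simp [he]

/-- The homomorphism to `ℤ/2` detecting similarities that interchange the classes. -/
noncomputable def swapH (h : EvQ Q n) : simG Q →* Multiplicative (ZMod 2) :=
  MonoidHom.mk' (swapFun h) fun a b => by
    by_cases h2 : (2 : F) = 0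
    · obtain ⟨c, x, rfl⟩ := exists_two_decomp h2 a
      obtain ⟨d, y, rfl⟩ := exists_two_decomp h2 b
      have e : scalarHom Q c * orthSim Q x * (scalarHom Q d * orthSim Q y) =
          scalarHom Q (c * d) * orthSim Q (x * y) := by
        rw [map_mul, map_mul, mul_assoc, ← mul_assoc (orthSim Q x), ← scalarHom_central d (orthSim Q x)]
        simp [mul_assoc]
      rw [e, swapFun_two h h2, swapFun_two h h2, swapFun_two h h2, dickson_mul h.nondeg h.gen]
    · have ha := etaHom_cases (h.evenQ h2) a
      have hb := etaHom_cases (h.evenQ h2) b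
      have hne := neg_one_ne_one_units (h.evenQ h2)
      simp only [swapFun, dif_neg h2, map_mul]
      rcases ha with ha | ha <;> rcases hb with hb | hb <;> simp [ha, hb, hne] <;> decide

theorem swapH_scalar (h : EvQ Q n) (c : Fˣ) : swapH h (scalarHom Q c) = 1 := by
  by_cases h2 : (2 : F) = 0
  · have := swapFun_two h h2 c 1
    rwa [map_one, mul_one, dickson_one] at this
  · exact (swapFun_odd h h2 _).2 (etaHom_scalar _ c)

theorem swapH_orth (h : EvQ Q n) (x : orthGroup Q) : swapH h (orthSim Q x) = dickson x := by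
  by_cases h2 : (2 : F) = 0
  · have := swapFun_two h h2 1 x
    rwa [map_one, one_mul] at this
  · rcases mulTwo_cases (dickson x) with e | e <;> rw [e]
    · refine (swapFun_odd h h2 _).2 ?_
      rw [etaHom_orthSim]
      exact (dickson_eq_one_iff h.nondeg h2 x).1 e
    · refine ((mulTwo_cases _).resolve_left fun e1 => ?_)
      have h1 := (swapFun_odd h h2 _).1 e1
      rw [etaHom_orthSim] at h1
      rw [(dickson_eq_one_iff h.nondeg h2 x).2 h1] at e
      exact absurd e (by decide)

theorem swapH_refl (h : EvQ Q n) {v : ι → F} (hv : Q v ≠ 0) :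
    swapH h (orthSim Q (refl Q v)) = Multiplicative.ofAdd 1 := by
  rw [swapH_orth, dickson_refl h.nondeg hv]

/-- The similarities preserving the classes. -/
noncomputable def keep (h : EvQ Q n) : Subgroup (simG Q) := (swapH h).ker

theorem mem_keep {h : EvQ Q n} {g : simG Q} : g ∈ keep h ↔ swapH h g = 1 := MonoidHom.mem_ker

end Swap

section SwapExt

variable {K F : Type*} [Field K] [Field F] [Finite K] [Finite F] {κ ι : Type} [Fintype κ] [DecidableEq κ]
  [Fintype ι] [DecidableEq ι] {R : QuadraticForm K (κ → K)} {Q : QuadraticForm F (ι → F)} {n : ℕ}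

/-- The invariant is unchanged by base change. -/
theorem swapH_sim (E : Ext R Q) (hR : EvQ R n) (hQ : EvQ Q n) (g : simG R) :
    swapH hQ (E.sim g) = swapH hR g := by
  by_cases h2 : (2 : K) = 0
  · obtain ⟨c, x, rfl⟩ := exists_two_decomp h2 g
    rw [map_mul, Ext.sim_scalar, Ext.sim_orthSim, map_mul, map_mul, swapH_scalar, swapH_scalar,
      swapH_orth, swapH_orth, E.dickson_orth hR.nondeg hR.gen hQ.nondeg hQ.gen]
  · have h2F : (2 : F) ≠ 0 := by
      rw [← map_ofNat E.j 2]; exact (map_ne_zero E.j).2 h2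
    have hiff : etaHom (hQ.evenQ h2F) (E.sim g) = 1 ↔ etaHom (hR.evenQ h2) g = 1 := by
      rw [etaHom_apply, etaHom_apply, div_eq_one, div_eq_one, Units.ext_iff, Units.ext_iff]
      simp only [GeneralLinearGroup.val_det_apply, Units.val_pow_eq_pow_val]
      rw [muHom_eq (hQ.evenQ h2F) (E.map_similar (muHom_spec (hR.evenQ h2) g)), E.coe_sim, E.det_e,
        ← map_pow, E.j.injective.eq_iff]
    have h1 := swapFun_odd hQ h2F (E.sim g)
    have h2' := swapFun_odd hR h2 g
    show swapFun hQ _ = swapFun hR g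
    rcases mulTwo_cases (swapFun hR g) with e | e <;> rw [e]
    · exact h1.2 (hiff.2 (h2'.1 e))
    · refine (mulTwo_cases _).resolve_left fun e1 => ?_
      rw [h2'.2 (hiff.1 (h1.1 e1))] at e
      exact absurd e (by decide)

end SwapExt

end PO

end H55
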