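import Cfsg.Agent.H55.POPlusCore
import Cfsg.Agent.H43.D4.Count

/-!
Field automorphisms of `PΩ⁺₈`: triality commutes with them, so every conjugate of a field
automorphism is still a semilinear element in the same coset of the inner-diagonal group.
-/

set_option autoImplicit false

namespace H55

namespace PO

open Matrix H43 H44 H43.D4 H43.AutPO

variable {F : Type*} [Field F] [Finite F]

set_option maxHeartbeats 1000000 in
/-- Triality, together with its defining property (argument of `H43.D4.exists_triality`). -/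
theorem exists_triality_nat : ∃ θ : MulAut (POm (onorm F)), ¬ PointPres θ ∧
    ∀ g, MulAut.conj (θ (AutPO.pmk (onorm F) g)) = triHom F g := by
  classical
  haveI : Finite (V8 F) := Module.finite_of_finite F
  haveI := finite_om (Q := onorm F)
  have hex : ∀ g : Om (onorm F), ∃ k : POm (onorm F), triHom F g = MulAut.conj k := fun g => by
    obtain ⟨k, hk, hkg⟩ := triHom_range_le ⟨g, rfl⟩
    exact ⟨AutPO.pmk (onorm F) ⟨k, hk⟩, by rw [← hkg, ← orthHom_om]⟩
  choose k hk using hex
  let θ₀ : Om (onorm F) →* POm (onorm F) := MonoidHom.mk' k fun a b =>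
    conj_pom_injective (by rw [← hk, map_mul, map_mul, hk, hk])
  have hθ : ∀ g, triHom F g = MulAut.conj (θ₀ g) := hk
  -- the distinguished element
  let a : V8 F := oone + Pi.single (.inl 1) 1
  have hna : onorm F a = 1 := by rw [onorm_apply]; simp [a, oone]
  have hanot : a ∉ F ∙ oone := by
    intro h
    obtain ⟨t, ht⟩ := Submodule.mem_span_singleton.1 h
    have := congrFun ht (.inl 1)
    simp [a, oone] at this
  have ha0 : onorm F a ≠ 0 := by rw [hna]; exact one_ne_zero
  have h1ne : onorm F (oone : V8 F) ≠ 0 := by rw [onorm_one]; exact one_ne_zero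
  have hmem : refl (onorm F) a * refl (onorm F) oone ∈ Om (onorm F) :=
    refl_mul_refl_mem_commutator base_onorm.nd (Or.inr (by
      show Module.finrank F (Fin 4 ⊕ Fin 4 → F) ≠ 4
      rw [finrank_qPlus]; omega)) (le_trans (by norm_num) base_onorm.dim) ha0 h1ne
      (by rw [hna, onorm_one])
  set ga : Om (onorm F) := ⟨_, hmem⟩
  have htri : triHom F ga = (lmul a ha0).pAut := triHom_eq (isTri_gen ha0)
  obtain ⟨ka, hka⟩ := AutPO.pmk_surjective (Q := onorm F) (θ₀ ga)
  -- `L_a` is `ka` up to a scalar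
  have hL : ∀ x, ∃ l : F, omul a x = l • ka.1.1 x := by
    have h1 : ((Semi.ofOrth ka.1).inv.comp (lmul a ha0)).pAut = 1 := by
      rw [Semi.pAut_comp, Semi.pAut_inv, ← htri, hθ, ← hka, ← orthHom_om]
      exact inv_mul_cancel _
    have hfix : ∀ z, onorm F z = 0 →
        ((Semi.ofOrth ka.1).inv.comp (lmul a ha0)).toAddEquiv z ∈ F ∙ z := by
      intro z hz
      rcases eq_or_ne z 0 with rfl | hz0
      · rw [map_zero]; exact zero_mem _
      refine mem_span_of_pStab_eq base_onorm hz0 hz ?_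
      rw [← Semi.pStab_map, h1]
      exact (Subgroup.map_id _).symm
    obtain ⟨-, μ, -, -, hμ⟩ := Semi.eq_scalar _ base_onorm hfix
    intro x
    refine ⟨μ, ?_⟩
    have h2 : ka.1.1.symm (omul a x) = μ • x := hμ x
    rw [← map_smul, ← h2, LinearEquiv.apply_symm_apply]
  have hnontriv : ∀ g : Om (onorm F), θ₀ g = 1 → g ∈ Subgroup.center (Om (onorm F)) := by
    intro g hg
    rcases normal_scalar_or_top base_onorm.nd base_onorm.five θ₀.ker inferInstance with h | h
    · exact scalar_mem_center _ (h g hg)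
    exfalso
    have h1 : θ₀ ga = 1 := MonoidHom.mem_ker.1 (h ▸ Subgroup.mem_top ga)
    rw [h1] at hka
    have hc := mem_center_of_pmk hka
    obtain ⟨l, hl⟩ := hL oone
    rw [omul_one] at hl
    rcases center_scalar base_onorm.nd base_onorm.five ka hc with h2 | h2
    · rw [h2, orth_one_apply] at hl
      exact hanot (Submodule.mem_span_singleton.2 ⟨l, hl.symm⟩)
    · rw [h2, negOrth_apply] at hl
      exact hanot (Submodule.mem_span_singleton.2 ⟨-l, by rw [hl, neg_smul, smul_neg]⟩)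
  have hker : θ₀.ker ≤ Subgroup.center (Om (onorm F)) := fun g hg => hnontriv g hg
  have hsurj : Function.Surjective θ₀ := by
    rw [← MonoidHom.range_eq_top]
    apply Subgroup.eq_top_of_card_eq
    refine le_antisymm (Subgroup.card_le_card_group _) ?_
    have h1 : Nat.card θ₀.range * Nat.card θ₀.ker = Nat.card (Om (onorm F)) := by
      rw [← Nat.card_congr (QuotientGroup.quotientKerEquivRange θ₀).toEquiv,
        ← Subgroup.card_eq_card_quotient_mul_card_subgroup]
    have h2 := Subgroup.card_eq_card_quotient_mul_card_subgroup (Subgroup.center (Om (onorm F)))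
    have h3 : Nat.card θ₀.ker ≤ Nat.card (Subgroup.center (Om (onorm F))) :=
      Subgroup.card_le_of_le hker
    have h4 : 0 < Nat.card (Subgroup.center (Om (onorm F))) := Nat.card_pos
    refine Nat.le_of_mul_le_mul_right (c := Nat.card (Subgroup.center (Om (onorm F)))) ?_ h4
    show Nat.card (Om (onorm F) ⧸ Subgroup.center (Om (onorm F))) * _ ≤ _
    rw [← h2, ← h1]
    exact Nat.mul_le_mul_left _ h3
  have hcen : Subgroup.center (Om (onorm F)) ≤ θ₀.ker := by
    intro c hc
    rw [MonoidHom.mem_ker]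
    apply conj_pom_injective
    rw [map_one]
    refine MulEquiv.ext fun y => ?_
    obtain ⟨x, rfl⟩ := hsurj y
    rw [MulAut.conj_apply, MulAut.one_apply, ← map_inv, ← map_mul, ← map_mul,
      ← Subgroup.mem_center_iff.1 hc x, mul_inv_cancel_right]
  let θ₁ : POm (onorm F) →* POm (onorm F) := QuotientGroup.lift _ θ₀ hcen
  have hθ₁ : Function.Surjective θ₁ := fun y => by
    obtain ⟨x, rfl⟩ := hsurj y
    exact ⟨AutPO.pmk (onorm F) x, rfl⟩
  haveI : Finite (POm (onorm F)) := Finite.of_surjective _ (AutPO.pmk_surjective (Q := onorm F))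
  let θ : MulAut (POm (onorm F)) :=
    MulEquiv.ofBijective θ₁ ⟨Finite.injective_iff_surjective.2 hθ₁, hθ₁⟩
  refine ⟨θ, fun hP => ?_, fun g => (hθ g).symm⟩
  obtain ⟨g, hg⟩ := exists_semi_of_pointPres base_onorm θ hP
  -- `ka = ± g ga g⁻¹` has a nonsingular eigenvector
  have h1 : AutPO.pmk (onorm F) ka = AutPO.pmk (onorm F) (g.conjOm ga) := by
    rw [hka, ← Semi.pAut_pmk, hg]
    rfl
  have h2 : ka⁻¹ * g.conjOm ga ∈ Subgroup.center (Om (onorm F)) := QuotientGroup.eq.1 h1
  let x₀ : V8 F := Pi.single (.inl 2) 1 + Pi.single (.inr 2) 1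
  have hx₀ : onorm F x₀ = 1 := by rw [onorm_apply]; simp [x₀]
  have hfix : ga.1.1 x₀ = x₀ := by
    show (refl (onorm F) a * refl (onorm F) oone).1 x₀ = x₀
    rw [orth_mul_apply,
      show (refl (onorm F) oone).1 x₀ = x₀ from refl_fix (by rw [onorm_polB]; simp [x₀, oone]),
      refl_fix (by rw [onorm_polB]; simp [x₀, a, oone])]
  set y := g.toAddEquiv x₀
  have hy : onorm F y ≠ 0 := by rw [g.map_qmap', hx₀, map_one, mul_one]; exact g.c_ne
  have hky : (g.conjOm ga).1.1 y = y := by rw [Semi.conjOm_map, hfix]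
  have hky' : ∃ s : F, ka.1.1 y = s • y := by
    rcases center_scalar base_onorm.nd base_onorm.five _ h2 with h3 | h3
    · refine ⟨1, ?_⟩
      have h4 : ka.1.1.symm ((g.conjOm ga).1.1 y) = y := by
        show (ka⁻¹ * g.conjOm ga).1.1 y = y
        rw [h3, orth_one_apply]
      rw [hky] at h4
      rw [one_smul]
      conv_lhs => rw [← h4]
      rw [LinearEquiv.apply_symm_apply]
    · refine ⟨-1, ?_⟩
      have h4 : ka.1.1.symm ((g.conjOm ga).1.1 y) = -y := by
        show (ka⁻¹ * g.conjOm ga).1.1 y = -y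
        rw [h3, negOrth_apply]
      rw [hky] at h4
      have h5 := congrArg ka.1.1 h4
      rw [LinearEquiv.apply_symm_apply, map_neg] at h5
      rw [neg_smul, one_smul]
      exact (neg_eq_iff_eq_neg.1 h5.symm)
  obtain ⟨l, hl⟩ := hL y
  obtain ⟨s, hs⟩ := hky'
  rw [hs, smul_smul] at hl
  exact hy (eigen_singular hanot hl)


omit [Finite F] in
theorem omul_map (σ : F ≃+* F) (x y : V8 F) :
    (fun i => σ (omul x y i)) = omul (fun i => σ (x i)) (fun i => σ (y i)) := by
  funext i; rcases i with i | i <;> fin_cases i <;> simp [omul]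

/-- The entrywise field semisimilarity. -/
noncomputable def fieldSemi (σ : F ≃+* F) : Semi (onorm F) :=
  semiOf (onorm F) σ (LinearEquiv.refl F _) 1 one_ne_zero fun v => by
    show onorm F (fun i => σ (v i)) = _
    rw [one_mul, onorm_apply, onorm_apply]
    simp

omit [Finite F] in
theorem fieldSemi_apply (σ : F ≃+* F) (v : V8 F) : (fieldSemi σ).toAddEquiv v = fun i => σ (v i) := rfl

theorem triHom_field (σ : F ≃+* F) (g : Om (onorm F)) :
    triHom F ((fieldSemi σ).conjOm g) = (fieldSemi σ).pAut * triHom F g * (fieldSemi σ).pAut⁻¹ := by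
  obtain ⟨t, t', h⟩ : ∃ t t', IsTri g.1 t t' := commutator_le_triGroup g.2
  set P := fieldSemi σ
  have hl : ∀ u : Semi (onorm F), u.σ = RingEquiv.refl F → ((P.comp u).comp P.inv).σ = RingEquiv.refl F := by
    intro u hu
    refine RingEquiv.ext fun a => ?_
    show σ (u.σ (σ.symm a)) = a
    rw [hu]
    exact σ.apply_symm_apply a
  have h' : IsTri ((fieldSemi σ).conjOm g).1 ((P.comp t).comp P.inv) ((P.comp t').comp P.inv) := by
    refine ⟨hl t h.σl, hl t' h.σr, fun x y => ?_⟩
    obtain ⟨u, rfl⟩ := P.toAddEquiv.surjective x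
    obtain ⟨v, rfl⟩ := P.toAddEquiv.surjective y
    show _ = omul (P.toAddEquiv (t.toAddEquiv (P.toAddEquiv.symm (P.toAddEquiv u))))
      (P.toAddEquiv (t'.toAddEquiv (P.toAddEquiv.symm (P.toAddEquiv v))))
    rw [AddEquiv.symm_apply_apply, AddEquiv.symm_apply_apply, fieldSemi_apply, fieldSemi_apply,
      ← omul_map, ← fieldSemi_apply, Semi.conjOm_map, fieldSemi_apply σ (t.toAddEquiv u),
      fieldSemi_apply σ (t'.toAddEquiv v), ← omul_map, h.rel, ← fieldSemi_apply]
  rw [triHom_eq h', triHom_eq h, Semi.pAut_comp, Semi.pAut_comp, Semi.pAut_inv]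

theorem triality_comm {θ : MulAut (POm (onorm F))}
    (hθ : ∀ g, MulAut.conj (θ (AutPO.pmk (onorm F) g)) = triHom F g) (σ : F ≃+* F) :
    θ * (fieldSemi σ).pAut = (fieldSemi σ).pAut * θ := by
  refine MulEquiv.ext fun x => ?_
  obtain ⟨g, rfl⟩ := AutPO.pmk_surjective (Q := onorm F) x
  apply conj_pom_injective
  rw [MulAut.mul_apply, MulAut.mul_apply, Semi.pAut_pmk, hθ, triHom_field, ← hθ]
  refine MulEquiv.ext fun y => ?_
  simp [MulAut.mul_apply]

theorem refl_comm (σ : F ≃+* F) :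
    orthHom F (refl (onorm F) oone) * (fieldSemi σ).pAut =
      (fieldSemi σ).pAut * orthHom F (refl (onorm F) oone) := by
  show (Semi.ofOrth _).pAut * _ = _ * (Semi.ofOrth _).pAut
  rw [← Semi.pAut_comp, ← Semi.pAut_comp]
  congr 1
  refine Semi.ext' (fun v => ?_) (RingEquiv.ext fun a => rfl) (by simp [Semi.comp, Semi.ofOrth, fieldSemi, semiOf])
  show (refl (onorm F) oone).1 (fun i => σ (v i)) = fun i => σ ((refl (onorm F) oone).1 v i)
  rw [refl_apply, refl_apply, onorm_one, inv_one, one_mul, one_mul]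
  funext i
  rcases i with i | i <;> fin_cases i <;> simp [onorm_polB, oone]

set_option maxHeartbeats 4000000 in
/-- Every automorphism of `PΩ⁺₈` is a semisimilarity up to a factor commuting with the field. -/
theorem exists_comm_mul (σ : F ≃+* F) (α : MulAut (POm (onorm F))) :
    ∃ γ, γ * (fieldSemi σ).pAut = (fieldSemi σ).pAut * γ ∧ γ⁻¹ * α ∈ pAutRange (onorm F) := by
  classical
  letI := Fintype.ofFinite F
  haveI : Finite (V8 F) := Module.finite_of_finite F
  haveI := finite_om (Q := onorm F)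
  haveI : Finite (POm (onorm F)) := Finite.of_surjective _ (AutPO.pmk_surjective (Q := onorm F))
  haveI : Finite (MulAut (POm (onorm F))) :=
    Finite.of_injective (fun α => (α : POm (onorm F) → POm (onorm F))) DFunLike.coe_injective
  obtain ⟨θ, hθ, hθc⟩ := exists_triality_nat (F := F)
  have hθT : θ ∉ pAutRange (onorm F) := by
    rintro ⟨g, rfl⟩
    exact hθ fun z hz0 hz => ⟨g.toAddEquiv z, by simpa using hz0, g.map_singular hz, g.pStab_map z⟩
  obtain ⟨z₀, hz₀0, hz₀, hno⟩ : ∃ z, z ≠ 0 ∧ onorm F z = 0 ∧ ∀ z', z' ≠ 0 → onorm F z' = 0 →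
      (pStab (onorm F) z).map θ.toMonoidHom ≠ pStab (onorm F) z' := by
    by_contra hcon
    push Not at hcon
    exact hθ fun z hz0 hz => hcon z hz0 hz
  set S := pStab (onorm F) z₀
  obtain ⟨z', hz'0, hz', he⟩ | ⟨W₀, hW₀, hθS⟩ := map_pStab_cases θ hz₀0 hz₀
  · exact absurd he (hno z' hz'0 hz')
  obtain ⟨r, hr, hr1⟩ : ∃ r : O8 F, dickson r ≠ 1 ∧ r = refl (onorm F) oone :=
    ⟨_, by rw [dickson_refl nd8 (by rw [onorm_one]; exact one_ne_zero)]; decide, rfl⟩
  set ρ := orthHom F r
  have hρ : ρ ∈ pAutRange (onorm F) := ⟨Semi.ofOrth r, rfl⟩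
  have h2 : θ⁻¹ * (ρ * θ) ∉ pAutRange (onorm F) := by
    rintro ⟨g, hg⟩
    obtain ⟨x, hx⟩ := exists_conj_pStab hz₀0 hz₀ (z' := g.toAddEquiv z₀) (by simpa using hz₀0)
      (g.map_singular hz₀)
    have h3 : S.map (θ * (θ⁻¹ * (ρ * θ))).toMonoidHom =
        (S.map θ.toMonoidHom).map (MulAut.conj (θ x)).toMonoidHom := by
      rw [map_mul_aut, ← hg, Semi.pStab_map, hx, map_map_conj]
    rw [mul_inv_cancel_left, map_mul_aut, hθS, pW_map] at h3
    obtain ⟨k, hk⟩ := AutPO.pmk_surjective (Q := onorm F) (θ x)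
    rw [← hk, ← pW_smul] at h3
    have h4 := congrArg (Subgroup.comap (AutPO.pmk (onorm F))) h3
    rw [comap_pW, comap_pW] at h4
    refine ts_orbits_ne hW₀ hr k (ts_eq_of_stab_le ?_ ?_ h4.le)
    · exact ⟨(H44.finrank_map_orth _ W₀).trans hW₀.1, H44.map_singular _ hW₀.2⟩
    · exact ⟨(H44.finrank_map_orth k.1 W₀).trans hW₀.1, H44.map_singular k.1 hW₀.2⟩
  let reps : Fin 3 → MulAut (POm (onorm F)) := ![1, θ, ρ * θ]
  have hinj : Function.Injective fun i => (reps i : MulAut (POm (onorm F)) ⧸ pAutRange (onorm F)) := by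
    have n1 : (1 : MulAut (POm (onorm F)))⁻¹ * θ ∉ pAutRange (onorm F) := by rwa [inv_one, one_mul]
    have n2 : (1 : MulAut (POm (onorm F)))⁻¹ * (ρ * θ) ∉ pAutRange (onorm F) := by
      rw [inv_one, one_mul]
      exact fun h => hθT (by simpa using Subgroup.mul_mem _ (Subgroup.inv_mem _ hρ) h)
    intro i j hij
    fin_cases i <;> fin_cases j <;> simp only [reps, Matrix.cons_val_zero, Matrix.cons_val_one,
      Matrix.cons_val, Fin.isValue] at hij ⊢
    all_goals first
      | rfl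
      | exact absurd (QuotientGroup.eq.1 hij) n1
      | exact absurd (QuotientGroup.eq.1 hij.symm) n1
      | exact absurd (QuotientGroup.eq.1 hij) n2
      | exact absurd (QuotientGroup.eq.1 hij.symm) n2
      | exact absurd (QuotientGroup.eq.1 hij) h2
      | exact absurd (QuotientGroup.eq.1 hij.symm) h2
  have hbij : Function.Bijective fun i => (reps i : MulAut (POm (onorm F)) ⧸ pAutRange (onorm F)) :=
    hinj.bijective_of_nat_card_le (by rw [← Subgroup.index_eq_card, index_range, Nat.card_fin])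
  obtain ⟨i, hi⟩ := hbij.2 α
  refine ⟨reps i, ?_, QuotientGroup.eq.1 hi⟩
  fin_cases i
  · show (1 : MulAut (POm (onorm F))) * _ = _ * 1
    rw [one_mul, mul_one]
  · exact triality_comm hθc σ
  · show ρ * θ * _ = _ * (ρ * θ)
    rw [mul_assoc, triality_comm hθc, ← mul_assoc, ← mul_assoc]
    congr 1
    rw [show ρ = orthHom F r from rfl, hr1, refl_comm]

theorem pomegaEquiv_field (σ : F ≃+* F) (x : Cfsg.POmega F ⇑(qPlus 4 F)) :
    pomegaEquiv (qPlus 4 F) (fieldPO (qPlus 4 F) ⟨σ, invAut_qPlus σ 4⟩ x) =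
      (fieldSemi σ).pAut (pomegaEquiv (qPlus 4 F) x) := by
  induction x using QuotientGroup.induction_on with
  | _ s =>
    show AutPO.pmk (qPlus 4 F) (omegaEquiv _ _) = AutPO.pmk (onorm F) ((fieldSemi σ).conjOm (omegaEquiv (qPlus 4 F) s))
    congr 1
    refine Subtype.ext (orth_ext fun v => ?_)
    obtain ⟨w, rfl⟩ := (fieldSemi σ).toAddEquiv.surjective v
    refine Eq.trans ?_ (Semi.conjOm_map (fieldSemi σ) _ w).symm
    erw [coe_omegaEquiv, coe_omegaEquiv, toOrth_apply, toOrth_apply, fieldSemi_apply, fieldSemi_apply]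
    exact vecMap_mulVec σ _ w

set_option maxHeartbeats 1000000 in
/-- A conjugate of a field automorphism of `PΩ⁺₈` is semilinear in the same coset. -/
theorem plusDecomp_three (h : EvQ (qPlus (3 + 1) F) (3 + 1)) : PlusDecomp 3 F h 1 := by
  intro x α σ hx
  rw [map_one, one_mul] at hx
  set E := pomegaEquiv (qPlus 4 F)
  obtain ⟨γ, hc, s, hs⟩ := exists_comm_mul σ ((E.symm.trans α).trans E : MulAut (POm (onorm F)))
  set γ' : MulAut (Cfsg.POmega F ⇑(qPlus 4 F)) := (E.trans γ).trans E.symm with hγ'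
  set φ := fieldPO (qPlus 4 F) ⟨σ, invAut_qPlus σ 4⟩ with hφ
  have hγc : γ' * φ = φ * γ' := by
    refine MulEquiv.ext fun y => E.injective ?_
    exact (E.apply_symm_apply _).trans ((congrArg γ (pomegaEquiv_field σ y)).trans
      ((DFunLike.congr_fun hc (E y)).trans ((congrArg (fieldSemi σ).pAut (E.apply_symm_apply (γ (E y))).symm).trans
        (pomegaEquiv_field σ (E.symm (γ (E y)))).symm)))
  set β : MulAut (Cfsg.POmega F ⇑(qPlus 4 F)) := (E.trans s.inv.pAut).trans E.symm with hβ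
  have hαβ : α⁻¹ = β * γ'⁻¹ := by
    rw [eq_mul_inv_iff_mul_eq, inv_mul_eq_iff_eq_mul]
    have hα : ∀ z, E (α z) = γ (s.pAut (E z)) := fun z => by
      have e := congrArg γ (DFunLike.congr_fun hs (E z))
      refine Eq.trans ?_ e.symm
      refine Eq.trans ?_ (MulAut.apply_inv_self (M := POm (onorm F)) γ _).symm
      exact congrArg (fun w => E (α w)) (E.symm_apply_apply z).symm
    refine MulEquiv.ext fun y => E.injective ?_
    refine (E.apply_symm_apply _).trans (Eq.trans ?_ (hα _).symm)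
    refine congrArg γ ?_
    refine Eq.trans ?_ (congrArg s.pAut (E.apply_symm_apply _)).symm
    rw [Semi.pAut_inv]
    exact (MulAut.apply_inv_self _ _ _).symm
  have hpair : ∃ u : simG (qPlus 4 F), ∃ τ : F ≃+* F,
      β = simAut _ u * fieldPO _ ⟨τ, invAut_qPlus τ 4⟩ := by
    obtain ⟨u, -, hu⟩ := eq_of_induced (τ := ⟨s.inv.σ, invAut_qPlus _ 4⟩)
      (isSemisimilarityPair_semiMatrix (Q := qPlus 4 F) s.inv)
      (isInduced_semiMatrix (Q := qPlus 4 F) s.inv β fun y => MulEquiv.apply_symm_apply E _)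
    exact ⟨u, _, hu⟩
  obtain ⟨u, τ, hu⟩ := hpair
  have hxb : x = β * φ * β⁻¹ := by
    have e : x = α⁻¹ * φ * α := by rw [← hx]; group
    rw [e, show α = (β * γ'⁻¹)⁻¹ by rw [← hαβ, inv_inv]]
    calc (β * γ'⁻¹)⁻¹⁻¹ * φ * (β * γ'⁻¹)⁻¹ = β * (γ'⁻¹ * (φ * γ')) * β⁻¹ := by group
      _ = β * φ * β⁻¹ := by rw [← hγc, inv_mul_cancel_left]
  refine ⟨u * (simMap ⟨σ, invAut_qPlus σ 4⟩ u)⁻¹, ?_, ?_⟩
  · rw [map_mul, map_inv, swapH_simMap, mul_inv_cancel, map_one]
  · have e : fieldPO (qPlus 4 F) ⟨τ, invAut_qPlus τ 4⟩ * φ * (fieldPO _ ⟨τ, invAut_qPlus τ 4⟩)⁻¹ = φ := by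
      rw [hφ, ← map_mul, invAut_comm, map_mul, mul_inv_cancel_right]
    rw [hxb, hu]
    have e2 := simAut_mul_eq (1 : simG (qPlus 4 F)) ⟨σ, invAut_qPlus σ 4⟩ u
    rw [map_one, one_mul, mul_one] at e2
    rw [← e2, ← hφ]
    conv_rhs => rw [← e]
    group

end PO

end H55
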